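import Mathlib

/-!
# Symmetric powers: lifting and comparison with polynomials

`symLift`, `polyMap` (symmetric power into polynomials through coordinates), a left inverse of `polyMap`
and projectivity of symmetric powers of projective modules.
-/

set_option autoImplicit false

universe u v w

open scoped TensorProduct

namespace PP16Lib

variable {R ι : Type u} [CommRing R] {M : Type v} [AddCommGroup M] [Module R M]

/-- Linear map out of a symmetric power from a symmetric multilinear map. -/
noncomputable def symLift {N : Type w} [AddCommGroup N] [Module R N] (f : MultilinearMap R (fun _ : ι => M) N)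
    (hf : ∀ (e : Equiv.Perm ι) (x : ι → M), f (fun i => x (e i)) = f x) : SymmetricPower R ι M →ₗ[R] N :=
  let F : SymmetricPower R ι M →+ N :=
    AddCon.lift (addConGen (SymmetricPower.Rel R ι M)) (PiTensorProduct.lift f).toAddMonoidHom
      (AddCon.addConGen_le.2 fun x y h => by
        cases h with
        | perm e x =>
          refine AddCon.ker_apply.2 ?_
          simp only [LinearMap.toAddMonoidHom_coe]
          rw [PiTensorProduct.lift.tprod, PiTensorProduct.lift.tprod, hf])
  { toFun := F
    map_add' := map_add F
    map_smul' := fun r s => AddCon.induction_on s fun x => (PiTensorProduct.lift f).map_smul r x }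

theorem symLift_tprod {N : Type w} [AddCommGroup N] [Module R N] (f : MultilinearMap R (fun _ : ι => M) N)
    (hf : ∀ (e : Equiv.Perm ι) (x : ι → M), f (fun i => x (e i)) = f x) (x : ι → M) :
    symLift f hf (SymmetricPower.tprod R x) = f x :=
  PiTensorProduct.lift.tprod x

theorem sym_hom_ext {N : Type w} [AddCommGroup N] [Module R N] {g h : SymmetricPower R ι M →ₗ[R] N}
    (hgh : ∀ x, g (SymmetricPower.tprod R x) = h (SymmetricPower.tprod R x)) : g = h :=
  LinearMap.ext_on (SymmetricPower.span_tprod_eq_top R ι M) (by rintro _ ⟨x, rfl⟩; exact hgh x)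

theorem multilinear_ext_span [Finite ι] {N : Type w} [AddCommGroup N] [Module R N]
    {f g : MultilinearMap R (fun _ : ι => M) N} {α : Type*} (s : α → M) (hs : Submodule.span R (Set.range s) = ⊤)
    (h : ∀ a : ι → α, f (fun i => s (a i)) = g (fun i => s (a i))) : f = g := by
  have hsurj : Function.Surjective (Finsupp.linearCombination R s) := by
    rw [← LinearMap.range_eq_top, Finsupp.range_linearCombination, hs]
  have hcomp : (f.compLinearMap fun _ => Finsupp.linearCombination R s) =
      g.compLinearMap fun _ => Finsupp.linearCombination R s :=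
    Module.Basis.ext_multilinear (fun _ => Finsupp.basisSingleOne) fun a => by
      simpa using h a
  refine MultilinearMap.ext fun x => ?_
  choose y hy using fun i => hsurj (x i)
  have := congrArg (fun F => F y) hcomp
  simpa [hy] using this

theorem span_tprod_of_span [Finite ι] {α : Type*} (s : α → M) (hs : Submodule.span R (Set.range s) = ⊤) :
    Submodule.span R (Set.range fun a : ι → α => SymmetricPower.tprod R fun i => s (a i)) = ⊤ := by
  set W := Submodule.span R (Set.range fun a : ι → α => SymmetricPower.tprod R fun i => s (a i))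
  have h : W.mkQ.compMultilinearMap (SymmetricPower.tprod R (ι := ι) (M := M)) = 0 :=
    multilinear_ext_span s hs fun a => (Submodule.Quotient.mk_eq_zero W).2 (Submodule.subset_span ⟨a, rfl⟩)
  rw [eq_top_iff, ← SymmetricPower.span_tprod_eq_top R ι M, Submodule.span_le]
  rintro _ ⟨x, rfl⟩
  exact (Submodule.Quotient.mk_eq_zero W).1 (congrArg (fun F => F x) h)

variable {σ : Type w} [Fintype ι]

variable (R σ) in
/-- A coefficient vector as a linear form. -/
noncomputable def linForm : (σ →₀ R) →ₗ[R] MvPolynomial σ R := Finsupp.linearCombination R MvPolynomial.X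

theorem linForm_single (i : σ) : linForm R σ (Finsupp.single i 1) = MvPolynomial.X i := by
  rw [linForm, Finsupp.linearCombination_single, one_smul]

theorem isHomogeneous_linForm (c : σ →₀ R) : (linForm R σ c).IsHomogeneous 1 := by
  induction c using Finsupp.induction_linear with
  | zero => rw [map_zero]; exact MvPolynomial.isHomogeneous_zero _ _ _
  | add f g hf hg => rw [map_add]; exact hf.add hg
  | single i r =>
    rw [linForm, Finsupp.linearCombination_single]
    exact (MvPolynomial.homogeneousSubmodule σ R 1).smul_mem r (MvPolynomial.isHomogeneous_X R i)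

/-- `x ↦ ∏ i, linForm (j (x i))`. -/
noncomputable def polyMap (j : M →ₗ[R] σ →₀ R) : SymmetricPower R ι M →ₗ[R] MvPolynomial σ R :=
  symLift ((MultilinearMap.mkPiAlgebra R ι (MvPolynomial σ R)).compLinearMap fun _ => (linForm R σ).comp j)
    fun e x => by
      simp only [MultilinearMap.compLinearMap_apply, MultilinearMap.mkPiAlgebra_apply]
      exact Equiv.prod_comp e fun i => (linForm R σ).comp j (x i)

theorem polyMap_tprod (j : M →ₗ[R] σ →₀ R) (x : ι → M) :
    polyMap j (SymmetricPower.tprod R x) = ∏ i, linForm R σ (j (x i)) := by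
  rw [polyMap, symLift_tprod]
  simp

theorem isHomogeneous_polyMap (j : M →ₗ[R] σ →₀ R) (s : SymmetricPower R ι M) :
    (polyMap j s).IsHomogeneous (Fintype.card ι) := by
  have : Submodule.span R (Set.range (SymmetricPower.tprod R (ι := ι) (M := M))) ≤
      (MvPolynomial.homogeneousSubmodule σ R (Fintype.card ι)).comap (polyMap j) := by
    rw [Submodule.span_le]
    rintro _ ⟨x, rfl⟩
    rw [SetLike.mem_coe, Submodule.mem_comap, polyMap_tprod]
    have h := MvPolynomial.IsHomogeneous.prod Finset.univ (fun i => linForm R σ (j (x i))) (fun _ => 1)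
      fun i _ => isHomogeneous_linForm _
    simpa using h
  exact this (SymmetricPower.span_tprod_eq_top R ι M ▸ Submodule.mem_top)

theorem exists_perm_of_sum_single_eq (f g : ι → σ)
    (h : ∑ i, Finsupp.single (f i) (1 : ℕ) = ∑ i, Finsupp.single (g i) (1 : ℕ)) :
    ∃ e : Equiv.Perm ι, ∀ i, g (e i) = f i := by
  classical
  have hcard : ∀ k, Nonempty ({i // f i = k} ≃ {i // g i = k}) := fun k => by
    refine ⟨Fintype.equivOfCardEq ?_⟩
    have := DFunLike.congr_fun h k
    simp only [Finsupp.finsetSum_apply, Finsupp.single_apply] at this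
    rw [Finset.sum_boole, Finset.sum_boole] at this
    simpa [Fintype.card_subtype] using this
  refine ⟨Equiv.ofFiberEquiv fun k => (hcard k).some, fun i => ?_⟩
  exact Equiv.ofFiberEquiv_map _ i

/-- A left inverse of `polyMap`. -/
theorem exists_polyMap_leftInverse (j : M →ₗ[R] σ →₀ R) (q : (σ →₀ R) →ₗ[R] M) (hq : ∀ x, q (j x) = x) :
    ∃ g : MvPolynomial σ R →ₗ[R] SymmetricPower R ι M, ∀ s, g (polyMap j s) = s := by
  classical
  let val : (σ →₀ ℕ) → SymmetricPower R ι M := fun p =>
    if h : ∃ f : ι → σ, ∑ i, Finsupp.single (f i) 1 = p then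
      SymmetricPower.tprod R fun i => q (Finsupp.single (h.choose i) 1) else 0
  let g : MvPolynomial σ R →ₗ[R] SymmetricPower R ι M := (MvPolynomial.basisMonomials σ R).constr R val
  refine ⟨g, fun s => LinearMap.congr_fun (f := g.comp (polyMap j)) (g := LinearMap.id) (sym_hom_ext fun x => ?_) s⟩
  rw [LinearMap.comp_apply, LinearMap.id_apply, polyMap_tprod]
  have hml : g.compMultilinearMap
        ((MultilinearMap.mkPiAlgebra R ι (MvPolynomial σ R)).compLinearMap fun _ => linForm R σ) =
      (SymmetricPower.tprod R (ι := ι) (M := M)).compLinearMap fun _ => q := by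
    refine Module.Basis.ext_multilinear (fun _ => Finsupp.basisSingleOne) fun f => ?_
    simp only [Finsupp.coe_basisSingleOne, LinearMap.compMultilinearMap_apply, MultilinearMap.compLinearMap_apply,
      MultilinearMap.mkPiAlgebra_apply, linForm_single]
    have hm : (∏ i, MvPolynomial.X (f i) : MvPolynomial σ R) =
        MvPolynomial.basisMonomials σ R (∑ i, Finsupp.single (f i) 1) := by
      simp only [MvPolynomial.coe_basisMonomials, MvPolynomial.monomial_sum_one]
      rfl
    have hex : ∃ f' : ι → σ, ∑ i, Finsupp.single (f' i) 1 = ∑ i, Finsupp.single (f i) (1 : ℕ) := ⟨f, rfl⟩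
    rw [hm, Module.Basis.constr_basis]
    simp only [val, dif_pos hex]
    obtain ⟨e, he⟩ := exists_perm_of_sum_single_eq f _ hex.choose_spec.symm
    rw [← SymmetricPower.tprod_equiv e fun i => q (Finsupp.single (hex.choose i) 1)]
    simp only [he]
  have := congr_arg (fun F => F fun i => j (x i)) hml
  simpa [hq] using this

theorem polyMap_injective (j : M →ₗ[R] σ →₀ R) (q : (σ →₀ R) →ₗ[R] M) (hq : ∀ x, q (j x) = x) :
    Function.Injective (polyMap j (ι := ι)) := by
  obtain ⟨g, hg⟩ := exists_polyMap_leftInverse (ι := ι) j q hq
  exact Function.LeftInverse.injective hg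

theorem exists_coords [Module.Projective R M] :
    ∃ (j : M →ₗ[R] M →₀ R) (q : (M →₀ R) →ₗ[R] M), ∀ x, q (j x) = x := by
  obtain ⟨s, hs⟩ := (Module.projective_def (R := R) (P := M)).1 inferInstance
  exact ⟨s, Finsupp.linearCombination R id, hs⟩

theorem projective_symmetricPower [Module.Projective R M] : Module.Projective R (SymmetricPower R ι M) := by
  obtain ⟨j, q, hq⟩ := exists_coords (R := R) (M := M)
  obtain ⟨g, hg⟩ := exists_polyMap_leftInverse (ι := ι) j q hq
  exact Module.Projective.of_split (polyMap j) g (LinearMap.ext hg)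

end PP16Lib
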