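import Groth.Prelude.Def_PP16
import Mathlib

/-!
# Locally quasi-regular ideals, without localisations

`QRAway I f g`: `f` generates `I` and is quasi-regular after inverting `g`.
-/

set_option autoImplicit false

universe u v

open MvPolynomial

namespace PP16Lib

section

variable {R : Type u} [CommRing R]

/-- `f` is a quasi-regular sequence generating `I` once `g` is inverted. -/
def QRAway (I : Ideal R) {r : ℕ} (f : Fin r → R) (g : R) : Prop :=
  (∀ i, f i ∈ I) ∧ (∀ x ∈ I, ∃ N : ℕ, g ^ N * x ∈ Ideal.span (Set.range f)) ∧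
    ∀ (n : ℕ) (F : MvPolynomial (Fin r) R), F.IsHomogeneous n → eval f F ∈ I ^ (n + 1) →
      ∀ d, ∃ k : ℕ, g ^ k * F.coeff d ∈ I

theorem QRAway.mul {I : Ideal R} {r : ℕ} {f : Fin r → R} {g : R} (h : QRAway I f g) (g' : R) :
    QRAway I f (g * g') := by
  obtain ⟨h1, h2, h3⟩ := h
  refine ⟨h1, fun x hx => ?_, fun n F hF hFI d => ?_⟩
  · obtain ⟨N, hN⟩ := h2 x hx
    refine ⟨N, ?_⟩
    rw [mul_pow, mul_comm (g ^ N), mul_assoc]
    exact Ideal.mul_mem_left _ _ hN
  · obtain ⟨k, hk⟩ := h3 n F hF hFI d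
    refine ⟨k, ?_⟩
    rw [mul_pow, mul_comm (g ^ k), mul_assoc]
    exact Ideal.mul_mem_left _ _ hk

theorem exists_pow_mul_mem {I : Ideal R} {g c : R}
    (h : ∀ Q : Ideal R, Q.IsPrime → I ≤ Q → g ∉ Q → ∃ t, t ∉ Q ∧ t * c ∈ I) : ∃ k : ℕ, g ^ k * c ∈ I := by
  let T : Ideal R := Submodule.comap (LinearMap.mulRight R c) I
  have hg : g ∈ T.radical := by
    rw [Ideal.radical_eq_sInf, Submodule.mem_sInf]
    rintro Q ⟨hle, hQ⟩
    by_contra hgQ
    obtain ⟨t, ht, ht'⟩ := h Q hQ (fun x hx => hle (show x * c ∈ I from I.mul_mem_right c hx)) hgQ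
    exact ht (hle ht')
  exact hg

theorem isQuasiRegular_map {I : Ideal R} {r : ℕ} {f : Fin r → R} {g : R} (h : QRAway I f g) (L : Type u) [CommRing L]
    [Algebra R L] [IsLocalization.Away g L] :
    CAlgX.IsQuasiRegular (fun i => algebraMap R L (f i)) ∧
      Ideal.span (Set.range fun i => algebraMap R L (f i)) = I.map (algebraMap R L) := by
  classical
  obtain ⟨h1, h2, h3⟩ := h
  have hg : IsUnit (algebraMap R L g) := IsLocalization.Away.algebraMap_isUnit g
  have hspan : Ideal.span (Set.range fun i => algebraMap R L (f i)) = I.map (algebraMap R L) := by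
    refine le_antisymm (Ideal.span_le.2 ?_) (Ideal.map_le_iff_le_comap.2 fun x hx => ?_)
    · rintro _ ⟨i, rfl⟩
      exact Ideal.mem_map_of_mem _ (h1 i)
    · rw [Ideal.mem_comap]
      obtain ⟨N, hN⟩ := h2 x hx
      have := Ideal.mem_map_of_mem (algebraMap R L) hN
      rw [Ideal.map_span, ← Set.range_comp, map_mul, map_pow, Ideal.unit_mul_mem_iff_mem _ (hg.pow N)] at this
      exact this
  refine ⟨?_, hspan⟩
  intro n P hP hPI d
  rw [hspan] at hPI ⊢
  -- clear denominators in the coefficients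
  obtain ⟨b, hb⟩ := IsLocalization.exist_integer_multiples (Submonoid.powers g) P.support (fun d => P.coeff d)
  choose c hc using hb
  let F : MvPolynomial (Fin r) R := ∑ e ∈ P.support.attach, monomial e.1 (c e.1 e.2)
  have hFc : ∀ e, algebraMap R L (F.coeff e) = algebraMap R L (b : R) * P.coeff e := by
    intro e
    simp only [F, coeff_sum, coeff_monomial]
    by_cases he : e ∈ P.support
    · rw [Finset.sum_eq_single ⟨e, he⟩ (fun x _ hx => if_neg fun h => hx (Subtype.ext h))
        (fun h => absurd (Finset.mem_attach _ _) h), if_pos rfl, hc, Algebra.smul_def]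
    · rw [Finset.sum_eq_zero fun x _ => if_neg (fun h => he (by rw [← h]; exact x.2)), map_zero,
        notMem_support_iff.1 he, mul_zero]
  have hFhom : F.IsHomogeneous n := IsHomogeneous.sum _ _ _ fun e _ =>
    isHomogeneous_monomial _ (hP.degree_eq_sum_deg_support e.2).symm
  have hmapF : MvPolynomial.map (algebraMap R L) F = C (algebraMap R L (b : R)) * P := by
    ext e
    rw [coeff_map, coeff_C_mul, hFc]
  have heval : algebraMap R L (eval f F) ∈ (I.map (algebraMap R L)) ^ (n + 1) := by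
    rw [MvPolynomial.map_eval, hmapF, map_mul, eval_C]
    exact Ideal.mul_mem_left _ _ hPI
  rw [← Ideal.map_pow, IsLocalization.algebraMap_mem_map_algebraMap_iff (Submonoid.powers g)] at heval
  obtain ⟨_, ⟨j, rfl⟩, hj⟩ := heval
  obtain ⟨k, hk⟩ := h3 n (C (g ^ j) * F) (hFhom.C_mul _) (by rw [map_mul, eval_C]; exact hj) d
  have hk2 := Ideal.mem_map_of_mem (algebraMap R L) hk
  have hbu : IsUnit (algebraMap R L (b : R)) := IsLocalization.map_units L b
  rwa [coeff_C_mul, map_mul, map_mul, map_pow, map_pow, hFc, Ideal.unit_mul_mem_iff_mem _ (hg.pow k),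
    Ideal.unit_mul_mem_iff_mem _ (hg.pow j), Ideal.unit_mul_mem_iff_mem _ hbu] at hk2

theorem exists_QRAway_of_local {I : Ideal R} {g : R} {r : ℕ} {L : Type u} [CommRing L] [Algebra R L]
    [IsLocalization.Away g L] {fL : Fin r → L} (hQR : CAlgX.IsQuasiRegular fL)
    (hspan : Ideal.span (Set.range fL) = I.map (algebraMap R L)) :
    ∃ f : Fin r → R, QRAway I f g := by
  classical
  have hg : IsUnit (algebraMap R L g) := IsLocalization.Away.algebraMap_isUnit g
  have hex : ∀ i, ∃ (f : R) (u : L), f ∈ I ∧ IsUnit u ∧ algebraMap R L f = u * fL i := fun i => by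
    have hi : fL i ∈ I.map (algebraMap R L) := hspan ▸ Ideal.subset_span ⟨i, rfl⟩
    obtain ⟨⟨x, s⟩, hx⟩ := (IsLocalization.mem_map_algebraMap_iff (Submonoid.powers g) L).1 hi
    exact ⟨x, algebraMap R L s, x.2, IsLocalization.map_units L s, by rw [← hx, mul_comm]⟩
  choose f u hfI hu hfu using hex
  have hmem : ∀ x ∈ I, ∃ N : ℕ, g ^ N * x ∈ Ideal.span (Set.range f) := fun x hx => by
    have h1 : algebraMap R L x ∈ (Ideal.span (Set.range f)).map (algebraMap R L) := by
      have h2 : algebraMap R L x ∈ Ideal.span (Set.range fL) := hspan ▸ Ideal.mem_map_of_mem _ hx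
      refine Ideal.span_le.2 ?_ h2
      rintro _ ⟨i, rfl⟩
      rw [SetLike.mem_coe, ← Ideal.unit_mul_mem_iff_mem _ (hu i), ← hfu]
      exact Ideal.mem_map_of_mem _ (Ideal.subset_span ⟨i, rfl⟩)
    rw [IsLocalization.algebraMap_mem_map_algebraMap_iff (Submonoid.powers g)] at h1
    obtain ⟨_, ⟨N, rfl⟩, h⟩ := h1
    exact ⟨N, h⟩
  refine ⟨f, hfI, hmem, fun n F hF hFI d => ?_⟩
  set u' : (Fin r →₀ ℕ) → L := fun e => ∏ i, u i ^ e i
  let P : MvPolynomial (Fin r) L :=
    ∑ e ∈ F.support, monomial e (u' e * algebraMap R L (F.coeff e))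
  have hP : P.IsHomogeneous n := IsHomogeneous.sum _ _ _ fun e he =>
    isHomogeneous_monomial _ (hF.degree_eq_sum_deg_support he).symm
  have hev : eval fL P = algebraMap R L (eval f F) := by
    rw [eval_eq' f F, map_sum, map_sum]
    refine Finset.sum_congr rfl fun e _ => ?_
    rw [eval_monomial, Finsupp.prod_fintype _ _ fun i => pow_zero _, map_mul, map_prod]
    simp only [map_pow, hfu, mul_pow, Finset.prod_mul_distrib, u']
    ring
  have hc := hQR n P hP (by rw [hev, hspan, ← Ideal.map_pow]; exact Ideal.mem_map_of_mem _ hFI) d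
  by_cases hd : d ∈ F.support
  · have hPd : P.coeff d = u' d * algebraMap R L (F.coeff d) := by
      simp only [P, coeff_sum, coeff_monomial, Finset.sum_ite_eq', if_pos hd]
    have hud : IsUnit (u' d) := IsUnit.prod_iff.2 fun i _ => (hu i).pow _
    rw [hPd, hspan, Ideal.unit_mul_mem_iff_mem _ hud,
      IsLocalization.algebraMap_mem_map_algebraMap_iff (Submonoid.powers g)] at hc
    obtain ⟨_, ⟨k, rfl⟩, hk⟩ := hc
    exact ⟨k, hk⟩
  · exact ⟨0, by rw [notMem_support_iff.1 hd, mul_zero]; exact zero_mem _⟩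

theorem subst_coeff_mem {r : ℕ} {ι : Type*} {I : Ideal R} (σ : MvPolynomial ι R →ₐ[R] MvPolynomial (Fin r) R)
    (G : MvPolynomial ι R) (c : R) (hG : ∀ e, c * G.coeff e ∈ I) (d : Fin r →₀ ℕ) : c * (σ G).coeff d ∈ I := by
  classical
  conv => rw [← support_sum_monomial_coeff G, map_sum, coeff_sum, Finset.mul_sum]
  refine Ideal.sum_mem _ fun e _ => ?_
  rw [show monomial e (G.coeff e) = G.coeff e • monomial e (1 : R) by rw [smul_monomial, smul_eq_mul, mul_one],
    map_smul, coeff_smul, smul_eq_mul, ← mul_assoc]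
  exact Ideal.mul_mem_right _ _ (hG e)

theorem QRAway.exists_uniform {I : Ideal R} {r : ℕ} {f : Fin r → R} {g : R} (h : QRAway I f g) {κ : Type*}
    [Finite κ] (x : κ → R) (hx : ∀ k, x k ∈ I) : ∃ N : ℕ, ∀ k, g ^ N * x k ∈ Ideal.span (Set.range f) := by
  classical
  have := Fintype.ofFinite κ
  choose N hN using fun k => h.2.1 (x k) (hx k)
  refine ⟨∑ k, N k, fun k => ?_⟩
  rw [← Nat.sub_add_cancel (Finset.single_le_sum (fun j _ => Nat.zero_le (N j)) (Finset.mem_univ k)), pow_add,
    mul_assoc]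
  exact Ideal.mul_mem_left _ _ (hN k)

/-- The coefficient relation. -/
theorem QRAway.coeff_mem_of_relation {I : Ideal R} {r : ℕ} {f : Fin r → R} {g : R} (h : QRAway I f g)
    (a : Fin r → R) (ha : ∑ i, a i * f i ∈ I ^ 2) (i : Fin r) : ∃ k : ℕ, g ^ k * a i ∈ I := by
  classical
  let F : MvPolynomial (Fin r) R := ∑ j, C (a j) * X j
  have hF : F.IsHomogeneous 1 := IsHomogeneous.sum _ _ _ fun j _ => isHomogeneous_C_mul_X _ _
  obtain ⟨k, hk⟩ := h.2.2 1 F hF (by simpa [F, map_sum] using ha) (Finsupp.single i 1)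
  refine ⟨k, ?_⟩
  simpa [F, coeff_sum, coeff_C_mul, coeff_X, Finsupp.single_left_inj] using hk

/-- Any generating sequence with relations in `Q` is quasi-regular near `Q`. -/
theorem exists_QRAway_near {I Q : Ideal R} [hQ : Q.IsPrime] (hIQ : I ≤ Q) {s r : ℕ} {gs : Fin s → R} {h g : R}
    (hq : QRAway I gs h) (hhQ : h ∉ Q) (hgQ : g ∉ Q) {f : Fin r → R} (hfI : ∀ i, f i ∈ I)
    (hgen : ∀ x ∈ I, ∃ N : ℕ, g ^ N * x ∈ Ideal.span (Set.range f))
    (hweak : ∀ a : Fin r → R, ∑ i, a i * f i ∈ I ^ 2 → ∀ i, a i ∈ Q) :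
    ∃ e, e ∉ Q ∧ QRAway I f e := by
  classical
  obtain ⟨A, hA⟩ := hq.exists_uniform f hfI
  choose M hM using fun j => (Ideal.mem_span_range_iff_exists_fun).1 (hA j)
  choose Nk hNk using fun k => hgen (gs k) (hq.1 k)
  let N := ∑ k, Nk k
  have hN : ∀ k, g ^ N * gs k ∈ Ideal.span (Set.range f) := fun k => by
    obtain ⟨w, hw⟩ : ∃ w, N = Nk k + w :=
      Nat.exists_eq_add_of_le (Finset.single_le_sum (fun j _ => Nat.zero_le (Nk j)) (Finset.mem_univ k))
    rw [hw, Nat.add_comm, pow_add, mul_assoc]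
    exact Ideal.mul_mem_left _ _ (hNk k)
  choose W hW using fun k => (Ideal.mem_span_range_iff_exists_fun).1 (hN k)
  set c := h ^ A * g ^ N with hc
  have hcQ : c ∉ Q := fun hm => (hQ.mem_or_mem hm).elim (fun h1 => hhQ (hQ.mem_of_pow_mem _ h1))
    (fun h1 => hgQ (hQ.mem_of_pow_mem _ h1))
  -- `W M ≡ c` and `M W ≡ c` modulo `Q`
  have hWM : ∀ i j, (∑ k, W k i * M j k) - (if i = j then c else 0) ∈ Q := fun i j => by
    refine hweak (fun l => (∑ k, W k l * M j k) - (if l = j then c else 0)) ?_ i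
    have : ∑ l, ((∑ k, W k l * M j k) - (if l = j then c else 0)) * f l = 0 := by
      simp only [sub_mul, Finset.sum_sub_distrib, Finset.sum_mul, ite_mul, zero_mul, Finset.sum_ite_eq',
        Finset.mem_univ, if_true]
      rw [sub_eq_zero, Finset.sum_comm]
      calc ∑ k, ∑ l, W k l * M j k * f l = ∑ k, M j k * ∑ l, W k l * f l :=
            Finset.sum_congr rfl fun k _ => by rw [Finset.mul_sum]; exact Finset.sum_congr rfl fun l _ => by ring
        _ = g ^ N * ∑ k, M j k * gs k := by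
            rw [Finset.mul_sum]; exact Finset.sum_congr rfl fun k _ => by rw [hW]; ring
        _ = c * f j := by rw [hM, hc]; ring
    rw [this]
    exact zero_mem _
  have hMW : ∀ l k, (∑ j, M j l * W k j) - (if l = k then c else 0) ∈ Q := fun l k => by
    obtain ⟨e, he⟩ := hq.coeff_mem_of_relation (fun l => (∑ j, M j l * W k j) - (if l = k then c else 0)) (by
      have : ∑ l, ((∑ j, M j l * W k j) - (if l = k then c else 0)) * gs l = 0 := by
        simp only [sub_mul, Finset.sum_sub_distrib, Finset.sum_mul, ite_mul, zero_mul, Finset.sum_ite_eq',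
          Finset.mem_univ, if_true]
        rw [sub_eq_zero, Finset.sum_comm]
        calc ∑ j, ∑ l, M j l * W k j * gs l = ∑ j, W k j * ∑ l, M j l * gs l :=
              Finset.sum_congr rfl fun j _ => by rw [Finset.mul_sum]; exact Finset.sum_congr rfl fun l _ => by ring
          _ = h ^ A * ∑ j, W k j * f j := by
              rw [Finset.mul_sum]; exact Finset.sum_congr rfl fun j _ => by rw [hM]; ring
          _ = c * gs k := by rw [hW, hc]; ring
      rw [this]
      exact zero_mem _) l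
    exact (hQ.mem_or_mem (hIQ he)).resolve_left fun h1 => hhQ (hQ.mem_of_pow_mem _ h1)
  -- over the residue field
  let φ : R →+* FractionRing (R ⧸ Q) := (algebraMap (R ⧸ Q) _).comp (Ideal.Quotient.mk Q)
  have hφ : ∀ x, φ x = 0 ↔ x ∈ Q := fun x => by
    rw [RingHom.comp_apply, FaithfulSMul.algebraMap_eq_zero_iff, Ideal.Quotient.eq_zero_iff_mem]
  let Mm : Matrix (Fin s) (Fin r) R := Matrix.of fun l j => M j l
  let Wm : Matrix (Fin r) (Fin s) R := Matrix.of fun i k => W k i
  have e1 : Wm.map φ * Mm.map φ = φ c • 1 := by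
    ext i j
    have := (hφ _).2 (hWM i j)
    rw [map_sub, sub_eq_zero] at this
    simp only [Matrix.mul_apply, Matrix.map_apply, Matrix.smul_apply, Matrix.one_apply, smul_eq_mul, mul_ite,
      mul_one, mul_zero, ← map_mul, ← map_sum, Mm, Wm, Matrix.of_apply, this, apply_ite φ, map_zero]
  have e2 : Mm.map φ * Wm.map φ = φ c • 1 := by
    ext i j
    have := (hφ _).2 (hMW i j)
    rw [map_sub, sub_eq_zero] at this
    simp only [Matrix.mul_apply, Matrix.map_apply, Matrix.smul_apply, Matrix.one_apply, smul_eq_mul, mul_ite,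
      mul_one, mul_zero, ← map_mul, ← map_sum, Mm, Wm, Matrix.of_apply, this, apply_ite φ, map_zero]
  have hc0 : φ c ≠ 0 := fun h0 => hcQ ((hφ c).1 h0)
  have hrs : r = s := by
    have := Module.Finite.pi (R := FractionRing (R ⧸ Q)) (M := fun _ : Fin r => FractionRing (R ⧸ Q))
    have le1 : ∀ {a b : ℕ} (P : Matrix (Fin a) (Fin b) (FractionRing (R ⧸ Q))) (P' : Matrix (Fin b) (Fin a) (FractionRing (R ⧸ Q))),
        P * P' = φ c • 1 → a ≤ b := by
      intro a b P P' hPP'
      have hinj : Function.Injective (Matrix.mulVecLin P') := by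
        rw [injective_iff_map_eq_zero]
        intro v hv
        have h2 : Matrix.mulVec (P * P') v = 0 := by
          rw [← Matrix.mulVec_mulVec, ← Matrix.mulVecLin_apply P', hv, Matrix.mulVec_zero]
        rw [hPP', Matrix.smul_mulVec, Matrix.one_mulVec] at h2
        exact (smul_eq_zero.1 h2).resolve_left hc0
      simpa using LinearMap.finrank_le_finrank_of_injective hinj
    exact le_antisymm (le1 _ _ e1) (le1 _ _ e2)
  subst hrs
  have hdet : Mm.det ∉ Q := fun hm => by
    have h1 := congrArg Matrix.det e2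
    rw [Matrix.det_mul, ← RingHom.mapMatrix_apply, ← RingHom.map_det, (hφ _).2 hm, zero_mul, Matrix.det_smul,
      Matrix.det_one, mul_one] at h1
    exact pow_ne_zero _ hc0 h1.symm
  refine ⟨Mm.det * h * g, fun hm => ?_, hfI, fun x hx => ?_, fun n F hF hFI d => ?_⟩
  · rcases hQ.mem_or_mem hm with h1 | h1
    · exact (hQ.mem_or_mem h1).elim hdet hhQ
    · exact hgQ h1
  · obtain ⟨Nx, hNx⟩ := hgen x hx
    refine ⟨Nx, ?_⟩
    rw [mul_pow, mul_assoc]
    exact Ideal.mul_mem_left _ _ hNx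
  · let σ : MvPolynomial (Fin r) R →ₐ[R] MvPolynomial (Fin r) R := aeval fun j => ∑ l, C (M j l) * X l
    let τ : MvPolynomial (Fin r) R →ₐ[R] MvPolynomial (Fin r) R := aeval fun l => ∑ j, C (Mm.adjugate j l) * X j
    have hσhom : (σ F).IsHomogeneous n := by
      have h2 := IsHomogeneous.aeval (S := R) (R := R) hF (fun j => ∑ l, C (M j l) * X l)
        (fun j => IsHomogeneous.sum _ _ _ fun l _ => isHomogeneous_C_mul_X _ _)
      rwa [one_mul] at h2
    have heval : eval gs (σ F) = (h ^ A) ^ n * eval f F := by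
      have h1 : eval gs (σ F) = aeval (fun j => h ^ A * f j) F := by
        have h2 : ((MvPolynomial.aeval gs).comp σ : MvPolynomial (Fin r) R →ₐ[R] R) = aeval fun j => h ^ A * f j :=
          MvPolynomial.algHom_ext fun j => by simp [σ, hM]
        exact AlgHom.congr_fun h2 F
      rw [h1, show aeval (fun j => h ^ A * f j) F = eval (fun j => h ^ A * f j) F from rfl, eval_eq', eval_eq',
        Finset.mul_sum]
      refine Finset.sum_congr rfl fun e he => ?_
      simp only [mul_pow, Finset.prod_mul_distrib, Finset.prod_pow_eq_pow_sum]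
      rw [show ∑ i, e i = n from (Finsupp.degree_eq_sum e).symm.trans (hF.degree_eq_sum_deg_support he).symm]
      ring
    have hall : ∀ e, ∃ k : ℕ, h ^ k * (σ F).coeff e ∈ I :=
      hq.2.2 n (σ F) hσhom (by rw [heval]; exact Ideal.mul_mem_left _ _ hFI)
    choose k hk using hall
    let K := ∑ e ∈ (σ F).support, k e
    have hK : ∀ e, h ^ K * (σ F).coeff e ∈ I := fun e => by
      by_cases he : e ∈ (σ F).support
      · obtain ⟨w, hw⟩ : ∃ w, K = k e + w :=
          Nat.exists_eq_add_of_le (Finset.single_le_sum (fun j _ => Nat.zero_le (k j)) he)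
        rw [hw, Nat.add_comm, pow_add, mul_assoc]
        exact Ideal.mul_mem_left _ _ (hk e)
      · rw [notMem_support_iff.1 he, mul_zero]; exact zero_mem _
    have hτσ : τ (σ F) = C (Mm.det ^ n) * F := by
      have h2 : ∀ j, τ (σ (X j)) = C Mm.det * X j := fun j => by
        simp only [σ, τ, aeval_X, map_sum, map_mul, aeval_C, MvPolynomial.algebraMap_eq, Finset.mul_sum]
        rw [Finset.sum_comm]
        calc ∑ i, ∑ l, C (M j l) * (C (Mm.adjugate i l) * X i) = ∑ i, C ((Mm.adjugate * Mm) i j) * X i := by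
              refine Finset.sum_congr rfl fun i _ => ?_
              rw [Matrix.mul_apply, map_sum, Finset.sum_mul]
              exact Finset.sum_congr rfl fun l _ => by simp only [Mm, Matrix.of_apply, map_mul]; ring
          _ = C Mm.det * X j := by
              rw [Matrix.adjugate_mul, Finset.sum_eq_single j] <;> simp +contextual
      have h3 : (τ.comp σ) F = aeval (fun j => C Mm.det * X j) F := by
        refine AlgHom.congr_fun (MvPolynomial.algHom_ext fun j => ?_) F
        rw [AlgHom.comp_apply, h2, aeval_X]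
      rw [← AlgHom.comp_apply, h3, aeval_def, eval₂_eq', MvPolynomial.algebraMap_eq]
      conv_rhs => rw [← support_sum_monomial_coeff F, Finset.mul_sum]
      refine Finset.sum_congr rfl fun e he => ?_
      simp only [mul_pow, Finset.prod_mul_distrib, Finset.prod_pow_eq_pow_sum]
      rw [show ∑ i, e i = n from (Finsupp.degree_eq_sum e).symm.trans (hF.degree_eq_sum_deg_support he).symm, monomial_eq,
        Finsupp.prod_fintype _ _ fun i => pow_zero _, map_pow]
      ring
    have hfin := subst_coeff_mem τ (σ F) (h ^ K) hK d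
    rw [hτσ, coeff_C_mul] at hfin
    refine ⟨K + n, ?_⟩
    rw [show (Mm.det * h * g) ^ (K + n) * F.coeff d =
      (Mm.det ^ K * h ^ n * g ^ (K + n)) * (h ^ K * (Mm.det ^ n * F.coeff d)) by ring]
    exact Ideal.mul_mem_left _ _ hfin

end

section descent

variable {A B : Type u} [CommRing A] [CommRing B] [Algebra A B]

theorem relation_coeff_mem [Module.Flat A B] (I : Ideal A) {r : ℕ} (f : Fin r → A) (x : Fin r → B)
    (hx : ∑ i, x i * algebraMap A B (f i) ∈ (I.map (algebraMap A B)) ^ 2) (i : Fin r) :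
    x i ∈ (Ideal.span {c : A | ∃ a : Fin r → A, ∑ j, a j * f j ∈ I ^ 2 ∧ ∃ j, a j = c}).map (algebraMap A B) := by
  classical
  rw [← Ideal.map_pow, Ideal.map, Ideal.span, Finsupp.mem_span_iff_linearCombination] at hx
  obtain ⟨l, hl⟩ := hx
  choose m hm hm' using fun t : ↥(algebraMap A B '' ↑(I ^ 2)) => t.2
  let ι := Fin r ⊕ ↥l.support
  let co : ι → A := Sum.elim f fun t => m t.1
  let y : ι → B := Sum.elim x fun t => -l t.1
  have hsum : ∑ t, co t • y t = 0 := by
    rw [Fintype.sum_sum_type]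
    simp only [co, y, Sum.elim_inl, Sum.elim_inr, Algebra.smul_def, mul_neg, Finset.sum_neg_distrib, hm']
    rw [add_neg_eq_zero, Finset.univ_eq_attach,
      Finset.sum_attach l.support fun t => (t : B) * l t]
    rw [Finsupp.linearCombination_apply, Finsupp.sum] at hl
    simpa [mul_comm] using hl.symm
  obtain ⟨k, a, z, hz, ha⟩ := Module.Flat.isTrivialRelation_of_sum_smul_eq_zero (R := A) (M := B) hsum
  have h1 := hz (Sum.inl i)
  simp only [y, Sum.elim_inl] at h1
  rw [h1]
  refine Ideal.sum_mem _ fun j _ => ?_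
  rw [Algebra.smul_def]
  refine Ideal.mul_mem_right _ _ (Ideal.mem_map_of_mem _ (Ideal.subset_span ⟨fun l => a (Sum.inl l) j, ?_, i, rfl⟩))
  have h2 := ha j
  rw [Fintype.sum_sum_type] at h2
  simp only [co, Sum.elim_inl, Sum.elim_inr] at h2
  rw [show ∑ l, a (Sum.inl l) j * f l = ∑ l, f l * a (Sum.inl l) j from
    Finset.sum_congr rfl fun l _ => mul_comm _ _, eq_neg_of_add_eq_zero_left h2]
  exact neg_mem (Ideal.sum_mem _ fun t _ => Ideal.mul_mem_right _ _ (hm t.1))

theorem exists_QRAway_of_isLocallyQuasiRegular {R : Type u} [CommRing R] {J : Ideal R}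
    (h : PP16.IsLocallyQuasiRegular R J) (Q : Ideal R) [Q.IsPrime] (hJQ : J ≤ Q) :
    ∃ e, e ∉ Q ∧ ∃ (r : ℕ) (f : Fin r → R), QRAway J f e := by
  obtain ⟨e, he, r, fL, hQR, hspan⟩ := h Q hJQ
  obtain ⟨f, hf⟩ := exists_QRAway_of_local (g := e) hQR hspan
  exact ⟨e, he, r, f, hf⟩

theorem isLocallyQuasiRegular_of_QRAway {R : Type u} [CommRing R] {J : Ideal R}
    (h : ∀ (Q : Ideal R) [Q.IsPrime], J ≤ Q → ∃ e, e ∉ Q ∧ ∃ (r : ℕ) (f : Fin r → R), QRAway J f e) :
    PP16.IsLocallyQuasiRegular R J := by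
  intro Q _ hJQ
  obtain ⟨e, he, r, f, hf⟩ := h Q hJQ
  exact ⟨e, he, r, _, isQuasiRegular_map hf (Localization.Away e)⟩

theorem fg_of_isLocallyQuasiRegular {R : Type u} [CommRing R] {J : Ideal R}
    (h : PP16.IsLocallyQuasiRegular R J) : J.FG := by
  classical
  let S : Set R := {e | ∃ (r : ℕ) (f : Fin r → R), QRAway J f e}
  have htop : J ⊔ Ideal.span S = ⊤ := by
    by_contra hne
    obtain ⟨Q, hQ, hle⟩ := Ideal.exists_le_maximal _ hne
    obtain ⟨e, he, hr⟩ := exists_QRAway_of_isLocallyQuasiRegular h Q (le_sup_left.trans hle)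
    exact he (hle (le_sup_right (a := J) (Ideal.subset_span hr)))
  obtain ⟨y, hy, w, hw, hyw⟩ := Submodule.mem_sup.1 ((Ideal.eq_top_iff_one _).1 htop)
  obtain ⟨T, hTS, hwT⟩ := Submodule.mem_span_finite_of_mem_span hw
  choose r f hf using fun t : ↥(T : Set R) => hTS t.2
  let gens : Finset R := insert y (Finset.univ.biUnion fun t : ↥(T : Set R) => Finset.univ.image (f t))
  refine ⟨gens, le_antisymm (Ideal.span_le.2 fun x hx => ?_) fun x hx => ?_⟩
  · simp only [gens, Finset.coe_insert, Finset.coe_biUnion, Finset.coe_image, Set.mem_insert_iff, Set.mem_iUnion,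
      Set.mem_image] at hx
    rcases hx with rfl | ⟨t, -, i, -, rfl⟩
    · exact hy
    · exact (hf t).1 i
  · obtain ⟨k, hk⟩ := exists_pow_mul_mem (I := Ideal.span (gens : Set R)) (g := 1) (c := x) (fun Q hQ hGQ _ => by
      by_cases hyQ : y ∈ Q
      · obtain ⟨t, ht⟩ : ∃ t : ↥(T : Set R), (t : R) ∉ Q := by
          by_contra hcon
          push Not at hcon
          refine hQ.ne_top ((Ideal.eq_top_iff_one _).2 (hyw ▸ Q.add_mem hyQ ?_))
          exact (Ideal.span_le.2 fun t ht => hcon ⟨t, ht⟩) hwT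
        obtain ⟨N, hN⟩ := (hf t).2.1 x hx
        refine ⟨(t : R) ^ N, fun hm => ht (hQ.mem_of_pow_mem _ hm), Ideal.span_mono ?_ hN⟩
        rintro _ ⟨i, rfl⟩
        simp only [gens, Finset.coe_insert, Finset.coe_biUnion, Finset.coe_image, Set.mem_insert_iff,
          Set.mem_iUnion, Set.mem_image]
        exact Or.inr ⟨t, Finset.mem_univ t, i, Finset.mem_univ i, rfl⟩
      · exact ⟨y, hyQ, Ideal.mul_mem_right _ _ (Ideal.subset_span (by simp [gens]))⟩)
    simpa using hk

theorem isLocallyQuasiRegular_of_faithfullyFlat [Module.FaithfullyFlat A B] (I : Ideal A)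
    (h : PP16.IsLocallyQuasiRegular B (Ideal.map (algebraMap A B) I)) : PP16.IsLocallyQuasiRegular A I := by
  classical
  refine isLocallyQuasiRegular_of_QRAway fun P hP hIP => ?_
  obtain ⟨gensI, hgensI⟩ := Ideal.FG.of_FG_map_of_faithfullyFlat (S := B) (fg_of_isLocallyQuasiRegular h)
  -- a minimal generating sequence near `P`
  have hex : ∃ r, ∃ (f : Fin r → A) (g : A), (∀ i, f i ∈ I) ∧ g ∉ P ∧ ∀ x ∈ I, g * x ∈ Ideal.span (Set.range f) := by
    refine ⟨gensI.card, fun i => (gensI.equivFin.symm i : A), 1, fun i => ?_, fun h1 => hP.ne_top ((Ideal.eq_top_iff_one _).2 h1), fun x hx => ?_⟩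
    · rw [← hgensI]; exact Ideal.subset_span (gensI.equivFin.symm i).2
    · rw [one_mul]
      rw [← hgensI] at hx
      refine Submodule.span_mono ?_ hx
      intro t ht
      exact ⟨gensI.equivFin ⟨t, ht⟩, by simp⟩
  obtain ⟨r, ⟨f, g, hfI, hgP, hgen⟩, hleast⟩ : ∃ r, (∃ (f : Fin r → A) (g : A), (∀ i, f i ∈ I) ∧ g ∉ P ∧
      ∀ x ∈ I, g * x ∈ Ideal.span (Set.range f)) ∧ ∀ r' < r, ¬ ∃ (f : Fin r' → A) (g : A),
        (∀ i, f i ∈ I) ∧ g ∉ P ∧ ∀ x ∈ I, g * x ∈ Ideal.span (Set.range f) :=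
    ⟨Nat.find hex, Nat.find_spec hex, fun _ h => Nat.find_min hex h⟩
  have hmin : ∀ a : Fin r → A, ∑ j, a j * f j ∈ I ^ 2 → ∀ i, a i ∈ P := by
    intro a ha i
    by_contra hai
    obtain ⟨r', hr'⟩ : ∃ r', r = r' + 1 := Nat.exists_eq_succ_of_ne_zero (by have := i.2; omega)
    have hsq : ∀ x ∈ I ^ 2, g ^ 2 * x ∈ Ideal.span (Set.range f) * I := fun x hx => by
      rw [pow_two] at hx
      refine Submodule.mul_induction_on hx (fun u hu v hv => ?_) fun u v hu hv => by rw [mul_add]; exact add_mem hu hv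
      rw [show g ^ 2 * (u * v) = (g * u) * (g * v) by ring]
      exact Ideal.mul_mem_mul (hgen u hu) (Ideal.mul_mem_left _ _ hv)
    set O := Ideal.span (f '' {j | j ≠ i})
    have hsplit : ∀ z ∈ Ideal.span (Set.range f) * I, ∃ t ∈ I, z - t * f i ∈ O := fun z hz => by
      refine Submodule.mul_induction_on hz (fun u hu v hv => ?_) fun u v hu hv => ?_
      · obtain ⟨c, rfl⟩ := (Ideal.mem_span_range_iff_exists_fun).1 hu
        refine ⟨c i * v, Ideal.mul_mem_left _ _ hv, ?_⟩
        rw [show (∑ j, c j * f j) * v - c i * v * f i = (∑ j ∈ Finset.univ.erase i, c j * f j) * v by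
          rw [← Finset.add_sum_erase _ _ (Finset.mem_univ i)]; ring]
        exact Ideal.mul_mem_right _ _ (Ideal.sum_mem _ fun j hj =>
          Ideal.mul_mem_left _ _ (Ideal.subset_span ⟨j, Finset.ne_of_mem_erase hj, rfl⟩))
      · obtain ⟨t, ht, ht'⟩ := hu
        obtain ⟨t', ht1, ht1'⟩ := hv
        exact ⟨t + t', add_mem ht ht1, by
          rw [show u + v - (t + t') * f i = (u - t * f i) + (v - t' * f i) by ring]; exact add_mem ht' ht1'⟩
    obtain ⟨t, ht, ht'⟩ := hsplit _ (hsq _ ha)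
    set u := g ^ 2 * a i - t
    have huO : u * f i ∈ O := by
      have h2 : g ^ 2 * (∑ j ∈ Finset.univ.erase i, a j * f j) ∈ O := Ideal.mul_mem_left _ _
        (Ideal.sum_mem _ fun j hj => Ideal.mul_mem_left _ _ (Ideal.subset_span ⟨j, Finset.ne_of_mem_erase hj, rfl⟩))
      rw [← Finset.add_sum_erase _ _ (Finset.mem_univ i)] at ht'
      have := sub_mem ht' h2
      rwa [show g ^ 2 * (a i * f i + ∑ j ∈ Finset.univ.erase i, a j * f j) - t * f i -
        g ^ 2 * ∑ j ∈ Finset.univ.erase i, a j * f j = u * f i by ring] at this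
    have huP : u ∉ P := fun hu => by
      have h1 : g ^ 2 * a i ∈ P := by simpa [u] using add_mem hu (hIP ht)
      exact (hP.mem_or_mem h1).elim (fun h2 => hgP (hP.mem_of_pow_mem _ h2)) hai
    let e : Fin r' ≃ {j : Fin r // j ≠ i} := (Fintype.equivFinOfCardEq (by
      rw [Fintype.card_subtype_compl]; simp; omega)).symm
    refine hleast r' (by omega) ⟨fun k => f (e k).1, u * g, fun k => hfI _,
      fun hm => (hP.mem_or_mem hm).elim huP hgP, fun x hx => ?_⟩
    obtain ⟨c, hc⟩ := (Ideal.mem_span_range_iff_exists_fun).1 (hgen x hx)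
    have hO : O ≤ Ideal.span (Set.range fun k => f (e k).1) := Ideal.span_le.2 fun _ ⟨j, hj, hj'⟩ =>
      Ideal.subset_span ⟨e.symm ⟨j, hj⟩, by simp [hj']⟩
    apply hO
    rw [mul_assoc, ← hc, Finset.mul_sum]
    refine Ideal.sum_mem _ fun j _ => ?_
    by_cases hj : j = i
    · subst hj
      rw [show u * (c j * f j) = c j * (u * f j) by ring]
      exact Ideal.mul_mem_left _ _ huO
    · exact Ideal.mul_mem_left _ _ (Ideal.mul_mem_left _ _ (Ideal.subset_span ⟨j, hj, rfl⟩))
  set φ := algebraMap A B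
  set J := I.map φ
  let S : Set A := {c : A | ∃ a : Fin r → A, ∑ j, a j * f j ∈ I ^ 2 ∧ ∃ j, a j = c}
  have hSP : Ideal.span S ≤ P := Ideal.span_le.2 fun _ ⟨a, ha, j, hj⟩ => hj ▸ hmin a ha j
  let W : Ideal B := (Ideal.span S).map φ
  have hgenB : ∀ x ∈ J, ∃ N : ℕ, φ g ^ N * x ∈ Ideal.span (Set.range fun i => φ (f i)) := fun x hx => by
    refine ⟨1, ?_⟩
    rw [pow_one]
    induction hx using Submodule.span_induction with
    | mem x hx =>
      obtain ⟨w, hw, rfl⟩ := hx
      rw [← map_mul]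
      have := Ideal.mem_map_of_mem φ (hgen w hw)
      rwa [Ideal.map_span, ← Set.range_comp] at this
    | zero => rw [mul_zero]; exact zero_mem _
    | add x y _ _ hx hy => rw [mul_add]; exact add_mem hx hy
    | smul c x _ hx => rw [smul_eq_mul, mul_left_comm]; exact Ideal.mul_mem_left _ _ hx
  -- near every weak prime `f` is quasi-regular
  have hnear : ∀ (Q : Ideal B) [Q.IsPrime], J ≤ Q → φ g ∉ Q → W ≤ Q →
      ∃ e, e ∉ Q ∧ QRAway J (fun i => φ (f i)) e := fun Q _ hJQ hgQ hWQ => by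
    obtain ⟨e, he, s, gs, hgs⟩ := exists_QRAway_of_isLocallyQuasiRegular h Q hJQ
    exact exists_QRAway_near hJQ hgs he hgQ (fun i => Ideal.mem_map_of_mem _ (hfI i)) hgenB
      fun x hx i => hWQ (relation_coeff_mem I f x hx i)
  let H : Ideal B := J ⊔ Ideal.span {e | QRAway J (fun i => φ (f i)) e}
  have hH : φ g ∈ (W ⊔ H).radical := by
    rw [Ideal.radical_eq_sInf, Submodule.mem_sInf]
    rintro Q ⟨hle, hQ⟩
    by_contra hgQ
    obtain ⟨e, he, hqr⟩ := hnear Q ((le_sup_left.trans le_sup_right).trans hle) hgQ (le_sup_left.trans hle)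
    exact he (hle (le_sup_right (a := W) (le_sup_right (a := J) (Ideal.subset_span hqr))))
  obtain ⟨m, hm⟩ := hH
  obtain ⟨c, hc, α, hα, hcα⟩ := Submodule.mem_sup.1 hm
  rw [show W = Ideal.span (φ '' S) from Ideal.map_span φ S] at hc
  obtain ⟨T, hTS, hcT⟩ := Submodule.mem_span_finite_of_mem_span hc
  have hαH : ∀ (Q : Ideal B), Q.IsPrime → J ≤ Q → α ∉ Q → W ≤ Q := fun Q hQ hJQ hαQ => by
    obtain ⟨e, he, hqr⟩ : ∃ e, e ∉ Q ∧ QRAway J (fun i => φ (f i)) e := by
      by_contra hcon
      push Not at hcon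
      exact hαQ (sup_le hJQ (Ideal.span_le.2 fun e he => by_contra fun heQ => hcon e heQ he) hα)
    refine Ideal.map_le_iff_le_comap.2 (Ideal.span_le.2 fun _ ⟨a, ha, j, hj⟩ => hj ▸ ?_)
    obtain ⟨k, hk⟩ := hqr.coeff_mem_of_relation (fun i => φ (a i)) (by
      simp only [← map_mul, ← map_sum, J, ← Ideal.map_pow]
      exact Ideal.mem_map_of_mem _ ha) j
    exact (hQ.mem_or_mem (hJQ hk)).resolve_left fun h1 => he (hQ.mem_of_pow_mem _ h1)
  choose sT hsT hsT' using fun t : ↥(T : Set B) => hTS t.2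
  obtain ⟨QP, hQP, hQPP⟩ := Ideal.exists_isPrime_liesOver_of_faithfullyFlat (B := B) P
  have hover : ∀ x, φ x ∈ QP ↔ x ∈ P := fun x => (Ideal.mem_of_liesOver QP P x).symm
  have hαQP : α ∉ QP := fun hαQ => by
    have hcQ : c ∈ QP := Ideal.span_le.2 (fun t ht => by
      rw [SetLike.mem_coe, ← (show φ (sT ⟨t, ht⟩) = t from hsT' ⟨t, ht⟩)]
      exact (hover _).2 (hSP (Ideal.subset_span (hsT ⟨t, ht⟩)))) hcT
    have h1 : φ g ^ m ∈ QP := hcα ▸ add_mem hcQ hαQ
    exact hgP ((hover g).1 (hQP.mem_of_pow_mem _ h1))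
  have he : ∀ t : ↥(T : Set B), ∃ e, e ∉ P ∧ ∃ k : ℕ, e * sT t ^ k ∈ I := fun t => by
    obtain ⟨k, hk⟩ : ∃ k : ℕ, (α * φ (sT t)) ^ k ∈ J := by
      have : α * φ (sT t) ∈ J.radical := by
        rw [Ideal.radical_eq_sInf, Submodule.mem_sInf]
        rintro Q ⟨hle, hQ⟩
        by_cases hαQ : α ∈ Q
        · exact Ideal.mul_mem_right _ _ hαQ
        · exact Ideal.mul_mem_left _ _ (hαH Q hQ hle hαQ (Ideal.mem_map_of_mem _ (Ideal.subset_span (hsT t))))
      exact this
    rw [mul_pow] at hk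
    by_contra hcon
    push Not at hcon
    -- flatness of the colon ideal
    let col : Ideal A := Submodule.comap (LinearMap.mulRight A (sT t ^ k)) I
    have hcolP : col ≤ P := fun e he => by_contra fun heP => hcon e heP k he
    have hmem : α ^ k ∈ col.map φ := by
      rw [← map_pow] at hk
      replace hk : α ^ k * φ (sT t ^ k) ∈ Submodule.span B (φ '' ↑I) := hk
      rw [Finsupp.mem_span_iff_linearCombination] at hk
      obtain ⟨l, hl⟩ := hk
      choose mI hmI hmI' using fun w : ↥(φ '' ↑I) => w.2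
      let ι := Unit ⊕ ↥l.support
      let co : ι → A := Sum.elim (fun _ => sT t ^ k) fun w => mI w.1
      let y : ι → B := Sum.elim (fun _ => α ^ k) fun w => -l w.1
      have hsum : ∑ w, co w • y w = 0 := by
        rw [Fintype.sum_sum_type]
        simp only [co, y, Sum.elim_inl, Sum.elim_inr, Algebra.smul_def, mul_neg, Finset.sum_neg_distrib,
          Finset.univ_unique, Finset.sum_singleton, hmI', φ] at hl ⊢
        rw [add_neg_eq_zero, Finset.univ_eq_attach, Finset.sum_attach l.support fun w => (w : B) * l w]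
        rw [Finsupp.linearCombination_apply, Finsupp.sum] at hl
        simpa [mul_comm] using hl.symm
      obtain ⟨κ, a, z, hz, ha⟩ := Module.Flat.isTrivialRelation_of_sum_smul_eq_zero (R := A) (M := B) hsum
      have h1 := hz (Sum.inl ())
      simp only [y, Sum.elim_inl] at h1
      rw [h1]
      refine Ideal.sum_mem _ fun j _ => ?_
      rw [Algebra.smul_def]
      refine Ideal.mul_mem_right _ _ (Ideal.mem_map_of_mem _ ?_)
      show a (Sum.inl ()) j * sT t ^ k ∈ I
      have h2 := ha j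
      rw [Fintype.sum_sum_type] at h2
      simp only [co, Sum.elim_inl, Sum.elim_inr, Finset.univ_unique, Finset.sum_singleton] at h2
      rw [mul_comm, eq_neg_of_add_eq_zero_left h2]
      exact neg_mem (Ideal.sum_mem _ fun w _ => Ideal.mul_mem_right _ _ (hmI w.1))
    exact hαQP (hQP.mem_of_pow_mem _ ((Ideal.map_le_iff_le_comap.2 fun e he => (hover e).2 (hcolP he)) hmem))
  choose e heP ke hke using he
  refine ⟨g * ∏ t, e t, fun hm => ?_, r, f, hfI, fun x hx => ⟨1, ?_⟩, fun n F hF hFI d => ?_⟩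
  · rcases hP.mem_or_mem hm with h1 | h1
    · exact hgP h1
    · obtain ⟨t, -, ht⟩ := (hP.prod_mem_iff).1 h1
      exact heP t ht
  · rw [pow_one, mul_comm g, mul_assoc]
    exact Ideal.mul_mem_left _ _ (hgen x hx)
  · have hB : ∀ (Q : Ideal B) (hQ : Q.IsPrime), J ≤ Q → φ (g * ∏ t, e t) ∉ Q →
        ∃ t, t ∉ Q ∧ t * φ (F.coeff d) ∈ J := fun Q hQ hJQ hgeQ => by
      have hgQ : φ g ∉ Q := fun h1 => hgeQ (by rw [map_mul]; exact Ideal.mul_mem_right _ _ h1)
      have hαQ : α ∉ Q := fun hαQ => by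
        have hcQ : c ∈ Q := Ideal.span_le.2 (fun t ht => by
          rw [SetLike.mem_coe, ← (show φ (sT ⟨t, ht⟩) = t from hsT' ⟨t, ht⟩)]
          have h1 := hJQ (Ideal.mem_map_of_mem φ (hke ⟨t, ht⟩))
          rw [map_mul, map_pow] at h1
          refine hQ.mem_of_pow_mem _ ((hQ.mem_or_mem h1).resolve_left fun h2 => hgeQ ?_)
          rw [map_mul, map_prod, ← Finset.mul_prod_erase _ _ (Finset.mem_univ ⟨t, ht⟩)]
          exact Ideal.mul_mem_left _ _ (Ideal.mul_mem_right _ _ h2)) hcT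
        exact hgQ (hQ.mem_of_pow_mem m (hcα ▸ add_mem hcQ hαQ))
      obtain ⟨e', he', hqr⟩ := hnear Q hJQ hgQ (hαH Q hQ hJQ hαQ)
      obtain ⟨k, hk⟩ := hqr.2.2 n (MvPolynomial.map φ F) (hF.map φ) (by
        rw [show eval (fun i => φ (f i)) (MvPolynomial.map φ F) = φ (eval f F) from (MvPolynomial.map_eval φ f F).symm,
          show J = I.map φ from rfl, ← Ideal.map_pow]
        exact Ideal.mem_map_of_mem _ hFI) d
      exact ⟨e' ^ k, fun h1 => he' (hQ.mem_of_pow_mem _ h1), by rwa [coeff_map] at hk⟩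
    obtain ⟨k, hk⟩ := exists_pow_mul_mem hB
    refine ⟨k, ?_⟩
    rw [← map_pow, ← map_mul, ← Ideal.mem_comap, Ideal.comap_map_eq_self_of_faithfullyFlat] at hk
    exact hk

end descent

end PP16Lib
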