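import Groth.Agent.PP16Lib.Functorial

/-!
# Principal parts: localization and base change
-/

set_option autoImplicit false

universe u v

open scoped TensorProduct
open KaehlerDifferential (ideal)

attribute [local instance] PP16.mapAlgebra PP16.isScalarTower_mapAlgebra

namespace PP16Lib

variable {n : ℕ}

section descend

variable {A B A' B' : Type u} [CommRing A] [CommRing B] [Algebra A B]
  [CommRing A'] [CommRing B'] [Algebra A' B'] [Algebra A A'] [Algebra B B'] [Algebra A B']
  [IsScalarTower A A' B'] [IsScalarTower A B B']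

theorem map_ideal_of_ext
    (hext : ∀ {T : Type u} [CommRing T] [Algebra A' T] (f g : B' →ₐ[A'] T),
      (∀ b, f (algebraMap B B' b) = g (algebraMap B B' b)) → f = g) :
    (ideal A B).map (PP16.tensorMap A B A' B') = ideal A' B' := by
  refine le_antisymm (PP16.ideal_map_tensorMap_le A B A' B') ?_
  conv_lhs => rw [← KaehlerDifferential.span_range_eq_ideal]
  rw [Ideal.span_le]
  rintro _ ⟨x, rfl⟩
  set J := (ideal A B).map (PP16.tensorMap A B A' B') with hJ
  have h : (Ideal.Quotient.mkₐ A' J).comp (Algebra.TensorProduct.includeRight (R := A') (A := B') (B := B')) =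
      (Ideal.Quotient.mkₐ A' J).comp (Algebra.TensorProduct.includeLeft (R := A') (S := A') (A := B') (B := B')) :=
    hext _ _ fun b => Ideal.Quotient.eq.2 (by
      rw [hJ]
      show (1 : B') ⊗ₜ[A'] algebraMap B B' b - algebraMap B B' b ⊗ₜ[A'] (1 : B') ∈ _
      rw [← tensorMap_one_sub (A := A)]
      exact Ideal.mem_map_of_mem _ (KaehlerDifferential.one_smul_sub_smul_one_mem_ideal A b))
  exact Ideal.Quotient.eq.1 (AlgHom.congr_fun h x)

theorem kills {L : Type v} [CommRing L] (hI : (ideal A B).map (PP16.tensorMap A B A' B') = ideal A' B')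
    (ψ : B' ⊗[A'] B' →+* L) (α : PP16.P n A B →+* L)
    (hψ : ∀ b c : B, ψ (PP16.tensorMap A B A' B' (b ⊗ₜ c)) = α (Ideal.Quotient.mk _ (b ⊗ₜ c)))
    {z : B' ⊗[A'] B'} (hz : z ∈ ideal A' B' ^ (n + 1)) : ψ z = 0 := by
  have h : ∀ w, ψ (PP16.tensorMap A B A' B' w) = α (Ideal.Quotient.mk _ w) := fun w => by
    induction w with
    | zero => simp
    | add a b ha hb => simp only [map_add, ha, hb]
    | tmul b c => exact hψ b c
  rw [← hI, ← Ideal.map_pow] at hz
  have hle : (ideal A B ^ (n + 1)).map (PP16.tensorMap A B A' B') ≤ RingHom.ker ψ := by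
    rw [Ideal.map_le_iff_le_comap]
    intro w hw
    rw [Ideal.mem_comap, RingHom.mem_ker, h, Ideal.Quotient.eq_zero_iff_mem.2 hw, map_zero]
  exact RingHom.mem_ker.1 (hle hz)

/-- The map out of `P^n_{B'/A'}` through a map out of the tensor square. -/
noncomputable def descend {L : Type v} [CommRing L]
    (hI : (ideal A B).map (PP16.tensorMap A B A' B') = ideal A' B')
    (ψ : B' ⊗[A'] B' →+* L) (α : PP16.P n A B →+* L)
    (hψ : ∀ b c : B, ψ (PP16.tensorMap A B A' B' (b ⊗ₜ c)) = α (Ideal.Quotient.mk _ (b ⊗ₜ c))) :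
    PP16.P n A' B' →+* L :=
  Ideal.Quotient.lift _ ψ fun _ hz => kills hI ψ α hψ hz

theorem descend_mk {L : Type v} [CommRing L]
    (hI : (ideal A B).map (PP16.tensorMap A B A' B') = ideal A' B')
    (ψ : B' ⊗[A'] B' →+* L) (α : PP16.P n A B →+* L)
    (hψ : ∀ b c : B, ψ (PP16.tensorMap A B A' B' (b ⊗ₜ c)) = α (Ideal.Quotient.mk _ (b ⊗ₜ c))) (z) :
    descend hI ψ α hψ (Ideal.Quotient.mk _ z) = ψ z := rfl

theorem mapAlgebra_algebraMap (z : PP16.P n A B) :
    algebraMap (PP16.P n A B) (PP16.P n A' B') z = PP16.map n A B A' B' z := rfl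

theorem descend_map {L : Type v} [CommRing L]
    (hI : (ideal A B).map (PP16.tensorMap A B A' B') = ideal A' B')
    (ψ : B' ⊗[A'] B' →+* L) (α : PP16.P n A B →+* L)
    (hψ : ∀ b c : B, ψ (PP16.tensorMap A B A' B' (b ⊗ₜ c)) = α (Ideal.Quotient.mk _ (b ⊗ₜ c))) (z : PP16.P n A B) :
    descend hI ψ α hψ (PP16.map n A B A' B' z) = α z := by
  refine RingHom.congr_fun (ringHom_ext (f := (descend hI ψ α hψ).comp (PP16.map n A B A' B').toRingHom)
    (g := α) (fun b => ?_) fun b => ?_) z
  · exact hψ b 1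
  · exact hψ 1 b

end descend

section localization

variable {A B B' : Type u} [CommRing A] [CommRing B] [Algebra A B] [CommRing B'] [Algebra B B'] [Algebra A B']
  [IsScalarTower A B B'] (S : Submonoid B) [IsLocalization S B']

theorem isUnit_image_dn {L : Type v} [CommRing L] (α : PP16.P n A B →+* L) {s : B}
    (hs : IsUnit (α (algebraMap B (PP16.P n A B) s))) : IsUnit (α (PP16.dn n A B s)) := by
  rw [← add_sub_cancel (algebraMap B (PP16.P n A B) s) (PP16.dn n A B s), map_add]
  exact IsNilpotent.isUnit_add_left_of_commute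
    ((isNilpotent_of_mem_augIdeal (dn_sub_mem s)).map α) hs (Commute.all _ _)

theorem isLocalization_of (L : Type u) [CommRing L] [Algebra (PP16.P n A B) L]
    [IsLocalization (S.map (algebraMap B (PP16.P n A B))) L] [Algebra A L] [IsScalarTower A (PP16.P n A B) L] :
    IsLocalization (S.map (algebraMap B (PP16.P n A B))) (PP16.P n A B') := by
  set M := S.map (algebraMap B (PP16.P n A B)) with hM
  let α : PP16.P n A B →+* L := algebraMap _ _
  let f₁ : B →ₐ[A] L :=
    (IsScalarTower.toAlgHom A (PP16.P n A B) L).comp (IsScalarTower.toAlgHom A B (PP16.P n A B))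
  let g₁ : B →ₐ[A] L :=
    (IsScalarTower.toAlgHom A (PP16.P n A B) L).comp (PP16.dn n A B)
  have hu₁ : ∀ s : S, IsUnit (f₁ s) := fun s =>
    IsLocalization.map_units L (⟨_, Submonoid.mem_map.2 ⟨s, s.2, rfl⟩⟩ : M)
  have hu₂ : ∀ s : S, IsUnit (g₁ s) := fun s => show IsUnit (α (PP16.dn n A B s)) from
    isUnit_image_dn α (hu₁ s)
  let f : B' →ₐ[A] L := IsLocalization.liftAlgHom (S := B') hu₁
  let g : B' →ₐ[A] L := IsLocalization.liftAlgHom (S := B') hu₂
  let ψ : B' ⊗[A] B' →ₐ[A] L := Algebra.TensorProduct.lift f g fun _ _ => Commute.all _ _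
  have hψ : ∀ b c : B, ψ.toRingHom (PP16.tensorMap A B A B' (b ⊗ₜ c)) = α (Ideal.Quotient.mk _ (b ⊗ₜ c)) :=
    fun b c => by
      show ψ _ = _
      rw [PP16.tensorMap_tmul, Algebra.TensorProduct.lift_tmul f g, mk_tmul, map_mul]
      exact congrArg₂ (· * ·) (IsLocalization.lift_eq hu₁ b) (IsLocalization.lift_eq hu₂ c)
  have hI : (ideal A B).map (PP16.tensorMap A B A B') = ideal A B' :=
    map_ideal_of_ext fun f g h => AlgHom.coe_ringHom_injective (IsLocalization.ringHom_ext S (RingHom.ext h))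
  have hunit : ∀ m : M, IsUnit ((PP16.map n A B A B').toRingHom (m : PP16.P n A B)) := by
    rintro ⟨_, s, hs, rfl⟩
    show IsUnit (PP16.map n A B A B' (algebraMap B (PP16.P n A B) s))
    rw [PP16.map_algebraMap]
    exact (IsLocalization.map_units B' (⟨s, hs⟩ : S)).map _
  let φ : L →ₐ[PP16.P n A B] PP16.P n A B' :=
    { IsLocalization.lift (S := L) hunit with commutes' := fun z => IsLocalization.lift_eq hunit z }
  let ψ' : PP16.P n A B' →ₐ[PP16.P n A B] L :=
    { descend hI ψ.toRingHom α hψ with commutes' := fun z => descend_map hI _ _ hψ z }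
  have h₂ : φ.comp ψ' = AlgHom.id _ _ := by
    refine AlgHom.coe_ringHom_injective (ringHom_ext (fun x => ?_) fun x => ?_) <;>
      refine RingHom.congr_fun (IsLocalization.ringHom_ext S (RingHom.ext fun b => ?_)
        (j := (φ.comp ψ').toRingHom.comp _) (k := (AlgHom.id _ _).toRingHom.comp _)) x
    · show φ (ψ' (algebraMap B' (PP16.P n A B') (algebraMap B B' b))) = algebraMap B' _ (algebraMap B B' b)
      rw [← PP16.map_algebraMap n A B A B' b, ← mapAlgebra_algebraMap, AlgHom.commutes, AlgHom.commutes]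
    · show φ (ψ' (PP16.dn n A B' (algebraMap B B' b))) = PP16.dn n A B' (algebraMap B B' b)
      rw [← PP16.map_dn n A B A B' b, ← mapAlgebra_algebraMap, AlgHom.commutes, AlgHom.commutes]
  have h₁ : ψ'.comp φ = AlgHom.id _ _ := AlgHom.coe_ringHom_injective
    (IsLocalization.ringHom_ext M (RingHom.ext fun z => (ψ'.comp φ).commutes z))
  exact IsLocalization.isLocalization_of_algEquiv M (AlgEquiv.ofAlgHom φ ψ' h₂ h₁)

theorem isLocalization_map : IsLocalization (S.map (algebraMap B (PP16.P n A B))) (PP16.P n A B') :=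
  isLocalization_of S (Localization (S.map (algebraMap B (PP16.P n A B))))

end localization

section pushout

variable {A B A' B' : Type u} [CommRing A] [CommRing B] [Algebra A B]
  [CommRing A'] [CommRing B'] [Algebra A' B'] [Algebra A A'] [Algebra B B'] [Algebra A B']
  [IsScalarTower A A' B'] [IsScalarTower A B B'] [Algebra.IsPushout A B A' B']

theorem map_ideal_of_isPushout : (ideal A B).map (PP16.tensorMap A B A' B') = ideal A' B' :=
  map_ideal_of_ext fun {T} _ _ f g h => by
    letI : Algebra A T := ((algebraMap A' T).comp (algebraMap A A')).toAlgebra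
    haveI : IsScalarTower A A' T := IsScalarTower.of_algebraMap_eq fun _ => rfl
    exact AlgHom.restrictScalars_injective A (Algebra.IsPushout.algHom_ext (R := A) (S := B) (R' := A') B'
      (AlgHom.ext fun a => (f.commutes a).trans (g.commutes a).symm) (AlgHom.ext h))

theorem tmul_algebraMap (x : PP16.P n A B) (b : B) :
    x ⊗ₜ[B] algebraMap B B' b = (algebraMap B (PP16.P n A B) b * x) ⊗ₜ[B] (1 : B') := by
  rw [← Algebra.smul_def, Algebra.algebraMap_eq_smul_one, TensorProduct.tmul_smul, TensorProduct.smul_tmul']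

theorem exists_descent {Q : Type u} [CommRing Q] (α : PP16.P n A B →+* Q) (ι : B' →+* Q)
    (hι : ∀ b, ι (algebraMap B B' b) = α (algebraMap B (PP16.P n A B) b)) :
    ∃ ψ : PP16.P n A' B' →+* Q, (∀ z, ψ (PP16.map n A B A' B' z) = α z) ∧
      ∀ x, ψ (algebraMap B' (PP16.P n A' B') x) = ι x := by
  let : Algebra A Q := (α.comp (algebraMap A (PP16.P n A B))).toAlgebra
  let : Algebra A' Q := (ι.comp (algebraMap A' B')).toAlgebra
  let f₁ : B →ₐ[A] Q :=
    { α.comp (PP16.dn n A B).toRingHom with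
      commutes' := fun a => congrArg α ((PP16.dn n A B).commutes a) }
  let g₁ : A' →ₐ[A] Q :=
    { ι.comp (algebraMap A' B') with
      commutes' := fun a => by
        show ι (algebraMap A' B' (algebraMap A A' a)) = α (algebraMap A (PP16.P n A B) a)
        rw [← IsScalarTower.algebraMap_apply, IsScalarTower.algebraMap_apply A B B', hι,
          ← IsScalarTower.algebraMap_apply] }
  let R₀ : B' →ₐ[A] Q := Algebra.pushoutDesc B' f₁ g₁ fun _ _ => Commute.all _ _
  let lf : B' →ₐ[A'] Q := { ι with commutes' := fun _ => rfl }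
  let rg : B' →ₐ[A'] Q :=
    { R₀.toRingHom with commutes' := fun a => Algebra.pushoutDesc_right B' f₁ g₁ _ a }
  let ψ : B' ⊗[A'] B' →ₐ[A'] Q := Algebra.TensorProduct.lift lf rg fun _ _ => Commute.all _ _
  have hψ : ∀ b c : B, ψ.toRingHom (PP16.tensorMap A B A' B' (b ⊗ₜ c)) = α (Ideal.Quotient.mk _ (b ⊗ₜ c)) :=
    fun b c => by
      show ψ _ = _
      rw [PP16.tensorMap_tmul, Algebra.TensorProduct.lift_tmul lf rg, mk_tmul, map_mul]
      exact congrArg₂ (· * ·) (hι b) (Algebra.pushoutDesc_left B' f₁ g₁ _ c)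
  refine ⟨descend map_ideal_of_isPushout ψ.toRingHom α hψ, fun z => descend_map map_ideal_of_isPushout _ _ hψ z,
    fun x => ?_⟩
  show ψ (x ⊗ₜ (1 : B')) = ι x
  rw [Algebra.TensorProduct.lift_tmul lf rg, map_one, mul_one]
  rfl

theorem map_hom_ext {T : Type u} [CommRing T] {f g : PP16.P n A' B' →+* T}
    (h₁ : ∀ z, f (PP16.map n A B A' B' z) = g (PP16.map n A B A' B' z))
    (h₂ : ∀ x, f (algebraMap B' (PP16.P n A' B') x) = g (algebraMap B' (PP16.P n A' B') x)) : f = g := by
  refine ringHom_ext h₂ fun x => ?_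
  let : Algebra A T := (f.comp (algebraMap A (PP16.P n A' B'))).toAlgebra
  let F : B' →ₐ[A] T := { f.comp (PP16.dn n A' B').toRingHom with
    commutes' := fun a => congrArg f (((PP16.dn n A' B').restrictScalars A).commutes a) }
  let G : B' →ₐ[A] T := { g.comp (PP16.dn n A' B').toRingHom with
    commutes' := fun a => by
      show g (((PP16.dn n A' B').restrictScalars A) (algebraMap A B' a)) = f (algebraMap A _ a)
      rw [AlgHom.commutes, IsScalarTower.algebraMap_apply A B' (PP16.P n A' B'), h₂] }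
  refine AlgHom.congr_fun (Algebra.IsPushout.algHom_ext (R := A) (S := B) (R' := A') B' (f := F) (g := G)
    (AlgHom.ext fun a => ?_) (AlgHom.ext fun b => ?_)) x
  · show f (PP16.dn n A' B' (algebraMap A' B' a)) = g (PP16.dn n A' B' (algebraMap A' B' a))
    rw [AlgHom.commutes, IsScalarTower.algebraMap_apply A' B' (PP16.P n A' B'), h₂]
  · show f (PP16.dn n A' B' (algebraMap B B' b)) = g (PP16.dn n A' B' (algebraMap B B' b))
    rw [← PP16.map_dn n A B A' B' b, h₁]

theorem isPushout_of {Q : Type u} [CommRing Q] [Algebra (PP16.P n A B) Q] (r : B' →+* Q)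
    (hr : ∀ b, r (algebraMap B B' b) = algebraMap (PP16.P n A B) Q (algebraMap B (PP16.P n A B) b))
    (φ : Q →ₐ[PP16.P n A B] PP16.P n A' B')
    (hφ : ∀ x, φ (r x) = algebraMap B' (PP16.P n A' B') x)
    (hQ : ∀ h : Q →ₐ[PP16.P n A B] Q, (∀ x, h (r x) = r x) → h = AlgHom.id _ _) :
    Function.Bijective φ := by
  obtain ⟨ψ, hψ₁, hψ₂⟩ := exists_descent (A' := A') (algebraMap (PP16.P n A B) Q) r hr
  let ψ' : PP16.P n A' B' →ₐ[PP16.P n A B] Q := { ψ with commutes' := hψ₁ }
  have h₁ : ψ'.comp φ = AlgHom.id _ _ := hQ _ fun x => by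
    show ψ (φ (r x)) = r x
    rw [hφ, hψ₂]
  have h₂ : φ.toRingHom.comp ψ = RingHom.id _ := map_hom_ext (fun z => by
    show φ (ψ (PP16.map n A B A' B' z)) = PP16.map n A B A' B' z
    rw [hψ₁, AlgHom.commutes, mapAlgebra_algebraMap]) fun x => by
    show φ (ψ _) = _
    rw [hψ₂, hφ]
    rfl
  exact Function.bijective_iff_has_inverse.2 ⟨ψ, AlgHom.congr_fun h₁, RingHom.congr_fun h₂⟩

theorem isPushout : Algebra.IsPushout B (PP16.P n A B) B' (PP16.P n A' B') := by
  let φ : PP16.P n A B ⊗[B] B' →ₐ[PP16.P n A B] PP16.P n A' B' :=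
    Algebra.TensorProduct.lift (Algebra.ofId _ _) (IsScalarTower.toAlgHom B B' (PP16.P n A' B'))
      fun _ _ => Commute.all _ _
  have hr : ∀ x, φ ((1 : PP16.P n A B) ⊗ₜ[B] x) = algebraMap B' (PP16.P n A' B') x := fun x => by
    rw [Algebra.TensorProduct.lift_tmul, map_one, one_mul]; rfl
  have hbij : Function.Bijective φ := isPushout_of (n := n) (A := A) (B := B) (A' := A') (B' := B')
    (Q := PP16.P n A B ⊗[B] B') (Algebra.TensorProduct.includeRight (R := B) (A := PP16.P n A B) (B := B')).toRingHom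
    (fun b => by
      show (1 : PP16.P n A B) ⊗ₜ[B] algebraMap B B' b = _
      rw [tmul_algebraMap, mul_one]
      exact (Algebra.TensorProduct.algebraMap_apply (A := PP16.P n A B) (B := B') (algebraMap B (PP16.P n A B) b)).symm) φ hr
    fun h hh => Algebra.TensorProduct.ext (Algebra.ext_id _ _ _) (AlgHom.ext hh)
  exact ⟨IsBaseChange.of_equiv (AlgEquiv.ofBijective φ hbij).toLinearEquiv fun x => hr x⟩

end pushout

end PP16Lib
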