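import Groth.Prelude.Def_PP16
import Mathlib

/-!
# Rings of principal parts: basic API

`hom_ext`, `lift` (a pair of algebra maps congruent modulo an ideal with vanishing `(n+1)`-st power),
generation and finiteness.
-/

set_option autoImplicit false

universe u v

open scoped TensorProduct
open KaehlerDifferential (ideal)

namespace PP16Lib

variable {n : ℕ} {A B : Type u} [CommRing A] [CommRing B] [Algebra A B]

theorem algebraMap_eq (b : B) :
    algebraMap B (PP16.P n A B) b = Ideal.Quotient.mk _ (b ⊗ₜ[A] (1 : B)) := rfl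

theorem dn_eq (b : B) : PP16.dn n A B b = Ideal.Quotient.mk _ ((1 : B) ⊗ₜ[A] b) := rfl

theorem mk_tmul (b c : B) :
    Ideal.Quotient.mk ((ideal A B) ^ (n + 1)) (b ⊗ₜ[A] c) = algebraMap B (PP16.P n A B) b * PP16.dn n A B c := by
  rw [algebraMap_eq, dn_eq, ← map_mul, Algebra.TensorProduct.tmul_mul_tmul, mul_one, one_mul]

theorem span_range_dn : Submodule.span B (Set.range (PP16.dn n A B)) = ⊤ := by
  rw [eq_top_iff]
  rintro z -
  obtain ⟨z, rfl⟩ := Ideal.Quotient.mk_surjective z
  induction z with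
  | zero => simp
  | add a b ha hb => rw [map_add]; exact add_mem ha hb
  | tmul b c =>
    rw [mk_tmul, ← Algebra.smul_def]
    exact Submodule.smul_mem _ _ (Submodule.subset_span ⟨c, rfl⟩)

/-- Ring homomorphisms out of `P^n` are determined on both copies of `B`. -/
theorem ringHom_ext {Q : Type v} [Semiring Q] {f g : PP16.P n A B →+* Q}
    (h₁ : ∀ b, f (algebraMap B (PP16.P n A B) b) = g (algebraMap B (PP16.P n A B) b))
    (h₂ : ∀ b, f (PP16.dn n A B b) = g (PP16.dn n A B b)) : f = g := by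
  refine RingHom.ext fun z => ?_
  obtain ⟨z, rfl⟩ := Ideal.Quotient.mk_surjective z
  induction z with
  | zero => simp
  | add a b ha hb => rw [map_add, map_add, map_add, ha, hb]
  | tmul b c => rw [mk_tmul, map_mul, map_mul, h₁, h₂]

theorem mk_ideal_mem_augIdeal {z : B ⊗[A] B} (hz : z ∈ ideal A B) :
    Ideal.Quotient.mk _ z ∈ PP16.augIdeal n A B := Ideal.mem_map_of_mem _ hz

theorem dn_sub_mem (b : B) : PP16.dn n A B b - algebraMap B (PP16.P n A B) b ∈ PP16.augIdeal n A B := by
  rw [dn_eq, algebraMap_eq, ← map_sub]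
  exact mk_ideal_mem_augIdeal (KaehlerDifferential.one_smul_sub_smul_one_mem_ideal A b)

theorem augIdeal_pow_eq_bot : PP16.augIdeal n A B ^ (n + 1) = ⊥ := by
  rw [PP16.augIdeal, ← Ideal.map_pow, Ideal.map_quotient_self]

theorem isNilpotent_of_mem_augIdeal {z : PP16.P n A B} (hz : z ∈ PP16.augIdeal n A B) : IsNilpotent z :=
  ⟨n + 1, (Ideal.mem_bot).1 (augIdeal_pow_eq_bot (n := n) (A := A) (B := B) ▸ Ideal.pow_mem_pow hz _)⟩

theorem augIdeal_eq_span :
    PP16.augIdeal n A B = Ideal.span (Set.range fun b => PP16.dn n A B b - algebraMap B (PP16.P n A B) b) := by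
  have h := congrArg (Ideal.map (Ideal.Quotient.mk (ideal A B ^ (n + 1)))) (KaehlerDifferential.span_range_eq_ideal A B)
  rw [Ideal.map_span, ← Set.range_comp] at h
  exact h.symm

section lift

variable {Q : Type v} [CommRing Q] [Algebra A Q] (f g : B →ₐ[A] Q) (J : Ideal Q)

/-- Elements at which two algebra maps agree modulo an ideal. -/
def congrSubalgebra : Subalgebra A B :=
  AlgHom.equalizer ((Ideal.Quotient.mkₐ A J).comp f) ((Ideal.Quotient.mkₐ A J).comp g)

theorem mem_congrSubalgebra (b : B) : b ∈ congrSubalgebra f g J ↔ g b - f b ∈ J := by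
  rw [congrSubalgebra, AlgHom.mem_equalizer, AlgHom.comp_apply, AlgHom.comp_apply,
    Ideal.Quotient.mkₐ_eq_mk, eq_comm, Ideal.Quotient.eq]

theorem congr_of_adjoin {s : Set B} (hs : Algebra.adjoin A s = ⊤) (h : ∀ b ∈ s, g b - f b ∈ J) (b : B) :
    g b - f b ∈ J := by
  rw [← mem_congrSubalgebra f g J]
  have hle : Algebra.adjoin A s ≤ congrSubalgebra f g J :=
    Algebra.adjoin_le fun x hx => (mem_congrSubalgebra f g J x).2 (h x hx)
  exact hle (hs ▸ Algebra.mem_top)

variable {f g J}

theorem map_ideal_le (h : ∀ b, g b - f b ∈ J) :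
    (ideal A B).map (Algebra.TensorProduct.lift f g fun _ _ => Commute.all _ _) ≤ J := by
  rw [← KaehlerDifferential.span_range_eq_ideal, Ideal.map_span, Ideal.span_le]
  rintro _ ⟨_, ⟨b, rfl⟩, rfl⟩
  rw [map_sub, Algebra.TensorProduct.lift_tmul f g, Algebra.TensorProduct.lift_tmul f g, map_one, map_one,
    one_mul, mul_one]
  exact h b

variable (f g J)

/-- The map out of `P^n` given by two maps congruent modulo an ideal with vanishing `(n+1)`-st power. -/
noncomputable def lift (h : ∀ b, g b - f b ∈ J) (hJ : J ^ (n + 1) = ⊥) : PP16.P n A B →ₐ[A] Q :=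
  Ideal.Quotient.liftₐ _ (Algebra.TensorProduct.lift f g fun _ _ => Commute.all _ _) fun z hz => by
    have h1 := Ideal.mem_map_of_mem (Algebra.TensorProduct.lift f g fun _ _ => Commute.all _ _) hz
    rw [Ideal.map_pow] at h1
    have h2 := Ideal.pow_right_mono (map_ideal_le h) (n + 1) h1
    rwa [hJ, Ideal.mem_bot] at h2

variable {f g J} {h : ∀ b, g b - f b ∈ J} {hJ : J ^ (n + 1) = ⊥}

theorem lift_algebraMap (b : B) : lift f g J h hJ (algebraMap B (PP16.P n A B) b) = f b := by
  show Algebra.TensorProduct.lift f g (fun _ _ => Commute.all _ _) (b ⊗ₜ (1 : B)) = _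
  rw [Algebra.TensorProduct.lift_tmul f g, map_one, mul_one]

theorem lift_dn (b : B) : lift f g J h hJ (PP16.dn n A B b) = g b := by
  show Algebra.TensorProduct.lift f g (fun _ _ => Commute.all _ _) ((1 : B) ⊗ₜ b) = _
  rw [Algebra.TensorProduct.lift_tmul f g, map_one, one_mul]

variable (f g J)

theorem exists_lift (h : ∀ b, g b - f b ∈ J) (hJ : J ^ (n + 1) = ⊥) :
    ∃ F : PP16.P n A B →ₐ[A] Q, (∀ b, F (algebraMap B (PP16.P n A B) b) = f b) ∧
      ∀ b, F (PP16.dn n A B b) = g b :=
  ⟨lift f g J h hJ, fun _ => lift_algebraMap _, fun _ => lift_dn _⟩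

end lift

theorem adjoin_dn {s : Set B} (hs : Algebra.adjoin A s = ⊤) :
    Algebra.adjoin B (PP16.dn n A B '' s) = ⊤ := by
  rw [eq_top_iff]
  intro w _
  let T : Subalgebra A (PP16.P n A B) := Subalgebra.restrictScalars A (Algebra.adjoin B (⇑(PP16.dn n A B) '' s))
  have hle : Algebra.adjoin A s ≤ T.comap (PP16.dn n A B) :=
    Algebra.adjoin_le fun x hx => Algebra.subset_adjoin (R := B) ⟨x, hx, rfl⟩
  have hw : w ∈ Submodule.span B (Set.range (PP16.dn n A B)) := (span_range_dn (n := n) (A := A) (B := B)).symm ▸ Submodule.mem_top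
  have : Submodule.span B (Set.range (PP16.dn n A B)) ≤ Subalgebra.toSubmodule (Algebra.adjoin B (PP16.dn n A B '' s)) :=
    Submodule.span_le.2 fun _ ⟨b, hb⟩ => hb ▸ hle (hs ▸ Algebra.mem_top)
  exact this hw

theorem isIntegral_dn (b : B) : IsIntegral B (PP16.dn n A B b) := by
  rw [show PP16.dn n A B b = (PP16.dn n A B b - algebraMap B (PP16.P n A B) b) + algebraMap B (PP16.P n A B) b by abel]
  obtain ⟨k, hk⟩ := isNilpotent_of_mem_augIdeal (n := n) (A := A) (dn_sub_mem b)
  exact IsIntegral.add ⟨Polynomial.X ^ k, Polynomial.monic_X_pow k, by simp [hk]⟩ isIntegral_algebraMap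

theorem finite_P [Algebra.FiniteType A B] : Module.Finite B (PP16.P n A B) := by
  classical
  obtain ⟨s, hs⟩ := ‹Algebra.FiniteType A B›.out
  have hfg := fg_adjoin_of_finite (R := B) ((s.finite_toSet).image (PP16.dn n A B))
    (fun _ ⟨b, _, hb⟩ => hb ▸ isIntegral_dn b)
  rw [adjoin_dn hs, Algebra.top_toSubmodule] at hfg
  exact ⟨hfg⟩

theorem finitePresentation_P [Algebra.FinitePresentation A B] :
    Module.FinitePresentation B (PP16.P n A B) := by
  have := finite_P (n := n) (A := A) (B := B)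
  have hfg : (ideal A B ^ (n + 1)).FG := (KaehlerDifferential.ideal_fg A B).pow
  have : Algebra.FinitePresentation B (PP16.P n A B) := Algebra.FinitePresentation.quotient hfg
  exact Module.FinitePresentation.of_finite_of_finitePresentation _ _

end PP16Lib
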