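import Groth.Agent.PP16Lib.Graded

/-!
# A criterion for differential smoothness through polynomial-valued functionals
-/

set_option autoImplicit false

universe u v w

open scoped TensorProduct
open KaehlerDifferential (ideal)

namespace PP16Lib

variable {A B : Type u} [CommRing A] [CommRing B] [Algebra A B]

/-- The statement that `ℓ` realises degree `m` of the coordinates `j`. -/
def Realises {σ : Type w} (j : KaehlerDifferential A B →ₗ[B] σ →₀ B) (m : ℕ) {α : Type v} (s : α → B)
    (ℓ : B ⊗[A] B →ₗ[B] MvPolynomial σ B) : Prop :=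
  (∀ z ∈ ideal A B ^ (m + 1), ℓ z = 0) ∧
    ∀ b : Fin m → α, ℓ (∏ i, zeta A (s (b i))) = ∏ i, linForm B σ (j (KaehlerDifferential.D A B (s (b i))))

theorem isDiffSmooth_of_realises [Module.Projective B (KaehlerDifferential A B)] {σ : Type w}
    (j : KaehlerDifferential A B →ₗ[B] σ →₀ B) (q : (σ →₀ B) →ₗ[B] KaehlerDifferential A B)
    (hq : ∀ x, q (j x) = x) {α : Type v} (s : α → B)
    (hs : Submodule.span B (Set.range fun a => KaehlerDifferential.D A B (s a)) = ⊤)
    (h : ∀ m, ∃ ℓ, Realises j m s ℓ) : PP16.IsDiffSmooth A B := by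
  refine isDiffSmooth_iff_injective.2 ⟨inferInstance, fun ι _ => ?_⟩
  obtain ⟨ℓ, hℓ0, hℓ⟩ := h (Fintype.card ι)
  let Ψ : PP16.grI A B (Fintype.card ι) →ₗ[B] MvPolynomial σ B :=
    Submodule.liftQ _ (ℓ.comp ((ideal A B ^ Fintype.card ι).restrictScalars B).subtype)
      fun x hx => hℓ0 _ hx
  have hΨ : ∀ x hx, Ψ (gmk _ x hx) = ℓ x := fun x hx => rfl
  have hcomp : Ψ.comp (canMap A B ι) = polyMap j := by
    refine LinearMap.ext_on (span_tprod_of_span (fun a => KaehlerDifferential.D A B (s a)) hs) ?_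
    rintro _ ⟨b, rfl⟩
    simp only [LinearMap.comp_apply, canMap_tprod_D, polyMap_tprod]
    let e := (Fintype.equivFin ι).symm
    show ℓ (∏ i, zeta A (s (b i))) = _
    rw [← Equiv.prod_comp e, hℓ (fun k => b (e k)),
      Equiv.prod_comp e (fun i => linForm B σ (j (KaehlerDifferential.D A B (s (b i)))))]
  intro x y hxy
  apply polyMap_injective j q hq
  rw [← hcomp, LinearMap.comp_apply, LinearMap.comp_apply, hxy]

variable (A B) in
/-- The inclusion of the graded piece into principal parts. -/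
noncomputable def incl (m : ℕ) : PP16.grI A B m →ₗ[B] PP16.P m A B :=
  Submodule.liftQ _ ((Ideal.Quotient.mkₐ B (ideal A B ^ (m + 1))).toLinearMap.comp
    ((ideal A B ^ m).restrictScalars B).subtype) fun _ hx => Ideal.Quotient.eq_zero_iff_mem.2 hx

theorem incl_gmk (m : ℕ) (x : B ⊗[A] B) (hx : x ∈ ideal A B ^ m) :
    incl A B m (gmk m x hx) = Ideal.Quotient.mk _ x := rfl

theorem incl_injective (m : ℕ) : Function.Injective (incl A B m) := by
  rw [injective_iff_map_eq_zero]
  intro q hq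
  obtain ⟨x, hx, rfl⟩ := gmk_surjective q
  exact (gmk_eq_zero hx).2 (Ideal.Quotient.eq_zero_iff_mem.1 hq)

theorem projective_grI (h : PP16.IsDiffSmooth A B) (m : ℕ) : Module.Projective B (PP16.grI A B m) := by
  obtain ⟨hp, hinj⟩ := isDiffSmooth_iff_injective.1 h
  have hproj : Module.Projective B (SymmetricPower B (ULift.{u} (Fin m)) (KaehlerDifferential A B)) :=
    projective_symmetricPower
  have h1 := Module.Projective.of_equiv
    (LinearEquiv.ofBijective _ ⟨hinj (ULift.{u} (Fin m)), canMap_surjective (A := A) (B := B) (ULift.{u} (Fin m))⟩)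
  rwa [Fintype.card_ulift, Fintype.card_fin] at h1

theorem projective_P_and_retraction (h : PP16.IsDiffSmooth A B) : ∀ m : ℕ,
    Module.Projective B (PP16.P m A B) ∧ ∃ r : PP16.P m A B →ₗ[B] PP16.grI A B m, ∀ x, r (incl A B m x) = x
  | 0 => by
    have := projective_grI h 0
    have hbij : Function.Bijective (incl A B 0) := ⟨incl_injective 0, fun x => by
      obtain ⟨x, rfl⟩ := Ideal.Quotient.mk_surjective x
      exact ⟨gmk 0 x (by rw [pow_zero, Ideal.one_eq_top]; exact Submodule.mem_top), rfl⟩⟩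
    exact ⟨Module.Projective.of_equiv (LinearEquiv.ofBijective _ hbij),
      (LinearEquiv.ofBijective _ hbij).symm.toLinearMap, fun x => (LinearEquiv.ofBijective _ hbij).symm_apply_apply x⟩
  | m + 1 => by
    obtain ⟨hP, -⟩ := projective_P_and_retraction h m
    have := projective_grI h (m + 1)
    let π : PP16.P (m + 1) A B →ₗ[B] PP16.P m A B :=
      (Ideal.Quotient.factorₐ B (Ideal.pow_le_pow_right (I := ideal A B) (Nat.le_succ (m + 1)))).toLinearMap
    have hπ : ∀ x, π (Ideal.Quotient.mk _ x) = Ideal.Quotient.mk _ x := fun x => rfl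
    have hπs : Function.Surjective π := fun x => by
      obtain ⟨x, rfl⟩ := Ideal.Quotient.mk_surjective x
      exact ⟨Ideal.Quotient.mk _ x, hπ x⟩
    obtain ⟨s, hs⟩ := Module.projective_lifting_property π LinearMap.id hπs
    have hmem : ∀ x, x - s (π x) ∈ LinearMap.range (incl A B (m + 1)) := fun x => by
      obtain ⟨y, hy⟩ := Ideal.Quotient.mk_surjective (x - s (π x))
      have h0 : π (x - s (π x)) = 0 := by
        rw [map_sub, sub_eq_zero]; exact (LinearMap.congr_fun hs (π x)).symm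
      rw [← hy, hπ, Ideal.Quotient.eq_zero_iff_mem] at h0
      exact ⟨gmk (m + 1) y h0, hy⟩
    let e := LinearEquiv.ofInjective (incl A B (m + 1)) (incl_injective _)
    let r : PP16.P (m + 1) A B →ₗ[B] PP16.grI A B (m + 1) :=
      e.symm.toLinearMap.comp ((LinearMap.id - s.comp π).codRestrict (LinearMap.range (incl A B (m + 1))) hmem)
    have hker : ∀ x, π (incl A B (m + 1) x) = 0 := fun x => by
      obtain ⟨y, hy, rfl⟩ := gmk_surjective x
      rw [incl_gmk, hπ]
      exact Ideal.Quotient.eq_zero_iff_mem.2 hy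
    have hr : ∀ x, r (incl A B (m + 1) x) = x := fun x => by
      apply incl_injective (A := A) (B := B) (m + 1)
      show (e (r (incl A B (m + 1) x)) : PP16.P (m + 1) A B) = _
      simp [r, hker]
    refine ⟨?_, r, hr⟩
    refine Module.Projective.of_split (M := PP16.grI A B (m + 1) × PP16.P m A B) (r.prod π)
      ((incl A B (m + 1)).coprod s) (LinearMap.ext fun x => ?_)
    show incl A B (m + 1) (r x) + s (π x) = x
    rw [show incl A B (m + 1) (r x) = x - s (π x) from ?_, sub_add_cancel]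
    show (e (r x) : PP16.P (m + 1) A B) = _
    simp [r]

theorem exists_realises (h : PP16.IsDiffSmooth A B) {σ : Type w} (j : KaehlerDifferential A B →ₗ[B] σ →₀ B)
    (m : ℕ) : ∃ ℓ, Realises j m (id : B → B) ℓ := by
  obtain ⟨-, r, hr⟩ := projective_P_and_retraction h m
  obtain ⟨-, hinj⟩ := isDiffSmooth_iff_injective.1 h
  have key : ∀ (ι : Type u) [Fintype ι], ∃ Ψ : PP16.grI A B (Fintype.card ι) →ₗ[B] MvPolynomial σ B,
      ∀ b : ι → B, Ψ (PP16.zetaProd A B b) = ∏ i, linForm B σ (j (KaehlerDifferential.D A B (b i))) := fun ι _ => by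
    let e := LinearEquiv.ofBijective _ ⟨hinj ι, canMap_surjective (A := A) (B := B) ι⟩
    refine ⟨(polyMap j).comp e.symm.toLinearMap, fun b => ?_⟩
    rw [LinearMap.comp_apply, ← canMap_tprod_D]
    show polyMap j (e.symm (e _)) = _
    rw [LinearEquiv.symm_apply_apply, polyMap_tprod]
  have hcard : Fintype.card (ULift.{u} (Fin m)) = m := by simp
  obtain ⟨Ψ, hΨ⟩ : ∃ Ψ : PP16.grI A B m →ₗ[B] MvPolynomial σ B,
      ∀ (b : Fin m → B) (hx), Ψ (gmk m (∏ i, zeta A (b i)) hx) =
        ∏ i, linForm B σ (j (KaehlerDifferential.D A B (b i))) := by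
    have : ∀ k, k = Fintype.card (ULift.{u} (Fin m)) → ∃ Ψ : PP16.grI A B k →ₗ[B] MvPolynomial σ B,
        ∀ (b : ULift.{u} (Fin m) → B) (hx), Ψ (gmk k (∏ i, zeta A (b i)) hx) =
          ∏ i, linForm B σ (j (KaehlerDifferential.D A B (b i))) := by
      rintro k rfl
      obtain ⟨Ψ, hΨ⟩ := key (ULift.{u} (Fin m))
      exact ⟨Ψ, fun b hx => hΨ b⟩
    obtain ⟨Ψ, hΨ⟩ := this m hcard.symm
    refine ⟨Ψ, fun b hx => ?_⟩
    have he : ∀ {M : Type (max u w)} [CommMonoid M] (f : Fin m → M),
        ∏ i : ULift.{u} (Fin m), f i.down = ∏ i, f i := fun f => Equiv.prod_comp Equiv.ulift f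
    have e1 : ∏ i : ULift.{u} (Fin m), zeta A (b i.down) = ∏ i, zeta A (b i) :=
      Equiv.prod_comp Equiv.ulift fun i => zeta A (b i)
    have h2 := hΨ (fun i => b i.down) (e1.symm ▸ hx)
    rw [he (fun i => linForm B σ (j (KaehlerDifferential.D A B (b i))))] at h2
    rw [← h2]
    exact congrArg Ψ ((gmk_eq_gmk _ _).2 (by rw [e1, sub_self]; exact zero_mem _))
  refine ⟨Ψ.comp (r.comp (Ideal.Quotient.mkₐ B (ideal A B ^ (m + 1))).toLinearMap), fun z hz => ?_, fun b => ?_⟩
  · show Ψ (r (Ideal.Quotient.mk _ z)) = 0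
    rw [Ideal.Quotient.eq_zero_iff_mem.2 hz, map_zero, map_zero]
  · show Ψ (r (Ideal.Quotient.mk _ (∏ i, zeta A (b i)))) = _
    have hx : ∏ i, zeta A (b i) ∈ ideal A B ^ m := by
      simpa using prod_mem_ideal_pow Finset.univ (fun i => zeta A (b i)) fun i _ => zeta_mem _
    rw [← incl_gmk m _ hx, hr, hΨ b hx]
    rfl

end PP16Lib
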