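import Groth.Agent.PP16Lib.Basic
import Groth.Prelude.Def_DiffOp

/-!
# Differential operators as linear maps out of `P^n(M)`
-/

set_option autoImplicit false

universe u v

open scoped TensorProduct
open KaehlerDifferential (ideal)

namespace PP16Lib

variable {A B : Type u} [CommRing A] [CommRing B] [Algebra A B]
variable {M N : Type u} [AddCommGroup M] [Module A M] [Module B M] [IsScalarTower A B M]
  [AddCommGroup N] [Module A N] [Module B N] [IsScalarTower A B N]

/-- `x ⊗ y ↦ x • D (y • m)`. -/
noncomputable def evalPair (D : M →ₗ[A] N) (m : M) : B ⊗[A] B →ₗ[A] N :=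
  TensorProduct.lift <| LinearMap.mk₂ A (fun (x y : B) => x • D (y • m))
    (fun x x' y => add_smul _ _ _) (fun a x y => smul_assoc _ _ _)
    (fun x y y' => by rw [add_smul, map_add, smul_add])
    (fun a x y => by rw [smul_assoc, map_smul, smul_comm])

theorem evalPair_tmul (D : M →ₗ[A] N) (m : M) (x y : B) : evalPair D m (x ⊗ₜ y) = x • D (y • m) := rfl

theorem evalPair_left (D : M →ₗ[A] N) (m : M) (c : B) (z : B ⊗[A] B) :
    evalPair D m ((c ⊗ₜ[A] (1 : B)) * z) = c • evalPair D m z := by
  induction z with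
  | zero => simp
  | add a b ha hb => rw [mul_add, map_add, map_add, ha, hb, smul_add]
  | tmul x y => rw [Algebra.TensorProduct.tmul_mul_tmul, evalPair_tmul, evalPair_tmul, one_mul, mul_smul]

theorem evalPair_right (D : M →ₗ[A] N) (m : M) (c : B) (z : B ⊗[A] B) :
    evalPair D m (((1 : B) ⊗ₜ[A] c) * z) = evalPair D (c • m) z := by
  induction z with
  | zero => simp
  | add a b ha hb => rw [mul_add, map_add, map_add, ha, hb]
  | tmul x y =>
    rw [Algebra.TensorProduct.tmul_mul_tmul, evalPair_tmul, evalPair_tmul, one_mul, mul_comm c y, mul_smul]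

theorem evalPair_commutator (D : M →ₗ[A] N) (m : M) (b : B) (z : B ⊗[A] B) :
    evalPair (Diff16.commutator A B M N D b) m z =
      evalPair D m (((1 : B) ⊗ₜ[A] b - b ⊗ₜ[A] (1 : B)) * z) := by
  induction z with
  | zero => simp
  | add a c ha hc => rw [mul_add, map_add, map_add, ha, hc]
  | tmul x y =>
    rw [sub_mul, map_sub, Algebra.TensorProduct.tmul_mul_tmul, Algebra.TensorProduct.tmul_mul_tmul,
      evalPair_tmul, evalPair_tmul, evalPair_tmul, one_mul, one_mul]
    simp only [Diff16.commutator, LinearMap.sub_apply, LinearMap.comp_apply,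
      LinearMap.coe_restrictScalars, LinearMap.lsmul_apply, mul_smul, smul_sub]
    rw [smul_comm x b]

theorem isDiffOpLE_iff_evalPair (n : ℕ) : ∀ D : M →ₗ[A] N,
    Diff16.IsDiffOpLE A B M N n D ↔ ∀ (m : M) (z : B ⊗[A] B), z ∈ ideal A B ^ (n + 1) → evalPair D m z = 0 := by
  have key : ∀ (k : ℕ) (D : M →ₗ[A] N),
      (∀ (b : B) (m : M) (z : B ⊗[A] B), z ∈ ideal A B ^ k → evalPair (Diff16.commutator A B M N D b) m z = 0) →
        ∀ (m : M) (z : B ⊗[A] B), z ∈ ideal A B ^ (k + 1) → evalPair D m z = 0 := by
    intro k D h m w hw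
    rw [pow_succ'] at hw
    refine Submodule.mul_induction_on hw (fun a ha z hz => ?_) fun x y hx hy => by rw [map_add, hx, hy, add_zero]
    rw [← KaehlerDifferential.span_range_eq_ideal] at ha
    induction ha using Submodule.span_induction generalizing z with
    | mem a ha =>
      obtain ⟨b, rfl⟩ := ha
      rw [← evalPair_commutator]
      exact h b m z hz
    | zero => rw [zero_mul, map_zero]
    | add a a' _ _ iha iha' => rw [add_mul, map_add, iha z hz, iha' z hz, add_zero]
    | smul c a _ iha => rw [smul_eq_mul, mul_comm c a, mul_assoc]; exact iha _ (Ideal.mul_mem_left _ c hz)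
  induction n with
  | zero =>
    intro D
    have hb : ∀ (b : B) (m : M), evalPair D m ((1 : B) ⊗ₜ[A] b - b ⊗ₜ[A] (1 : B)) = D (b • m) - b • D m :=
      fun b m => by rw [map_sub, evalPair_tmul, evalPair_tmul, one_smul, one_smul]
    refine ⟨fun h => key 0 D fun b m z _ => ?_, fun h b m => ?_⟩
    · rw [show Diff16.commutator A B M N D b = 0 from LinearMap.ext fun x => sub_eq_zero.2 (h b x)]
      clear * -
      induction z with
      | zero => rw [map_zero]
      | add x y hx hy => rw [map_add, hx, hy, add_zero]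
      | tmul x y => rw [evalPair_tmul, LinearMap.zero_apply, smul_zero]
    · exact sub_eq_zero.1 ((hb b m).symm.trans (h m _ (by
        rw [zero_add, pow_one]; exact KaehlerDifferential.one_smul_sub_smul_one_mem_ideal A b)))
  | succ n ih =>
    intro D
    refine ⟨fun h => key (n + 1) D fun b => (ih _).1 (h b), fun h b => (ih _).2 fun m z hz => ?_⟩
    rw [evalPair_commutator]
    refine h m _ ?_
    rw [pow_succ']
    exact Ideal.mul_mem_mul (KaehlerDifferential.one_smul_sub_smul_one_mem_ideal A b) hz

variable (n : ℕ)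

/-- The class in `Pr`. -/
noncomputable def toPr (z : B ⊗[A] B) : PP16.Pr n A B := (Ideal.Quotient.mk (ideal A B ^ (n + 1)) z : PP16.P n A B)

theorem toPr_surjective : Function.Surjective (toPr (A := A) (B := B) n) := fun q =>
  Ideal.Quotient.mk_surjective (show PP16.P n A B from q)

theorem toPr_add (z w : B ⊗[A] B) : toPr n (z + w) = toPr n z + toPr n w :=
  map_add (Ideal.Quotient.mk (ideal A B ^ (n + 1))) z w

theorem toPr_zero : toPr (A := A) (B := B) n 0 = 0 := map_zero (Ideal.Quotient.mk (ideal A B ^ (n + 1)))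

theorem toPr_one : toPr (A := A) (B := B) n 1 = 1 := map_one (Ideal.Quotient.mk (ideal A B ^ (n + 1)))

theorem smul_toPr (r : B) (z : B ⊗[A] B) : r • toPr n z = toPr n (((1 : B) ⊗ₜ[A] r) * z) :=
  (map_mul (Ideal.Quotient.mk (ideal A B ^ (n + 1))) ((1 : B) ⊗ₜ[A] r) z).symm

theorem algebraMap_smul_toPr (b : B) (z : B ⊗[A] B) :
    algebraMap B (PP16.P n A B) b • toPr n z = toPr n ((b ⊗ₜ[A] (1 : B)) * z) :=
  (map_mul (Ideal.Quotient.mk (ideal A B ^ (n + 1))) (b ⊗ₜ[A] (1 : B)) z).symm

theorem toPr_tmul_tmul (x y : B) (m : M) :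
    toPr n (x ⊗ₜ[A] y) ⊗ₜ[B] m =
      algebraMap B (PP16.P n A B) x • ((1 : PP16.Pr n A B) ⊗ₜ[B] (y • m)) := by
  rw [TensorProduct.tmul_smul, TensorProduct.smul_tmul', TensorProduct.smul_tmul', ← toPr_one, smul_toPr,
    algebraMap_smul_toPr, ← mul_assoc, mul_one, Algebra.TensorProduct.tmul_mul_tmul, mul_one, one_mul]

theorem pm_induction {p : PP16.PM n A B M → Prop} (h0 : p 0) (hadd : ∀ s t, p s → p t → p (s + t))
    (h : ∀ (x : B) (m : M), p (algebraMap B (PP16.P n A B) x • PP16.dM n A B M m)) (t : PP16.PM n A B M) : p t := by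
  induction t using TensorProduct.induction_on with
  | zero => exact h0
  | add s t hs ht => exact hadd s t hs ht
  | tmul q m =>
    obtain ⟨z, rfl⟩ := toPr_surjective n q
    induction z with
    | zero => rw [toPr_zero, TensorProduct.zero_tmul]; exact h0
    | add a b ha hb => rw [toPr_add, TensorProduct.add_tmul]; exact hadd _ _ ha hb
    | tmul x y =>
      rw [toPr_tmul_tmul]
      exact h x (y • m)

theorem evalPair_add (D : M →ₗ[A] N) (m m' : M) (z : B ⊗[A] B) :
    evalPair D (m + m') z = evalPair D m z + evalPair D m' z := by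
  induction z with
  | zero => simp
  | add a b ha hb => rw [map_add, map_add, map_add, ha, hb]; abel
  | tmul x y => simp [evalPair_tmul]

theorem isDiffOpLE_iff_factor (D : M →ₗ[A] N) :
    Diff16.IsDiffOpLE A B M N n D ↔
      ∃! u : PP16.PM n A B M →+ N,
        (∀ (b : B) (t : PP16.PM n A B M), u (algebraMap B (PP16.P n A B) b • t) = b • u t) ∧
          ∀ m : M, u (PP16.dM n A B M m) = D m := by
  rw [isDiffOpLE_iff_evalPair]
  constructor
  · intro h
    have hwd : ∀ (m : M) (z w : B ⊗[A] B), toPr n z = toPr n w → evalPair D m z = evalPair D m w :=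
      fun m z w hzw => by
        rw [← sub_eq_zero, ← map_sub]
        exact h m _ (Ideal.Quotient.eq.1 hzw)
    let rep : PP16.Pr n A B → B ⊗[A] B := fun q => (toPr_surjective n q).choose
    have hrep : ∀ q, toPr n (rep q) = q := fun q => (toPr_surjective n q).choose_spec
    let f : PP16.Pr n A B →+ M →+ N :=
      { toFun := fun q => AddMonoidHom.mk' (fun m => evalPair D m (rep q)) fun m m' => evalPair_add D m m' _
        map_zero' := AddMonoidHom.ext fun m =>
          (hwd m _ 0 ((hrep 0).trans (toPr_zero n).symm)).trans (map_zero _)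
        map_add' := fun q q' => AddMonoidHom.ext fun m =>
          (hwd m _ (rep q + rep q') ((hrep _).trans (by rw [toPr_add, hrep, hrep]))).trans (map_add _ _ _) }
    have hf : ∀ (r : B) (q : PP16.Pr n A B) (m : M), f (r • q) m = f q (r • m) := fun r q m => by
      show evalPair D m (rep (r • q)) = evalPair D (r • m) (rep q)
      rw [← evalPair_right]
      exact hwd m _ _ ((hrep _).trans (by rw [← smul_toPr, hrep]))
    let u : PP16.PM n A B M →+ N := TensorProduct.liftAddHom f hf
    have hu : ∀ (z : B ⊗[A] B) (m : M), u (toPr n z ⊗ₜ[B] m) = evalPair D m z := fun z m =>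
      hwd m _ _ (hrep _)
    have hD : ∀ m, u (PP16.dM n A B M m) = D m := fun m => by
      show u ((1 : PP16.Pr n A B) ⊗ₜ[B] m) = D m
      rw [← toPr_one, hu, Algebra.TensorProduct.one_def, evalPair_tmul, one_smul, one_smul]
    have hlin : ∀ (b : B) (t : PP16.PM n A B M), u (algebraMap B (PP16.P n A B) b • t) = b • u t := by
      intro b t
      induction t using TensorProduct.induction_on with
      | zero => simp
      | add s t hs ht => rw [smul_add, map_add, map_add, hs, ht, smul_add]
      | tmul q m =>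
        obtain ⟨z, rfl⟩ := toPr_surjective n q
        rw [TensorProduct.smul_tmul', algebraMap_smul_toPr, hu, hu, evalPair_left]
    refine ⟨u, ⟨hlin, hD⟩, fun v hv => AddMonoidHom.ext fun t => ?_⟩
    refine pm_induction n (p := fun t => v t = u t) (by rw [map_zero, map_zero])
      (fun s t hs ht => by rw [map_add, map_add, hs, ht]) (fun x m => ?_) t
    rw [hv.1, hlin, hv.2, hD]
  · rintro ⟨u, ⟨hlin, hD⟩, -⟩ m z hz
    have key : ∀ w, u (toPr n w ⊗ₜ[B] m) = evalPair D m w := fun w => by
      induction w with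
      | zero => rw [toPr_zero, TensorProduct.zero_tmul, map_zero, map_zero]
      | add a b ha hb => rw [toPr_add, TensorProduct.add_tmul, map_add, ha, hb, map_add]
      | tmul x y =>
        rw [toPr_tmul_tmul, hlin, evalPair_tmul]
        exact congrArg (x • ·) (hD (y • m))
    have h0 : toPr n z = 0 := Ideal.Quotient.eq_zero_iff_mem.2 hz
    rw [← key z, h0, TensorProduct.zero_tmul, map_zero]

end PP16Lib
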