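import Groth.Agent.PP16Lib.Basic

/-!
# Functoriality of principal parts: towers, quotients, sections
-/

set_option autoImplicit false

universe u v

open scoped TensorProduct
open KaehlerDifferential (ideal)

namespace PP16Lib

section square

variable {n : ℕ} {A B A' B' : Type u} [CommRing A] [CommRing B] [Algebra A B]
  [CommRing A'] [CommRing B'] [Algebra A' B'] [Algebra A A'] [Algebra B B'] [Algebra A B']
  [IsScalarTower A A' B'] [IsScalarTower A B B']

theorem tensorMap_one_sub (b : B) :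
    PP16.tensorMap A B A' B' ((1 : B) ⊗ₜ[A] b - b ⊗ₜ[A] (1 : B)) =
      (1 : B') ⊗ₜ[A'] algebraMap B B' b - algebraMap B B' b ⊗ₜ[A'] (1 : B') := by
  rw [map_sub, PP16.tensorMap_tmul, PP16.tensorMap_tmul, map_one]

theorem tensorMap_surjective (h : Function.Surjective (algebraMap B B')) :
    Function.Surjective (PP16.tensorMap A B A' B') := by
  intro z
  induction z with
  | zero => exact ⟨0, map_zero _⟩
  | add a b ha hb =>
    obtain ⟨x, rfl⟩ := ha
    obtain ⟨y, rfl⟩ := hb
    exact ⟨x + y, map_add _ _ _⟩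
  | tmul b c =>
    obtain ⟨b, rfl⟩ := h b
    obtain ⟨c, rfl⟩ := h c
    exact ⟨b ⊗ₜ c, PP16.tensorMap_tmul _ _ _ _ b c⟩

theorem map_ideal_of_surjective (h : Function.Surjective (algebraMap B B')) :
    (ideal A B).map (PP16.tensorMap A B A' B') = ideal A' B' := by
  refine le_antisymm (PP16.ideal_map_tensorMap_le A B A' B') ?_
  rw [← KaehlerDifferential.span_range_eq_ideal A' B', Ideal.span_le]
  rintro _ ⟨b, rfl⟩
  obtain ⟨b, rfl⟩ := h b
  show (1 : B') ⊗ₜ[A'] algebraMap B B' b - algebraMap B B' b ⊗ₜ[A'] (1 : B') ∈ _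
  rw [← tensorMap_one_sub (A := A)]
  exact Ideal.mem_map_of_mem _ (KaehlerDifferential.one_smul_sub_smul_one_mem_ideal A b)

theorem map_surjective (h : Function.Surjective (algebraMap B B')) :
    Function.Surjective (PP16.map n A B A' B') := by
  intro z
  obtain ⟨z, rfl⟩ := Ideal.Quotient.mk_surjective z
  obtain ⟨x, rfl⟩ := tensorMap_surjective (A := A) (A' := A') h z
  exact ⟨Ideal.Quotient.mk _ x, PP16.map_mk _ _ _ _ _ x⟩

theorem ker_map (h : Function.Surjective (algebraMap B B')) :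
    RingHom.ker (PP16.map n A B A' B') =
      (RingHom.ker (PP16.tensorMap A B A' B')).map (Ideal.Quotient.mk (ideal A B ^ (n + 1))) := by
  refine le_antisymm (fun z hz => ?_) ?_
  · obtain ⟨x, rfl⟩ := Ideal.Quotient.mk_surjective z
    rw [RingHom.mem_ker, PP16.map_mk, Ideal.Quotient.eq_zero_iff_mem, ← map_ideal_of_surjective (A := A) h,
      ← Ideal.map_pow] at hz
    obtain ⟨y, hy, hxy⟩ := (Ideal.mem_map_iff_of_surjective _ (tensorMap_surjective (A := A) (A' := A') h)).1 hz
    have hx : Ideal.Quotient.mk (ideal A B ^ (n + 1)) x = Ideal.Quotient.mk _ (x - y) := by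
      rw [map_sub, Ideal.Quotient.eq_zero_iff_mem.2 hy, sub_zero]
    rw [hx]
    exact Ideal.mem_map_of_mem _ (by rw [RingHom.mem_ker, map_sub, hxy, sub_self])
  · rw [Ideal.map_le_iff_le_comap]
    intro x hx
    rw [Ideal.mem_comap, RingHom.mem_ker, PP16.map_mk, RingHom.mem_ker.1 hx, map_zero]

end square

section tower

variable {n : ℕ} {A B C : Type u} [CommRing A] [CommRing B] [CommRing C]
  [Algebra A B] [Algebra B C] [Algebra A C] [IsScalarTower A B C]

variable (A B C) in
theorem ker_tensorMap_le :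
    RingHom.ker (PP16.tensorMap A C B C) ≤
      Ideal.span (Set.range fun b : B =>
        (1 : C) ⊗ₜ[A] algebraMap B C b - algebraMap B C b ⊗ₜ[A] (1 : C)) := by
  let J : Ideal (C ⊗[A] C) := Ideal.span (Set.range fun b : B =>
    (1 : C) ⊗ₜ[A] algebraMap B C b - algebraMap B C b ⊗ₜ[A] (1 : C))
  let ι₁ : C →+* (C ⊗[A] C) ⧸ J := (Ideal.Quotient.mk J).comp Algebra.TensorProduct.includeLeftRingHom
  let ι₂ : C →+* (C ⊗[A] C) ⧸ J :=
    (Ideal.Quotient.mk J).comp (Algebra.TensorProduct.includeRight (R := A) (A := C) (B := C)).toRingHom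
  algebraize [ι₁.comp (algebraMap B C)]
  let f : C →ₐ[B] (C ⊗[A] C) ⧸ J := { ι₁ with commutes' := fun b => rfl }
  let g : C →ₐ[B] (C ⊗[A] C) ⧸ J :=
    { ι₂ with
      commutes' := fun b => (Ideal.Quotient.eq.2 (Ideal.subset_span ⟨b, rfl⟩) :
        Ideal.Quotient.mk J ((1 : C) ⊗ₜ[A] algebraMap B C b) =
          Ideal.Quotient.mk J (algebraMap B C b ⊗ₜ[A] (1 : C))) }
  let s : C ⊗[B] C →ₐ[B] (C ⊗[A] C) ⧸ J := Algebra.TensorProduct.lift f g fun _ _ => Commute.all _ _
  have hs : ∀ z, s (PP16.tensorMap A C B C z) = Ideal.Quotient.mk J z := fun z => by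
    induction z with
    | zero => simp
    | add a b ha hb => simp only [map_add, ha, hb]
    | tmul x y =>
      rw [PP16.tensorMap_tmul, Algebra.TensorProduct.lift_tmul f g]
      show Ideal.Quotient.mk J (x ⊗ₜ (1 : C)) * Ideal.Quotient.mk J ((1 : C) ⊗ₜ y) = _
      rw [← map_mul, Algebra.TensorProduct.tmul_mul_tmul, mul_one, one_mul]
  intro z hz
  show z ∈ J
  rw [← Ideal.Quotient.eq_zero_iff_mem, ← hs, RingHom.mem_ker.1 hz, map_zero]

theorem map_tower :
    Function.Surjective (PP16.map n A C B C) ∧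
      RingHom.ker (PP16.map n A C B C) = (PP16.augIdeal n A B).map (PP16.map n A B A C) := by
  have hsurj : Function.Surjective (algebraMap C C) := fun c => ⟨c, rfl⟩
  refine ⟨map_surjective hsurj, le_antisymm ?_ ?_⟩
  · rw [ker_map hsurj]
    refine (Ideal.map_mono (ker_tensorMap_le A B C)).trans ?_
    rw [Ideal.map_span, Ideal.span_le]
    rintro _ ⟨_, ⟨b, rfl⟩, rfl⟩
    rw [SetLike.mem_coe, map_sub, ← dn_eq, ← algebraMap_eq, ← PP16.map_dn n A B A C b,
      ← PP16.map_algebraMap n A B A C b, ← map_sub]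
    exact Ideal.mem_map_of_mem _ (dn_sub_mem b)
  · rw [augIdeal_eq_span, Ideal.map_span, Ideal.span_le]
    rintro _ ⟨_, ⟨b, rfl⟩, rfl⟩
    rw [SetLike.mem_coe, RingHom.mem_ker, map_sub, PP16.map_dn, PP16.map_algebraMap, map_sub, PP16.map_dn,
      PP16.map_algebraMap, sub_eq_zero, algebraMap_eq, dn_eq]
    congr 1
    simp only [Algebra.algebraMap_self, RingHom.id_apply]
    rw [Algebra.algebraMap_eq_smul_one, TensorProduct.tmul_smul, TensorProduct.smul_tmul']

theorem map_bijective_of_localization {A A' B' : Type u} [CommRing A] [CommRing A'] [CommRing B'] [Algebra A A']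
    [Algebra A' B'] [Algebra A B'] [IsScalarTower A A' B'] (R : Submonoid A) [IsLocalization R A'] :
    Function.Bijective (PP16.map n A B' A' B') := by
  obtain ⟨hs, hk⟩ := map_tower (n := n) (A := A) (B := A') (C := B')
  refine ⟨(injective_iff_map_eq_zero _).2 fun z hz => ?_, hs⟩
  have h0 : PP16.augIdeal n A A' = ⊥ := by
    rw [augIdeal_eq_span, Ideal.span_eq_bot]
    rintro _ ⟨a, rfl⟩
    rw [sub_eq_zero, dn_eq, algebraMap_eq]
    congr 1
    have := IsLocalization.tensorProduct_compatibleSMul R A' A' A'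
    have h := (TensorProduct.smul_tmul (R := A) a (1 : A') (1 : A'))
    rw [smul_eq_mul, mul_one] at h
    exact h.symm
  have := (RingHom.mem_ker.2 hz)
  rw [hk, h0, Ideal.map_bot, Ideal.mem_bot] at this
  exact this

end tower

section quotient

theorem map_map_of_forall {R S T F G H : Type*} [CommRing R] [CommRing S] [CommRing T]
    [FunLike F R S] [RingHomClass F R S] [FunLike G S T] [RingHomClass G S T]
    [FunLike H R T] [RingHomClass H R T] (f : F) (g : G) (h : H) (I : Ideal R) (hgh : ∀ x, g (f x) = h x) :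
    (I.map f).map g = I.map h := by
  refine le_antisymm ?_ ?_
  · refine Ideal.map_le_iff_le_comap.2 (Ideal.map_le_iff_le_comap.2 fun x hx => ?_)
    rw [Ideal.mem_comap, Ideal.mem_comap, hgh]
    exact Ideal.mem_map_of_mem h hx
  · refine Ideal.map_le_iff_le_comap.2 fun x hx => ?_
    rw [Ideal.mem_comap, ← hgh]
    exact Ideal.mem_map_of_mem g (Ideal.mem_map_of_mem f hx)

variable {n : ℕ} {A B : Type u} [CommRing A] [CommRing B] [Algebra A B] (K : Ideal B)

theorem map_quotient :
    Function.Surjective (PP16.map n A B A (B ⧸ K)) ∧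
      RingHom.ker (PP16.map n A B A (B ⧸ K)) =
        K.map (algebraMap B (PP16.P n A B)) ⊔ K.map (PP16.dn n A B) := by
  have hsurj : Function.Surjective (algebraMap B (B ⧸ K)) := Ideal.Quotient.mk_surjective
  refine ⟨map_surjective hsurj, ?_⟩
  have ht : PP16.tensorMap A B A (B ⧸ K) =
      Algebra.TensorProduct.map (Ideal.Quotient.mkₐ A K) (Ideal.Quotient.mkₐ A K) :=
    Algebra.TensorProduct.ext' fun x y => by
      rw [PP16.tensorMap_tmul, Algebra.TensorProduct.map_tmul]; rfl
  have hk : RingHom.ker (Ideal.Quotient.mkₐ A K) = K := Ideal.mk_ker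
  rw [ker_map hsurj, ht, Algebra.TensorProduct.map_ker _ _ (Ideal.Quotient.mkₐ_surjective A K)
    (Ideal.Quotient.mkₐ_surjective A K), hk, Ideal.map_sup]
  congr 1 <;> exact map_map_of_forall _ _ _ _ fun x => rfl

end quotient

section retraction

theorem map_pow_le {R S : Type*} [CommRing R] [CommRing S] (φ : R →+* S)
    (K : Ideal R) (I J : Ideal S) (k : ℕ) (hI : I ^ k = ⊥) (h : ∀ x ∈ K, φ x ∈ I ⊔ J)
    {x : R} (hx : x ∈ K ^ k) : φ x ∈ J := by
  rw [← Ideal.Quotient.eq_zero_iff_mem]
  have h1 : ∀ y ∈ K, Ideal.Quotient.mk J (φ y) ∈ I.map (Ideal.Quotient.mk J) := fun y hy => by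
    obtain ⟨i, hi, j, hj, hij⟩ := Submodule.mem_sup.1 (h y hy)
    rw [← hij, map_add, Ideal.Quotient.eq_zero_iff_mem.2 hj, add_zero]
    exact Ideal.mem_map_of_mem _ hi
  have h2 := Ideal.pow_right_mono ((Ideal.map_le_iff_le_comap (f := (Ideal.Quotient.mk J).comp φ)
    (K := I.map (Ideal.Quotient.mk J))).2 h1) k
  rw [← Ideal.map_pow, ← Ideal.map_pow, hI, Ideal.map_bot] at h2
  exact Ideal.mem_bot.1 (h2 (Ideal.mem_map_of_mem _ hx))

variable {n : ℕ} {A B : Type u} [CommRing A] [CommRing B] [Algebra A B] (g : B →ₐ[A] A)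

theorem dn_mod_section :
    Function.Surjective
        ((Ideal.Quotient.mk ((RingHom.ker g).map (algebraMap B (PP16.P n A B)))).comp (PP16.dn n A B).toRingHom) ∧
      RingHom.ker
          ((Ideal.Quotient.mk ((RingHom.ker g).map (algebraMap B (PP16.P n A B)))).comp (PP16.dn n A B).toRingHom) =
        RingHom.ker g ^ (n + 1) := by
  set K := RingHom.ker g with hK
  set J := K.map (algebraMap B (PP16.P n A B))
  have hb : ∀ b : B, Ideal.Quotient.mk J (algebraMap B (PP16.P n A B) b) =
      Ideal.Quotient.mk J (PP16.dn n A B (algebraMap A B (g b))) := fun b => by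
    rw [AlgHom.commutes, Ideal.Quotient.eq, IsScalarTower.algebraMap_apply A B (PP16.P n A B), ← map_sub]
    refine Ideal.mem_map_of_mem _ ?_
    rw [hK, RingHom.mem_ker, map_sub, AlgHom.commutes, Algebra.algebraMap_self, RingHom.id_apply, sub_self]
  refine ⟨fun z => ?_, le_antisymm ?_ ?_⟩
  · obtain ⟨z, rfl⟩ := Ideal.Quotient.mk_surjective z
    obtain ⟨z, rfl⟩ := Ideal.Quotient.mk_surjective z
    induction z with
    | zero => exact ⟨0, by simp⟩
    | add a b ha hb' =>
      obtain ⟨x, hx⟩ := ha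
      obtain ⟨y, hy⟩ := hb'
      exact ⟨x + y, by rw [map_add, hx, hy, map_add, map_add]⟩
    | tmul b c =>
      exact ⟨algebraMap A B (g b) * c, by
        simp only [mk_tmul, map_mul, hb, RingHom.comp_apply, AlgHom.toRingHom_eq_coe, RingHom.coe_coe]⟩
  · intro b hb'
    let π : B →ₐ[A] B ⧸ K ^ (n + 1) := Ideal.Quotient.mkₐ A _
    let f : B →ₐ[A] B ⧸ K ^ (n + 1) := (Algebra.ofId A _).comp g
    have hcong : ∀ x, π x - f x ∈ K.map π := fun x => by
      have hx : f x = π (algebraMap A B (g x)) := (π.commutes (g x)).symm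
      rw [hx, ← map_sub]
      refine Ideal.mem_map_of_mem _ ?_
      rw [hK, RingHom.mem_ker, map_sub, AlgHom.commutes, Algebra.algebraMap_self, RingHom.id_apply, sub_self]
    have hpow : K.map π ^ (n + 1) = ⊥ := by
      rw [← Ideal.map_pow]
      exact Ideal.map_quotient_self _
    let Φ : PP16.P n A B →ₐ[A] B ⧸ K ^ (n + 1) := lift f π (K.map π) hcong hpow
    have hJ : J ≤ RingHom.ker Φ := by
      rw [Ideal.map_le_iff_le_comap]
      intro x hx
      rw [Ideal.mem_comap, RingHom.mem_ker, lift_algebraMap]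
      show algebraMap A _ (g x) = 0
      rw [RingHom.mem_ker.1 hx, map_zero]
    rw [RingHom.mem_ker, RingHom.comp_apply, Ideal.Quotient.eq_zero_iff_mem] at hb'
    have h0 : Φ (PP16.dn n A B b) = 0 := RingHom.mem_ker.1 (hJ hb')
    rw [lift_dn] at h0
    exact Ideal.Quotient.eq_zero_iff_mem.1 h0
  · intro x hx
    rw [RingHom.mem_ker, RingHom.comp_apply, Ideal.Quotient.eq_zero_iff_mem]
    refine map_pow_le (PP16.dn n A B).toRingHom K (PP16.augIdeal n A B) J (n + 1) augIdeal_pow_eq_bot
      (fun k hk => ?_) hx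
    rw [← sub_add_cancel ((PP16.dn n A B).toRingHom k) (algebraMap B (PP16.P n A B) k)]
    exact Submodule.add_mem_sup (dn_sub_mem k) (Ideal.mem_map_of_mem _ hk)

end retraction

end PP16Lib
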