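import Groth.Agent.PP16Lib.Basic
import Groth.Agent.PP16Lib.SymPow

/-!
# Graded pieces of the diagonal ideal and differential smoothness

The canonical map `Sym^m Ω → I^m/I^(m+1)`, its surjectivity, and a criterion for bijectivity.
-/

set_option autoImplicit false

universe u v w

open scoped TensorProduct
open KaehlerDifferential (ideal)

namespace PP16Lib

section

variable {A B : Type u} [CommRing A] [CommRing B] [Algebra A B]

/-- The class in `I^n/I^(n+1)`. -/
noncomputable def gmk (n : ℕ) (x : B ⊗[A] B) (hx : x ∈ ideal A B ^ n) : PP16.grI A B n :=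
  Submodule.Quotient.mk ⟨x, hx⟩

theorem gmk_eq_gmk {n : ℕ} {x y : B ⊗[A] B} (hx : x ∈ ideal A B ^ n) (hy : y ∈ ideal A B ^ n) :
    gmk n x hx = gmk n y hy ↔ x - y ∈ ideal A B ^ (n + 1) := by
  rw [gmk, gmk, Submodule.Quotient.eq]
  rfl

theorem gmk_eq_zero {n : ℕ} {x : B ⊗[A] B} (hx : x ∈ ideal A B ^ n) :
    gmk n x hx = 0 ↔ x ∈ ideal A B ^ (n + 1) := by
  rw [gmk, Submodule.Quotient.mk_eq_zero]
  rfl

theorem gmk_add {n : ℕ} {x y : B ⊗[A] B} (hx : x ∈ ideal A B ^ n) (hy : y ∈ ideal A B ^ n) :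
    gmk n x hx + gmk n y hy = gmk n (x + y) (add_mem hx hy) := rfl

theorem smul_gmk {n : ℕ} (c : B) {x : B ⊗[A] B} (hx : x ∈ ideal A B ^ n) :
    c • gmk n x hx = gmk n ((c ⊗ₜ[A] (1 : B)) * x) (Ideal.mul_mem_left _ _ hx) :=
  congrArg Submodule.Quotient.mk (Subtype.ext (Algebra.smul_def c x))

theorem gmk_surjective {n : ℕ} (q : PP16.grI A B n) : ∃ x hx, gmk n x hx = q := by
  obtain ⟨⟨x, hx⟩, rfl⟩ := Submodule.Quotient.mk_surjective _ q
  exact ⟨x, hx, rfl⟩

theorem prod_mem_ideal_pow {ι : Type*} (s : Finset ι) (x : ι → B ⊗[A] B) (hx : ∀ i ∈ s, x i ∈ ideal A B) :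
    ∏ i ∈ s, x i ∈ ideal A B ^ s.card := by
  classical
  induction s using Finset.induction_on with
  | empty => simp
  | insert a s ha ih =>
    rw [Finset.prod_insert ha, Finset.card_insert_of_notMem ha, pow_succ']
    exact Ideal.mul_mem_mul (hx a (by simp)) (ih fun i hi => hx i (by simp [hi]))

theorem prod_sub_prod_mem {ι : Type*} (s : Finset ι) (x y : ι → B ⊗[A] B) (hx : ∀ i ∈ s, x i ∈ ideal A B)
    (hy : ∀ i ∈ s, y i ∈ ideal A B) (h : ∀ i ∈ s, x i - y i ∈ ideal A B ^ 2) :
    ∏ i ∈ s, x i - ∏ i ∈ s, y i ∈ ideal A B ^ (s.card + 1) := by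
  classical
  induction s using Finset.induction_on with
  | empty => simp
  | insert a s ha ih =>
    rw [Finset.prod_insert ha, Finset.prod_insert ha, Finset.card_insert_of_notMem ha,
      show x a * ∏ i ∈ s, x i - y a * ∏ i ∈ s, y i =
        (x a - y a) * ∏ i ∈ s, x i + y a * (∏ i ∈ s, x i - ∏ i ∈ s, y i) by ring]
    refine add_mem ?_ ?_
    · rw [show s.card + 1 + 1 = 2 + s.card by ring, pow_add]
      exact Ideal.mul_mem_mul (h a (by simp)) (prod_mem_ideal_pow s x fun i hi => hx i (by simp [hi]))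
    · rw [pow_succ' _ (s.card + 1)]
      exact Ideal.mul_mem_mul (hy a (by simp))
        (ih (fun i hi => hx i (by simp [hi])) (fun i hi => hy i (by simp [hi])) fun i hi => h i (by simp [hi]))

variable (A) in
/-- `1 ⊗ b - b ⊗ 1`. -/
noncomputable def zeta (b : B) : B ⊗[A] B := (1 : B) ⊗ₜ[A] b - b ⊗ₜ[A] (1 : B)

theorem zeta_mem (b : B) : zeta A b ∈ ideal A B := KaehlerDifferential.one_smul_sub_smul_one_mem_ideal A b

theorem D_eq_fromIdeal (b : B) :
    KaehlerDifferential.D A B b = KaehlerDifferential.fromIdeal A B ⟨zeta A b, zeta_mem b⟩ :=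
  KaehlerDifferential.D_apply A B b

theorem fromIdeal_eq_iff (x y : ideal A B) :
    KaehlerDifferential.fromIdeal A B x = KaehlerDifferential.fromIdeal A B y ↔
      (x : B ⊗[A] B) - y ∈ ideal A B ^ 2 :=
  Ideal.toCotangent_eq _

theorem fromIdeal_mul (c : B) (x : ideal A B) :
    KaehlerDifferential.fromIdeal A B ⟨(c ⊗ₜ[A] (1 : B)) * x, Ideal.mul_mem_left _ _ x.2⟩ =
      c • KaehlerDifferential.fromIdeal A B x := by
  rw [← IsScalarTower.algebraMap_smul (B ⊗[A] B) c (KaehlerDifferential.fromIdeal A B x), ← map_smul]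
  rfl

/-- A set-theoretic lift of a differential to the ideal. -/
noncomputable def liftI (x : KaehlerDifferential A B) : ideal A B :=
  (KaehlerDifferential.fromIdeal_surjective A B x).choose

theorem fromIdeal_liftI (x : KaehlerDifferential A B) : KaehlerDifferential.fromIdeal A B (liftI x) = x :=
  (KaehlerDifferential.fromIdeal_surjective A B x).choose_spec

theorem prod_liftI_mem {ι : Type*} [Fintype ι] (x : ι → KaehlerDifferential A B) :
    ∏ i, (liftI (x i) : B ⊗[A] B) ∈ ideal A B ^ Fintype.card ι :=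
  prod_mem_ideal_pow Finset.univ _ fun i _ => (liftI (x i)).2

theorem gmk_prod_congr {ι : Type*} [Fintype ι] (x y : ι → B ⊗[A] B) (hx : ∀ i, x i ∈ ideal A B)
    (hy : ∀ i, y i ∈ ideal A B) (h : ∀ i, x i - y i ∈ ideal A B ^ 2) :
    gmk (Fintype.card ι) (∏ i, x i) (prod_mem_ideal_pow Finset.univ x fun i _ => hx i) =
      gmk (Fintype.card ι) (∏ i, y i) (prod_mem_ideal_pow Finset.univ y fun i _ => hy i) :=
  (gmk_eq_gmk _ _).2 (prod_sub_prod_mem Finset.univ x y (fun i _ => hx i) (fun i _ => hy i) fun i _ => h i)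

variable (A B) in
/-- The product map `Ω^ι → I^m/I^(m+1)`. -/
noncomputable def prodMap (ι : Type u) [Fintype ι] :
    MultilinearMap B (fun _ : ι => KaehlerDifferential A B) (PP16.grI A B (Fintype.card ι)) where
  toFun x := gmk (Fintype.card ι) (∏ i, (liftI (x i) : B ⊗[A] B)) (prod_liftI_mem x)
  map_update_add' := fun {_} x k a b => by
    rw [gmk_add, gmk_eq_gmk]
    have hc : ∀ c, ∏ i, (liftI (Function.update x k c i) : B ⊗[A] B) =
        (liftI c : B ⊗[A] B) * ∏ i ∈ Finset.univ.erase k, (liftI (x i) : B ⊗[A] B) := fun c => by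
      rw [← Finset.mul_prod_erase _ _ (Finset.mem_univ k), Function.update_self]
      refine congrArg _ (Finset.prod_congr rfl fun i hi => ?_)
      rw [Function.update_of_ne (Finset.ne_of_mem_erase hi)]
    rw [hc, hc, hc, ← add_mul, ← sub_mul]
    have h2 : (liftI (a + b) : B ⊗[A] B) - (liftI a + liftI b) ∈ ideal A B ^ 2 :=
      (fromIdeal_eq_iff (liftI (a + b)) (liftI a + liftI b)).1 (by rw [map_add, fromIdeal_liftI, fromIdeal_liftI, fromIdeal_liftI])
    have hlen : (Finset.univ.erase k).card + 1 = Fintype.card ι := Finset.card_erase_add_one (Finset.mem_univ k)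
    rw [show Fintype.card ι + 1 = 2 + (Finset.univ.erase k).card by omega, pow_add]
    exact Ideal.mul_mem_mul h2 (prod_mem_ideal_pow _ _ fun i _ => (liftI (x i)).2)
  map_update_smul' := fun {_} x k c a => by
    rw [smul_gmk, gmk_eq_gmk]
    have hc : ∀ c, ∏ i, (liftI (Function.update x k c i) : B ⊗[A] B) =
        (liftI c : B ⊗[A] B) * ∏ i ∈ Finset.univ.erase k, (liftI (x i) : B ⊗[A] B) := fun c => by
      rw [← Finset.mul_prod_erase _ _ (Finset.mem_univ k), Function.update_self]
      refine congrArg _ (Finset.prod_congr rfl fun i hi => ?_)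
      rw [Function.update_of_ne (Finset.ne_of_mem_erase hi)]
    rw [hc, hc, ← mul_assoc, ← sub_mul]
    have h2 : (liftI (c • a) : B ⊗[A] B) - (c ⊗ₜ[A] (1 : B)) * liftI a ∈ ideal A B ^ 2 :=
      (fromIdeal_eq_iff (liftI (c • a)) ⟨_, Ideal.mul_mem_left _ _ (liftI a).2⟩).1
        (by rw [fromIdeal_mul, fromIdeal_liftI, fromIdeal_liftI])
    have hlen : (Finset.univ.erase k).card + 1 = Fintype.card ι := Finset.card_erase_add_one (Finset.mem_univ k)
    rw [show Fintype.card ι + 1 = 2 + (Finset.univ.erase k).card by omega, pow_add]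
    exact Ideal.mul_mem_mul h2 (prod_mem_ideal_pow _ _ fun i _ => (liftI (x i)).2)

theorem prodMap_fromIdeal {ι : Type u} [Fintype ι] (y : ι → ideal A B) :
    prodMap A B ι (fun i => KaehlerDifferential.fromIdeal A B (y i)) =
      gmk (Fintype.card ι) (∏ i, (y i : B ⊗[A] B)) (prod_mem_ideal_pow Finset.univ _ fun i _ => (y i).2) :=
  gmk_prod_congr _ _ (fun i => (liftI _).2) (fun i => (y i).2) fun i =>
    (fromIdeal_eq_iff _ _).1 (fromIdeal_liftI _)

theorem prodMap_D {ι : Type u} [Fintype ι] (b : ι → B) :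
    prodMap A B ι (fun i => KaehlerDifferential.D A B (b i)) = PP16.zetaProd A B b := by
  simp only [D_eq_fromIdeal]
  exact prodMap_fromIdeal _

variable (A B) in
/-- The canonical map `Sym^m Ω → I^m/I^(m+1)`. -/
noncomputable def canMap (ι : Type u) [Fintype ι] :
    SymmetricPower B ι (KaehlerDifferential A B) →ₗ[B] PP16.grI A B (Fintype.card ι) :=
  symLift (prodMap A B ι) fun e x => (gmk_eq_gmk _ _).2 <| by
    rw [Equiv.prod_comp e fun i => (liftI (x i) : B ⊗[A] B), sub_self]
    exact zero_mem _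

theorem canMap_tprod {ι : Type u} [Fintype ι] (x : ι → KaehlerDifferential A B) :
    canMap A B ι (SymmetricPower.tprod B x) = prodMap A B ι x := symLift_tprod _ _ x

theorem canMap_tprod_D {ι : Type u} [Fintype ι] (b : ι → B) :
    canMap A B ι (SymmetricPower.tprod B fun i => KaehlerDifferential.D A B (b i)) = PP16.zetaProd A B b := by
  rw [canMap_tprod, prodMap_D]

theorem canMap_surjective (ι : Type u) [Fintype ι] : Function.Surjective (canMap A B ι) := by
  have hpow : ∀ (m : ℕ) (x : B ⊗[A] B), x ∈ ideal A B ^ m → ∀ (κ : Type u) [Fintype κ], Fintype.card κ = m →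
      ∃ s : SymmetricPower B κ (KaehlerDifferential A B),
        ∀ hx : x ∈ ideal A B ^ Fintype.card κ, gmk (Fintype.card κ) x hx = canMap A B κ s := by
    intro m x hx κ _ hκ
    subst hκ
    have hspan : ideal A B ^ Fintype.card κ =
        Ideal.span (Set.range fun b : κ → B => ∏ i, zeta A (b i)) := by
      refine le_antisymm ?_ (Ideal.span_le.2 ?_)
      · rw [← KaehlerDifferential.span_range_eq_ideal]
        clear hx
        generalize hc : Fintype.card κ = c
        induction c generalizing κ with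
        | zero =>
          rw [pow_zero, Ideal.one_eq_top, top_le_iff, Ideal.eq_top_iff_one]
          have := Fintype.card_eq_zero_iff.1 hc
          exact Ideal.subset_span ⟨fun i => isEmptyElim i, Finset.prod_of_isEmpty _⟩
        | succ c ih =>
          classical
          obtain ⟨k⟩ : Nonempty κ := Fintype.card_pos_iff.1 (by omega)
          have hk : Fintype.card {i : κ // i ≠ k} = c := by
            rw [Fintype.card_subtype_compl, hc]; simp
          rw [pow_succ']
          refine (Ideal.mul_mono_right (ih {i : κ // i ≠ k} hk)).trans ?_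
          rw [Ideal.span_mul_span', Ideal.span_le]
          rintro _ ⟨_, ⟨a, rfl⟩, _, ⟨b, rfl⟩, rfl⟩
          refine Ideal.subset_span ⟨fun i => if h : i = k then a else b ⟨i, h⟩, ?_⟩
          show ∏ i, zeta A _ = ((1 : B) ⊗ₜ[A] a - a ⊗ₜ[A] (1 : B)) * ∏ i, zeta A (b i)
          rw [← Finset.mul_prod_erase _ _ (Finset.mem_univ k), dif_pos rfl]
          congr 1
          rw [Finset.prod_subtype (Finset.univ.erase k) (p := fun i => i ≠ k) (fun i => by simp)]
          exact Finset.prod_congr rfl fun i _ => by rw [dif_neg i.2]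
      · rintro _ ⟨b, rfl⟩
        exact prod_mem_ideal_pow Finset.univ _ fun i _ => zeta_mem _
    rw [hspan] at hx
    induction hx using Submodule.span_induction with
    | mem x h =>
      obtain ⟨b, rfl⟩ := h
      exact ⟨SymmetricPower.tprod B fun i => KaehlerDifferential.D A B (b i), fun hx => (canMap_tprod_D b).symm⟩
    | zero => exact ⟨0, fun hx => by rw [map_zero]; exact (gmk_eq_zero hx).2 (zero_mem _)⟩
    | add x y hx' hy' ihx ihy =>
      obtain ⟨s, hs⟩ := ihx
      obtain ⟨t, ht⟩ := ihy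
      exact ⟨s + t, fun hx => by rw [map_add, ← hs (hspan ▸ hx'), ← ht (hspan ▸ hy'), gmk_add]⟩
    | smul r x hx' ihx =>
      obtain ⟨s, hs⟩ := ihx
      refine ⟨Algebra.TensorProduct.lmul' A r • s, fun hx => ?_⟩
      rw [map_smul, ← hs (hspan ▸ hx'), smul_gmk, gmk_eq_gmk, smul_eq_mul, ← sub_mul, pow_succ']
      refine Ideal.mul_mem_mul ?_ (hspan ▸ hx')
      rw [KaehlerDifferential.ideal, RingHom.mem_ker, map_sub, Algebra.TensorProduct.lmul'_apply_tmul, mul_one,
        sub_self]
  intro q
  obtain ⟨x, hx, rfl⟩ := gmk_surjective q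
  obtain ⟨s, hs⟩ := hpow _ x hx ι rfl
  exact ⟨s, (hs hx).symm⟩

theorem isDiffSmooth_iff_injective :
    PP16.IsDiffSmooth A B ↔ Module.Projective B (KaehlerDifferential A B) ∧
      ∀ (ι : Type u) [Fintype ι], Function.Injective (canMap A B ι) := by
  refine and_congr_right fun _ => forall_congr' fun ι => forall_congr' fun _ => ⟨?_, fun h => ?_⟩
  · rintro ⟨φ, hφ, hbij⟩
    suffices hc : φ = canMap A B ι from hc ▸ hbij.1
    refine sym_hom_ext fun x => ?_
    have hspan := KaehlerDifferential.span_range_derivation A B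
    have : φ.compMultilinearMap (SymmetricPower.tprod B) = prodMap A B ι := by
      refine multilinear_ext_span _ hspan fun b => ?_
      exact (hφ b).trans (prodMap_D b).symm
    rw [canMap_tprod]
    exact congrArg (fun F => F x) this
  · exact ⟨canMap A B ι, canMap_tprod_D, h, canMap_surjective ι⟩

end

end PP16Lib
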