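import Groth.Agent.PP16Lib.Smooth
import Groth.Agent.PP16Lib.Diff

/-!
# Monomial bases of principal parts and divided power operators
-/

set_option autoImplicit false

universe u v

open scoped TensorProduct
open KaehlerDifferential (ideal)
open MvPolynomial

namespace PP16Lib

section

variable {A B : Type u} [CommRing A] [CommRing B] [Algebra A B] {ι : Type v} (z : ι → B)

variable (A) in
/-- Evaluation at `1 ⊗ z_i - z_i ⊗ 1`. -/
noncomputable def ev : MvPolynomial ι B →ₐ[B] B ⊗[A] B := aeval fun i => zeta A (z i)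

theorem ev_mem_pow {k : ℕ} {F : MvPolynomial ι B} (hF : ∀ d ∈ F.support, k ≤ d.degree) :
    ev A z F ∈ ideal A B ^ k := by
  have h := Ideal.mem_map_of_mem (ev A z) ((mem_pow_idealOfVars_iff k F).2 hF)
  rw [Ideal.map_pow] at h
  refine Ideal.pow_right_mono (Ideal.map_le_iff_le_comap.2 (Ideal.span_le.2 ?_)) k h
  rintro _ ⟨i, rfl⟩
  rw [SetLike.mem_coe, Ideal.mem_comap, ev, aeval_X]
  exact zeta_mem _

variable (A) in
/-- No nonzero polynomial of degree `≤ m` is in `I^(m+1)`. -/
def Indep : Prop :=
  ∀ (m : ℕ) (F : MvPolynomial ι B), (∀ d ∈ F.support, d.degree ≤ m) → ev A z F ∈ ideal A B ^ (m + 1) → F = 0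

theorem sub_C_mem (x : B ⊗[A] B) :
    x - ev A z (C (Algebra.TensorProduct.lmul' A x)) ∈ ideal A B := by
  show _ ∈ RingHom.ker (Algebra.TensorProduct.lmul' A : B ⊗[A] B →ₐ[A] B)
  rw [RingHom.mem_ker, map_sub, ev, aeval_C, Algebra.TensorProduct.algebraMap_apply, Algebra.algebraMap_self,
    RingHom.id_apply, Algebra.TensorProduct.lmul'_apply_tmul, mul_one, sub_self]

theorem fromIdeal_ev_linForm (c : ι →₀ B) :
    ∃ hm, KaehlerDifferential.fromIdeal A B ⟨ev A z (linForm B ι c), hm⟩ =
      Finsupp.linearCombination B (fun i => KaehlerDifferential.D A B (z i)) c := by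
  induction c using Finsupp.induction_linear with
  | zero =>
    refine ⟨by simp, ?_⟩
    rw [map_zero (Finsupp.linearCombination B _)]
    exact (congrArg (KaehlerDifferential.fromIdeal A B) (Subtype.ext (by simp))).trans
      (map_zero (KaehlerDifferential.fromIdeal A B))
  | add f g hf hg =>
    obtain ⟨hm, hf⟩ := hf
    obtain ⟨hn, hg⟩ := hg
    refine ⟨by rw [map_add, map_add]; exact add_mem hm hn, ?_⟩
    rw [map_add (Finsupp.linearCombination B _), ← hf, ← hg]
    exact (congrArg (KaehlerDifferential.fromIdeal A B) (Subtype.ext (by simp))).trans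
      (map_add (KaehlerDifferential.fromIdeal A B) _ _)
  | single i r =>
    have he : ev A z (linForm B ι (Finsupp.single i r)) = (r ⊗ₜ[A] (1 : B)) * zeta A (z i) := by
      rw [linForm, Finsupp.linearCombination_single, map_smul, ev, aeval_X, Algebra.smul_def]
      rfl
    refine ⟨he ▸ Ideal.mul_mem_left _ _ (zeta_mem _), ?_⟩
    rw [Finsupp.linearCombination_single, D_eq_fromIdeal, ← fromIdeal_mul]
    congr 1
    exact Subtype.ext he

variable {z}

theorem exists_homogeneous (hz : Submodule.span B (Set.range fun i => KaehlerDifferential.D A B (z i)) = ⊤) :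
    ∀ (k : ℕ) (x : B ⊗[A] B), x ∈ ideal A B ^ k →
      ∃ F : MvPolynomial ι B, F.IsHomogeneous k ∧ x - ev A z F ∈ ideal A B ^ (k + 1) := by
  intro k
  induction k with
  | zero =>
    intro x _
    refine ⟨C (Algebra.TensorProduct.lmul' A x), isHomogeneous_C _ _, ?_⟩
    rw [zero_add, pow_one]
    exact sub_C_mem z x
  | succ k ih =>
    intro x hx
    rw [pow_succ'] at hx
    refine Submodule.mul_induction_on hx (fun a ha b hb => ?_) fun p q hp hq => ?_
    · obtain ⟨G, hG, hG'⟩ := ih b hb
      have hmem : KaehlerDifferential.fromIdeal A B ⟨a, ha⟩ ∈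
          Submodule.span B (Set.range fun i => KaehlerDifferential.D A B (z i)) := hz ▸ Submodule.mem_top
      obtain ⟨c, hc⟩ := (Finsupp.mem_span_range_iff_exists_finsupp).1 hmem
      have hL : a - ev A z (linForm B ι c) ∈ ideal A B ^ 2 := by
        obtain ⟨hm, h⟩ := fromIdeal_ev_linForm z c (A := A)
        rw [Finsupp.linearCombination_apply] at h
        exact (fromIdeal_eq_iff ⟨a, ha⟩ ⟨_, hm⟩).1 (hc.symm.trans h.symm)
      refine ⟨linForm B ι c * G, by simpa [add_comm] using (isHomogeneous_linForm c).mul hG, ?_⟩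
      rw [map_mul, show a * b - ev A z (linForm B ι c) * ev A z G =
        (a - ev A z (linForm B ι c)) * b + ev A z (linForm B ι c) * (b - ev A z G) by ring]
      refine add_mem ?_ ?_
      · rw [show k + 1 + 1 = 2 + k by ring, pow_add]
        exact Ideal.mul_mem_mul hL hb
      · rw [pow_succ' _ (k + 1)]
        refine Ideal.mul_mem_mul ?_ hG'
        have := sub_mem ha (Ideal.pow_le_self two_ne_zero hL)
        simpa using this
    · obtain ⟨F, hF, hF'⟩ := hp
      obtain ⟨G, hG, hG'⟩ := hq
      refine ⟨F + G, hF.add hG, ?_⟩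
      rw [map_add, add_sub_add_comm]
      exact add_mem hF' hG'

theorem exists_expansion (hz : Submodule.span B (Set.range fun i => KaehlerDifferential.D A B (z i)) = ⊤)
    {j : ℕ} {x : B ⊗[A] B} (hx : x ∈ ideal A B ^ j) : ∀ e : ℕ,
      ∃ F : MvPolynomial ι B, (∀ d ∈ F.support, j ≤ d.degree ∧ d.degree < j + e) ∧
        x - ev A z F ∈ ideal A B ^ (j + e) := by
  classical
  intro e
  induction e with
  | zero => exact ⟨0, by simp, by simpa using hx⟩
  | succ e ih =>
    obtain ⟨F, hF, hF'⟩ := ih
    obtain ⟨G, hG, hG'⟩ := exists_homogeneous hz (j + e) _ hF'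
    refine ⟨F + G, fun d hd => ?_, by rw [map_add, ← sub_sub]; exact hG'⟩
    rcases Finset.mem_union.1 (MvPolynomial.support_add hd) with h | h
    · exact ⟨(hF d h).1, by have := (hF d h).2; omega⟩
    · have : d.degree = j + e := (hG.degree_eq_sum_deg_support h).symm
      omega

theorem exists_expansion_le (hz : Submodule.span B (Set.range fun i => KaehlerDifferential.D A B (z i)) = ⊤)
    (m : ℕ) (x : B ⊗[A] B) :
    ∃ F : MvPolynomial ι B, (∀ d ∈ F.support, d.degree ≤ m) ∧ x - ev A z F ∈ ideal A B ^ (m + 1) := by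
  obtain ⟨F, hF, hF'⟩ := exists_expansion hz (j := 0) (x := x)
    (by rw [pow_zero, Ideal.one_eq_top]; exact Submodule.mem_top) (m + 1)
  exact ⟨F, fun d hd => by have := (hF d hd).2; omega, by simpa using hF'⟩

theorem exists_tuple_of_degree : ∀ (m : ℕ) (d : ι →₀ ℕ), d.degree = m →
    ∃ a : Fin m → ι, ∑ i, Finsupp.single (a i) 1 = d := by
  classical
  intro m
  induction m with
  | zero =>
    intro d hd
    exact ⟨Fin.elim0, by simpa using ((Finsupp.degree_eq_zero_iff d).1 hd).symm⟩
  | succ m ih =>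
    intro d hd
    obtain ⟨j, hj⟩ : ∃ j, d j ≠ 0 := by
      by_contra h
      push Not at h
      have : d = 0 := Finsupp.ext fun i => h i
      simp [this] at hd
    have hle : Finsupp.single j 1 ≤ d := Finsupp.single_le_iff.2 (by omega)
    have hsplit : d - Finsupp.single j 1 + Finsupp.single j 1 = d := tsub_add_cancel_of_le hle
    have hdeg : (d - Finsupp.single j 1).degree = m := by
      have := congrArg Finsupp.degree hsplit
      rw [map_add, Finsupp.degree_single, hd] at this
      omega
    obtain ⟨a, ha⟩ := ih _ hdeg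
    refine ⟨Fin.cons j a, ?_⟩
    rw [Fin.sum_univ_succ]
    simp only [Fin.cons_zero, Fin.cons_succ, ha]
    rw [add_comm, hsplit]

theorem indep_of_isDiffSmooth (hB : PP16.IsDiffSmooth A B) (e : Module.Basis ι B (KaehlerDifferential A B))
    (he : ∀ i, e i = KaehlerDifferential.D A B (z i)) : Indep A z := by
  classical
  obtain ⟨-, hinj⟩ := isDiffSmooth_iff_injective.1 hB
  have hom : ∀ (κ : Type u) [Fintype κ] (F : MvPolynomial ι B), F.IsHomogeneous (Fintype.card κ) →
      ev A z F ∈ ideal A B ^ (Fintype.card κ + 1) → F = 0 := by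
    intro κ _ F hF hFI
    let T := SymmetricPower B κ (KaehlerDifferential A B)
    have hcomp : ((Ideal.Quotient.mkₐ B (ideal A B ^ (Fintype.card κ + 1))).toLinearMap.comp
        ((ev A z).toLinearMap.comp (polyMap (ι := κ) e.repr.toLinearMap))) =
          (incl A B (Fintype.card κ)).comp (canMap A B κ) := by
      refine LinearMap.ext_on (span_tprod_of_span (ι := κ) (fun l => e l) e.span_eq) ?_
      rintro _ ⟨a, rfl⟩
      simp only [LinearMap.comp_apply, AlgHom.toLinearMap_apply, Ideal.Quotient.mkₐ_eq_mk, polyMap_tprod,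
        LinearEquiv.coe_coe, Module.Basis.repr_self, linForm_single]
      rw [show (fun i => e (a i)) = fun i => KaehlerDifferential.D A B (z (a i)) from funext fun i => he _,
        canMap_tprod_D, map_prod]
      simp only [ev, aeval_X]
      rfl
    have hsurj : F ∈ LinearMap.range (polyMap (ι := κ) e.repr.toLinearMap) := by
      rw [← MvPolynomial.support_sum_monomial_coeff F]
      refine Submodule.sum_mem _ fun d hd => ?_
      obtain ⟨a, ha⟩ := exists_tuple_of_degree (Fintype.card κ) d (hF.degree_eq_sum_deg_support hd).symm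
      refine ⟨F.coeff d • SymmetricPower.tprod B fun i => e (a (Fintype.equivFin κ i)), ?_⟩
      simp only [map_smul, polyMap_tprod, LinearEquiv.coe_coe, Module.Basis.repr_self, linForm_single]
      rw [Equiv.prod_comp (Fintype.equivFin κ) fun i => (X (a i) : MvPolynomial ι B), ← ha, smul_eq_C_mul,
        monomial_sum_index]
      rfl
    obtain ⟨s, rfl⟩ := hsurj
    have h0 := LinearMap.congr_fun hcomp s
    simp only [LinearMap.comp_apply, AlgHom.toLinearMap_apply, Ideal.Quotient.mkₐ_eq_mk] at h0
    rw [Ideal.Quotient.eq_zero_iff_mem.2 hFI] at h0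
    have hs : s = 0 := hinj κ (by
      rw [map_zero]
      exact incl_injective _ (h0.symm.trans (map_zero _).symm))
    rw [hs, map_zero]
  have hom' : ∀ (k : ℕ) (F : MvPolynomial ι B), F.IsHomogeneous k → ev A z F ∈ ideal A B ^ (k + 1) → F = 0 := by
    intro k F hF hFI
    have hk : Fintype.card (ULift.{u} (Fin k)) = k := by simp
    exact hom (ULift.{u} (Fin k)) F (by rwa [hk]) (by rwa [hk])
  intro m
  induction m with
  | zero =>
    intro F hF hFI
    refine hom' 0 F ?_ hFI
    intro d hd
    have := hF d (mem_support_iff.2 hd)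
    rw [Finsupp.degree_eq_weight_one] at this
    exact Nat.le_zero.1 this
  | succ m ih =>
    intro F hF hFI
    have htop : ∀ d ∈ (F - homogeneousComponent (m + 1) F).support, d.degree ≤ m := by
      intro d hd
      rw [mem_support_iff, coeff_sub, coeff_homogeneousComponent] at hd
      by_cases h : d.degree = m + 1
      · simp [h] at hd
      · rw [if_neg h, sub_zero] at hd
        have := hF d (mem_support_iff.2 hd)
        omega
    have hev : ev A z (homogeneousComponent (m + 1) F) ∈ ideal A B ^ (m + 1) :=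
      ev_mem_pow z fun d hd => le_of_eq ((homogeneousComponent_isHomogeneous (m + 1) F).degree_eq_sum_deg_support hd)
    have h0 := ih _ htop (by
      rw [map_sub]
      exact sub_mem (Ideal.pow_le_pow_right (Nat.le_succ _) hFI) hev)
    rw [sub_eq_zero] at h0
    rw [h0] at hFI ⊢
    exact hom' (m + 1) _ (homogeneousComponent_isHomogeneous (m + 1) F) hFI

end

section finite

variable {A B : Type u} [CommRing A] [CommRing B] [Algebra A B] {ι : Type v} [Fintype ι] [DecidableEq ι] {z : ι → B}

omit [DecidableEq ι] in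
theorem degree_equivFun_symm (p : ι → ℕ) : (Finsupp.equivFunOnFinite.symm p).degree = ∑ i, p i := by
  rw [Finsupp.degree_eq_sum]
  rfl

omit [DecidableEq ι] in
theorem ev_monomial (d : ι →₀ ℕ) (c : B) :
    ev A z (monomial d c) = algebraMap B (B ⊗[A] B) c * ∏ i, zeta A (z i) ^ d i := by
  rw [ev, aeval_monomial, Finsupp.prod_fintype _ _ fun i => pow_zero _]

/-- The monomials in `P^m`. -/
noncomputable def monVec (z : ι → B) (m : ℕ) (p : {p : ι → ℕ // ∑ i, p i ≤ m}) : PP16.P m A B :=
  ∏ i, (PP16.dn m A B (z i) - algebraMap B (PP16.P m A B) (z i)) ^ (p.1 i)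

omit [DecidableEq ι] in
theorem mk_ev_monomial (m : ℕ) (p : {p : ι → ℕ // ∑ i, p i ≤ m}) :
    Ideal.Quotient.mk (ideal A B ^ (m + 1)) (ev A z (monomial (Finsupp.equivFunOnFinite.symm p.1) 1)) =
      monVec z m p := by
  rw [ev_monomial, map_one, one_mul, map_prod, monVec]
  exact Finset.prod_congr rfl fun i _ => by
    rw [map_pow, zeta, map_sub, dn_eq, algebraMap_eq]
    rfl

theorem exists_monomialBasis (hz : Submodule.span B (Set.range fun i => KaehlerDifferential.D A B (z i)) = ⊤)
    (hI : Indep A z) (m : ℕ) :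
    ∃ b : Module.Basis {p : ι → ℕ // ∑ i, p i ≤ m} B (PP16.P m A B), (∀ p, b p = monVec z m p) ∧
      ∀ (F : MvPolynomial ι B) (p : {p : ι → ℕ // ∑ i, p i ≤ m}),
        b.repr (Ideal.Quotient.mk _ (ev A z F)) p = F.coeff (Finsupp.equivFunOnFinite.symm p.1) := by
  classical
  let π : MvPolynomial ι B →ₗ[B] PP16.P m A B :=
    (Ideal.Quotient.mkₐ B (ideal A B ^ (m + 1))).toLinearMap.comp (ev A z).toLinearMap
  have hπ : ∀ F, π F = Ideal.Quotient.mk _ (ev A z F) := fun F => rfl
  have hv : ∀ p : {p : ι → ℕ // ∑ i, p i ≤ m}, π (monomial (Finsupp.equivFunOnFinite.symm p.1) 1) = monVec z m p :=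
    fun p => mk_ev_monomial m p
  have hli : LinearIndependent B (monVec (A := A) z m) := by
    rw [linearIndependent_iff]
    intro l hl
    set F : MvPolynomial ι B := l.sum fun p c => c • monomial (Finsupp.equivFunOnFinite.symm p.1) 1 with hFdef
    have hFπ : π F = 0 := by
      rw [hFdef, map_finsuppSum, ← hl, Finsupp.linearCombination_apply]
      exact Finsupp.sum_congr fun p _ => by rw [map_smul, hv]
    have hcoeff : ∀ d : ι →₀ ℕ, F.coeff d =
        if h : ∑ i, d i ≤ m then l ⟨d, h⟩ else 0 := by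
      intro d
      rw [hFdef, Finsupp.sum, coeff_sum]
      split_ifs with h
      · rw [Finset.sum_eq_single ⟨d, h⟩]
        · simp
        · intro p _ hp
          rw [coeff_smul, coeff_monomial, if_neg, smul_zero]
          exact fun hpd => hp (Subtype.ext (funext fun i => by simpa using DFunLike.congr_fun hpd i))
        · intro hp
          rw [Finsupp.notMem_support_iff.1 hp, zero_smul, coeff_zero]
      · refine Finset.sum_eq_zero fun p _ => ?_
        rw [coeff_smul, coeff_monomial, if_neg, smul_zero]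
        intro hpd
        exact h (by rw [← hpd]; simpa using p.2)
    have hF0 : F = 0 := hI m F (fun d hd => by
      rw [mem_support_iff, hcoeff] at hd
      split_ifs at hd with h
      · rwa [Finsupp.degree_eq_sum]
      · exact absurd rfl hd) (Ideal.Quotient.eq_zero_iff_mem.1 hFπ)
    ext p
    have := hcoeff (Finsupp.equivFunOnFinite.symm p.1)
    rw [hF0, coeff_zero, dif_pos (by simpa using p.2)] at this
    simpa using this.symm
  have hsp : ⊤ ≤ Submodule.span B (Set.range (monVec (A := A) z m)) := by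
    rintro x -
    obtain ⟨x, rfl⟩ := Ideal.Quotient.mk_surjective x
    obtain ⟨F, hF, hF'⟩ := exists_expansion_le hz m x
    rw [Ideal.Quotient.eq.2 hF', ← hπ, ← support_sum_monomial_coeff F, map_sum]
    refine Submodule.sum_mem _ fun d hd => ?_
    have hd' : ∑ i, d i ≤ m := by rw [← Finsupp.degree_eq_sum]; exact hF d hd
    rw [← mul_one (F.coeff d), ← smul_eq_mul, ← smul_monomial, map_smul]
    refine Submodule.smul_mem _ _ (Submodule.subset_span ⟨⟨d, hd'⟩, ?_⟩)
    rw [← hv]
    simp
  let b := Module.Basis.mk hli hsp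
  have hb : ∀ p, b p = monVec z m p := fun p => Module.Basis.mk_apply hli hsp p
  refine ⟨b, hb, fun F p => ?_⟩
  have key : (Finsupp.lapply p).comp (b.repr.toLinearMap.comp π) =
      MvPolynomial.lcoeff B (Finsupp.equivFunOnFinite.symm p.1) := by
    refine (MvPolynomial.basisMonomials ι B).ext fun d => ?_
    simp only [coe_basisMonomials, LinearMap.comp_apply, lcoeff_apply, LinearEquiv.coe_coe, Finsupp.lapply_apply,
      coeff_monomial]
    by_cases hd : ∑ i, d i ≤ m
    · have h2 : π (monomial d 1) = b ⟨d, hd⟩ := by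
        rw [hb, ← hv]
        simp
      rw [h2, Module.Basis.repr_self, Finsupp.single_apply]
      refine if_congr ⟨fun h => ?_, fun h => ?_⟩ rfl rfl
      · rw [← h]; simp
      · exact Subtype.ext (funext fun i => by simpa using DFunLike.congr_fun h i)
    · have h0 : π (monomial d 1) = 0 := Ideal.Quotient.eq_zero_iff_mem.2 (ev_mem_pow z fun d' hd' => by
        rw [mem_support_iff, coeff_monomial] at hd'
        split_ifs at hd' with h
        · rw [← h, Finsupp.degree_eq_sum]; omega
        · exact absurd rfl hd')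
      rw [h0, map_zero, Finsupp.zero_apply, if_neg]
      intro h
      exact hd (by rw [h]; simpa using p.2)
  exact LinearMap.congr_fun key F

theorem coeff_prod_shift (z : ι → B) (r : ι → ℕ) (p : ι → ℕ) :
    coeff (Finsupp.equivFunOnFinite.symm p) (∏ i, (C (z i) + X i) ^ r i : MvPolynomial ι B) =
      ((∏ i, Nat.choose (r i) (p i) : ℕ) : B) * ∏ i, z i ^ (r i - p i) := by
  classical
  have hexp : (∏ i, (C (z i) + X i) ^ r i : MvPolynomial ι B) =
      ∑ k ∈ Fintype.piFinset (fun i => Finset.range (r i + 1)),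
        monomial (Finsupp.equivFunOnFinite.symm k) (((∏ i, Nat.choose (r i) (k i) : ℕ) : B) * ∏ i, z i ^ (r i - k i)) := by
    calc (∏ i, (C (z i) + X i) ^ r i : MvPolynomial ι B)
        = ∏ i, ∑ k ∈ Finset.range (r i + 1), (X i ^ k * C (z i ^ (r i - k) * (Nat.choose (r i) k : B))) := by
          refine Finset.prod_congr rfl fun i _ => ?_
          rw [add_comm, add_pow]
          refine Finset.sum_congr rfl fun k _ => ?_
          rw [map_mul, map_pow, map_natCast, mul_assoc]
      _ = ∑ k ∈ Fintype.piFinset (fun i => Finset.range (r i + 1)),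
            ∏ i, (X i ^ (k i) * C (z i ^ (r i - k i) * (Nat.choose (r i) (k i) : B))) := Finset.prod_univ_sum _ _
      _ = _ := by
          refine Finset.sum_congr rfl fun k _ => ?_
          rw [Finset.prod_mul_distrib, ← map_prod, monomial_eq, Finsupp.prod_fintype _ _ fun i => pow_zero _,
            Finset.prod_mul_distrib, Nat.cast_prod, mul_comm (∏ i, z i ^ (r i - k i))]
          rw [mul_comm]
          rfl
  rw [hexp, coeff_sum]
  simp only [coeff_monomial, EmbeddingLike.apply_eq_iff_eq, Finset.sum_ite_eq']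
  split_ifs with h
  · rfl
  · simp only [Fintype.mem_piFinset, Finset.mem_range, not_forall, not_lt] at h
    obtain ⟨i, hi⟩ := h
    rw [Finset.prod_eq_zero (Finset.mem_univ i) (Nat.choose_eq_zero_of_lt (by omega)), Nat.cast_zero, zero_mul]

omit [DecidableEq ι] in
theorem evalPair_ev_eq {p : ι → ℕ} (D : B →ₗ[A] B)
    (hD : ∀ q : ι → ℕ, D (∏ i, z i ^ q i) = ((∏ i, Nat.choose (q i) (p i) : ℕ) : B) * ∏ i, z i ^ (q i - p i))
    (F : MvPolynomial ι B) :
    evalPair D (1 : B) (ev A z F) = F.coeff (Finsupp.equivFunOnFinite.symm p) := by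
  classical
  let L : B ⊗[A] B →ₗ[B] B :=
    { toFun := evalPair D (1 : B)
      map_add' := map_add _
      map_smul' := fun c w => by
        rw [RingHom.id_apply, Algebra.smul_def]
        exact evalPair_left D 1 c w }
  let σ' : MvPolynomial ι B →ₐ[B] MvPolynomial ι B := aeval fun i => C (z i) + X i
  let τ : MvPolynomial ι B →ₐ[B] MvPolynomial ι B := aeval fun i => X i - C (z i)
  have hστ : ∀ G, σ' (τ G) = G := fun G => by
    refine AlgHom.congr_fun (φ₁ := σ'.comp τ) (φ₂ := AlgHom.id B _) (MvPolynomial.algHom_ext fun i => ?_) G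
    simp [σ', τ]
  let R : MvPolynomial ι B →ₐ[B] B ⊗[A] B := aeval fun i => (1 : B) ⊗ₜ[A] z i
  have hR : ∀ G, R G = ev A z (σ' G) := fun G => by
    refine AlgHom.congr_fun (φ₁ := R) (φ₂ := (ev A z).comp σ') (MvPolynomial.algHom_ext fun i => ?_) G
    simp [R, σ', ev, zeta]
  have key : L.comp R.toLinearMap = (MvPolynomial.lcoeff B (Finsupp.equivFunOnFinite.symm p)).comp σ'.toLinearMap := by
    refine (MvPolynomial.basisMonomials ι B).ext fun d => ?_
    simp only [coe_basisMonomials, LinearMap.comp_apply, lcoeff_apply, AlgHom.toLinearMap_apply]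
    have h1 : R (monomial d 1) = (1 : B) ⊗ₜ[A] ∏ i, z i ^ d i := by
      simp only [R, aeval_monomial, map_one, one_mul]
      rw [Finsupp.prod_fintype _ _ fun i => pow_zero _, ← Algebra.TensorProduct.includeRight_apply (R := A) (A := B),
        map_prod]
      exact Finset.prod_congr rfl fun i _ => by rw [map_pow, Algebra.TensorProduct.includeRight_apply]
    have h2 : σ' (monomial d 1) = ∏ i, (C (z i) + X i) ^ d i := by
      simp only [σ', aeval_monomial, map_one, one_mul, Finsupp.prod_fintype _ _ fun i => pow_zero _]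
    rw [h1, h2, coeff_prod_shift]
    show evalPair D (1 : B) _ = _
    rw [evalPair_tmul, one_smul, smul_eq_mul, mul_one, hD]
  have h := LinearMap.congr_fun key (τ F)
  simp only [LinearMap.comp_apply, AlgHom.toLinearMap_apply, lcoeff_apply, hστ, hR] at h
  exact h

theorem monomialBasis_of_smooth (hB : PP16.IsDiffSmooth A B) (z : ι → B)
    (hz : ∃ b : Module.Basis ι B (KaehlerDifferential A B), ∀ i, b i = KaehlerDifferential.D A B (z i)) (m : ℕ) :
    ∃ b : Module.Basis {p : ι → ℕ // ∑ i, p i ≤ m} B (PP16.P m A B),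
      ∀ p, b p = ∏ i, (PP16.dn m A B (z i) - algebraMap B (PP16.P m A B) (z i)) ^ (p.1 i) := by
  obtain ⟨e, he⟩ := hz
  have hspan : Submodule.span B (Set.range fun i => KaehlerDifferential.D A B (z i)) = ⊤ := by
    rw [← funext he]; exact e.span_eq
  obtain ⟨b, hb, -⟩ := exists_monomialBasis hspan (indep_of_isDiffSmooth hB e he) m
  exact ⟨b, hb⟩

variable {Dp : (ι → ℕ) → (B →ₗ[A] B)}

omit [DecidableEq ι] in
theorem evalPair_zero_of_mem_pow (hz : Submodule.span B (Set.range fun i => KaehlerDifferential.D A B (z i)) = ⊤)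
    (hD : ∀ p, ∃ k : ℕ, Diff16.IsDiffOpLE A B B B k (Dp p))
    (hDz : ∀ p q : ι → ℕ, Dp p (∏ i, z i ^ q i) = ((∏ i, Nat.choose (q i) (p i) : ℕ) : B) * ∏ i, z i ^ (q i - p i))
    (p : ι → ℕ) {x : B ⊗[A] B} (hx : x ∈ ideal A B ^ (∑ i, p i + 1)) : evalPair (Dp p) (1 : B) x = 0 := by
  obtain ⟨k, hk⟩ := hD p
  rw [isDiffOpLE_iff_evalPair] at hk
  obtain ⟨F, hF, hF'⟩ := exists_expansion hz hx (k + 1)
  have h1 := hk 1 _ (Ideal.pow_le_pow_right (by omega) hF')
  rw [map_sub, sub_eq_zero, evalPair_ev_eq (Dp p) (hDz p)] at h1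
  rw [h1, ← notMem_support_iff]
  intro hmem
  have := (hF _ hmem).1
  rw [degree_equivFun_symm] at this
  omega

theorem isDiffOpLE_of_evalPair_one (n : ℕ) (D : B →ₗ[A] B)
    (h : ∀ x ∈ ideal A B ^ (n + 1), evalPair D (1 : B) x = 0) : Diff16.IsDiffOpLE A B B B n D := by
  rw [isDiffOpLE_iff_evalPair]
  intro m x hx
  have := evalPair_right D (1 : B) m x
  rw [smul_eq_mul, mul_one] at this
  rw [← this]
  exact h _ (Ideal.mul_mem_left _ _ hx)

theorem indep_of_operators (hz : Submodule.span B (Set.range fun i => KaehlerDifferential.D A B (z i)) = ⊤)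
    (hD : ∀ p, ∃ k : ℕ, Diff16.IsDiffOpLE A B B B k (Dp p))
    (hDz : ∀ p q : ι → ℕ, Dp p (∏ i, z i ^ q i) = ((∏ i, Nat.choose (q i) (p i) : ℕ) : B) * ∏ i, z i ^ (q i - p i)) :
    Indep A z := by
  intro m F hF hFI
  ext d
  rw [coeff_zero]
  by_cases hd : d ∈ F.support
  · have hdeg : ∑ i, d i ≤ m := by rw [← Finsupp.degree_eq_sum]; exact hF d hd
    have := evalPair_ev_eq (Dp d) (hDz d) F
    rw [evalPair_zero_of_mem_pow hz hD hDz d (Ideal.pow_le_pow_right (by omega) hFI)] at this
    simpa using this.symm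
  · exact notMem_support_iff.1 hd

theorem evalPair_sum_smul {κ : Type*} (s : Finset κ) (a : κ → B) (D : κ → B →ₗ[A] B) (x : B ⊗[A] B) :
    evalPair (∑ k ∈ s, a k • D k) (1 : B) x = ∑ k ∈ s, a k * evalPair (D k) (1 : B) x := by
  induction x with
  | zero => simp
  | add x y hx hy => simp only [map_add, hx, hy, mul_add, Finset.sum_add_distrib]
  | tmul x y =>
    simp only [evalPair_tmul, LinearMap.sum_apply, LinearMap.smul_apply, smul_eq_mul, Finset.mul_sum]
    exact Finset.sum_congr rfl fun k _ => by ring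

theorem operators_basis (hz : Submodule.span B (Set.range fun i => KaehlerDifferential.D A B (z i)) = ⊤)
    (hD : ∀ p, ∃ k : ℕ, Diff16.IsDiffOpLE A B B B k (Dp p))
    (hDz : ∀ p q : ι → ℕ, Dp p (∏ i, z i ^ q i) = ((∏ i, Nat.choose (q i) (p i) : ℕ) : B) * ∏ i, z i ^ (q i - p i)) :
    (∀ p, Diff16.IsDiffOpLE A B B B (∑ i, p i) (Dp p)) ∧
      ∀ (m : ℕ) (D : B →ₗ[A] B), Diff16.IsDiffOpLE A B B B m D →
        ∃! a : {p : ι → ℕ // ∑ i, p i ≤ m} →₀ B, D = a.sum fun p c => c • Dp p.1 := by
  classical
  refine ⟨fun p => isDiffOpLE_of_evalPair_one _ _ fun x hx => evalPair_zero_of_mem_pow hz hD hDz p hx, ?_⟩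
  intro m D hDm
  rw [isDiffOpLE_iff_evalPair] at hDm
  have hfin : Finite {p : ι → ℕ // ∑ i, p i ≤ m} := by
    refine Finite.of_injective (fun p => fun i => (⟨p.1 i, ?_⟩ : Fin (m + 1))) fun p q h =>
      Subtype.ext (funext fun i => Fin.val_eq_of_eq (congrFun h i))
    exact Nat.lt_succ_of_le ((Finset.single_le_sum (fun j _ => Nat.zero_le (p.1 j)) (Finset.mem_univ i)).trans p.2)
  have : Fintype {p : ι → ℕ // ∑ i, p i ≤ m} := Fintype.ofFinite _
  let mon : {p : ι → ℕ // ∑ i, p i ≤ m} → B ⊗[A] B := fun p =>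
    ev A z (monomial (Finsupp.equivFunOnFinite.symm p.1) 1)
  let a : {p : ι → ℕ // ∑ i, p i ≤ m} →₀ B :=
    Finsupp.equivFunOnFinite.symm fun p => evalPair D (1 : B) (mon p)
  have hsum : ∀ c : {p : ι → ℕ // ∑ i, p i ≤ m} →₀ B, (c.sum fun p t => t • Dp p.1) = ∑ p, c p • Dp p.1 :=
    fun c => Finsupp.sum_fintype _ _ fun p => zero_smul B _
  refine ⟨a, LinearMap.ext fun b => ?_, fun c hc => Finsupp.ext fun p => ?_⟩
  · simp only [hsum]
    obtain ⟨F, hF, hF'⟩ := exists_expansion_le hz m ((1 : B) ⊗ₜ[A] b)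
    have h0 := hDm 1 _ hF'
    rw [map_sub, sub_eq_zero, evalPair_tmul, one_smul, smul_eq_mul, mul_one] at h0
    rw [h0]
    have hcoef : ∀ p : {p : ι → ℕ // ∑ i, p i ≤ m},
        Dp p.1 b = F.coeff (Finsupp.equivFunOnFinite.symm p.1) := fun p => by
      have h1 := evalPair_zero_of_mem_pow hz hD hDz p.1
        (Ideal.pow_le_pow_right (by have := p.2; omega) hF')
      rw [map_sub, sub_eq_zero, evalPair_tmul, one_smul, smul_eq_mul, mul_one, evalPair_ev_eq _ (hDz p.1)] at h1
      exact h1
    simp only [LinearMap.sum_apply, LinearMap.smul_apply, smul_eq_mul, hcoef]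
    let L : MvPolynomial ι B →ₗ[B] B :=
      { toFun := fun G => evalPair D (1 : B) (ev A z G)
        map_add' := fun G G' => by rw [map_add, map_add]
        map_smul' := fun t G => by
          rw [RingHom.id_apply, map_smul, Algebra.smul_def]
          exact evalPair_left D 1 t _ }
    show L F = _
    conv_lhs => rw [← support_sum_monomial_coeff F, map_sum]
    have hinj : Function.Injective fun p : {p : ι → ℕ // ∑ i, p i ≤ m} => Finsupp.equivFunOnFinite.symm p.1 :=
      fun p q h => Subtype.ext (Finsupp.equivFunOnFinite.symm.injective h)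
    have hsub : F.support ⊆ Finset.univ.map ⟨_, hinj⟩ := fun d hd => by
      refine Finset.mem_map.2 ⟨⟨d, by rw [← Finsupp.degree_eq_sum]; exact hF d hd⟩, Finset.mem_univ _, ?_⟩
      simp
    rw [Finset.sum_subset hsub (fun d _ hd => by rw [notMem_support_iff.1 hd, monomial_zero, map_zero]),
      Finset.sum_map]
    refine Finset.sum_congr rfl fun p _ => ?_
    show L (monomial (Finsupp.equivFunOnFinite.symm p.1) (F.coeff (Finsupp.equivFunOnFinite.symm p.1))) = _
    rw [← mul_one (F.coeff (Finsupp.equivFunOnFinite.symm p.1)), ← smul_eq_mul, ← smul_monomial, map_smul,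
      smul_eq_mul, smul_eq_mul, mul_one, mul_comm]
    rfl
  · simp only [hsum] at hc
    show c p = evalPair D (1 : B) (mon p)
    rw [hc, evalPair_sum_smul]
    rw [Finset.sum_eq_single p]
    · rw [evalPair_ev_eq _ (hDz p.1), coeff_monomial, if_pos rfl, mul_one]
    · intro q _ hq
      rw [evalPair_ev_eq _ (hDz q.1), coeff_monomial, if_neg, mul_zero]
      exact fun h => hq (Subtype.ext (Finsupp.equivFunOnFinite.symm.injective h.symm))
    · intro h; exact absurd (Finset.mem_univ _) h

theorem smooth_iff_operators (z : ι → B)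
    (hz : Submodule.span B (Set.range fun i => KaehlerDifferential.D A B (z i)) = ⊤) :
    (PP16.IsDiffSmooth A B ∧ ∃ b : Module.Basis ι B (KaehlerDifferential A B),
        ∀ i, b i = KaehlerDifferential.D A B (z i)) ↔
      ∃ Dp : (ι → ℕ) → (B →ₗ[A] B), (∀ p, ∃ k : ℕ, Diff16.IsDiffOpLE A B B B k (Dp p)) ∧
        ∀ p q : ι → ℕ, Dp p (∏ i, z i ^ q i) = ((∏ i, Nat.choose (q i) (p i) : ℕ) : B) * ∏ i, z i ^ (q i - p i) := by
  classical
  constructor
  · rintro ⟨hB, e, he⟩
    have hI := indep_of_isDiffSmooth hB e he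
    choose b hb hrepr using fun m => exists_monomialBasis hz hI m
    let Dp : (ι → ℕ) → (B →ₗ[A] B) := fun p =>
      (((b (∑ i, p i)).coord ⟨p, le_rfl⟩).restrictScalars A).comp (PP16.dn (∑ i, p i) A B).toLinearMap
    refine ⟨Dp, fun p => ⟨∑ i, p i, isDiffOpLE_of_evalPair_one _ _ fun x hx => ?_⟩, fun p q => ?_⟩
    · have h : ∀ w, evalPair (Dp p) (1 : B) w =
          (b (∑ i, p i)).coord ⟨p, le_rfl⟩ (Ideal.Quotient.mk _ w) := fun w => by
        induction w with
        | zero => simp
        | add s t hs ht => rw [map_add, map_add, map_add, hs, ht]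
        | tmul s t =>
          rw [evalPair_tmul, mk_tmul, smul_eq_mul t, mul_one, ← Algebra.smul_def, map_smul]
          rfl
      rw [h, Ideal.Quotient.eq_zero_iff_mem.2 hx, map_zero]
    · show (b (∑ i, p i)).coord ⟨p, le_rfl⟩ (PP16.dn (∑ i, p i) A B (∏ i, z i ^ q i)) = _
      have hF : PP16.dn (∑ i, p i) A B (∏ i, z i ^ q i) =
          Ideal.Quotient.mk _ (ev A z (∏ i, (C (z i) + X i) ^ q i)) := by
        rw [map_prod, map_prod, map_prod]
        refine Finset.prod_congr rfl fun i _ => ?_
        rw [map_pow, map_pow, map_pow, map_add, ev, aeval_C, aeval_X, dn_eq, zeta,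
          Algebra.TensorProduct.algebraMap_apply, Algebra.algebraMap_self, RingHom.id_apply, add_sub_cancel]
      rw [hF, Module.Basis.coord_apply, hrepr, coeff_prod_shift]
  · rintro ⟨Dp, hD, hDz⟩
    have hI := indep_of_operators hz hD hDz
    have hli : LinearIndependent B fun i => KaehlerDifferential.D A B (z i) := by
      rw [linearIndependent_iff]
      intro l hl
      obtain ⟨hm, h⟩ := fromIdeal_ev_linForm z l (A := A)
      rw [hl, ← map_zero (KaehlerDifferential.fromIdeal A B)] at h
      have h2 : ev A z (linForm B ι l) ∈ ideal A B ^ 2 := by simpa using (fromIdeal_eq_iff _ _).1 h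
      have h0 := hI 1 _ (fun d hd => le_of_eq ((isHomogeneous_linForm l).degree_eq_sum_deg_support hd).symm) h2
      ext i
      have := congrArg (coeff (Finsupp.single i 1)) h0
      rw [coeff_zero, linForm, Finsupp.linearCombination_apply, Finsupp.sum, coeff_sum] at this
      simp only [coeff_smul, coeff_X, Finsupp.single_left_inj one_ne_zero, smul_eq_mul, mul_ite, mul_one,
        mul_zero, Finset.sum_ite_eq'] at this
      rw [Finsupp.zero_apply]
      by_contra hne
      exact hne (by rwa [if_pos (Finsupp.mem_support_iff.2 hne)] at this)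
    let e : Module.Basis ι B (KaehlerDifferential A B) := Module.Basis.mk hli hz.ge
    have he : ∀ i, e i = KaehlerDifferential.D A B (z i) := fun i => Module.Basis.mk_apply hli hz.ge i
    refine ⟨isDiffSmooth_of_indep e (fun i => ⟨zeta A (z i), zeta_mem _⟩)
      (fun i => ((he i).trans (D_eq_fromIdeal (z i))).symm) fun m F hF hFI =>
        hI m F (fun d hd => le_of_eq (hF.degree_eq_sum_deg_support hd).symm) hFI, e, he⟩

end finite

end PP16Lib
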