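import Groth.Agent.PP16Lib.Basic

/-!
# Principal parts of polynomial algebras and of their fraction fields
-/

set_option autoImplicit false

universe u v w

open scoped TensorProduct
open MvPolynomial

namespace PP16Lib

theorem map_mk_pow_eq_bot {R : Type v} [CommRing R] (I : Ideal R) (k : ℕ) :
    (I.map (Ideal.Quotient.mk (I ^ k))) ^ k = ⊥ := by
  rw [← Ideal.map_pow, Ideal.map_quotient_self]

theorem mk_C_add_sub {R : Type u} [CommRing R] {σ : Type w} (I : Ideal (MvPolynomial σ R)) (c : R) (i : σ) :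
    Ideal.Quotient.mk I (C c + X i) - algebraMap R (MvPolynomial σ R ⧸ I) c = Ideal.Quotient.mk I (X i) := by
  rw [map_add, IsScalarTower.algebraMap_apply R (MvPolynomial σ R) (MvPolynomial σ R ⧸ I),
    Ideal.Quotient.algebraMap_eq, MvPolynomial.algebraMap_eq, add_sub_cancel_left]

theorem mk_X_mem {R : Type u} [CommRing R] {σ : Type w} (i : σ) (I : Ideal (MvPolynomial σ R)) :
    Ideal.Quotient.mk I (X i) ∈
      (Ideal.span (Set.range (X : σ → MvPolynomial σ R))).map (Ideal.Quotient.mk I) :=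
  Ideal.mem_map_of_mem _ (Ideal.subset_span ⟨i, rfl⟩)

section coords

variable (n : ℕ) {A B : Type u} [CommRing A] [CommRing B] [Algebra A B] {σ : Type w} (z : σ → B)

/-- Truncated polynomial algebra. -/
abbrev Trunc (B : Type u) [CommRing B] (σ : Type w) (n : ℕ) :=
  MvPolynomial σ B ⧸ Ideal.span (Set.range (X : σ → MvPolynomial σ B)) ^ (n + 1)

variable (A) in
/-- The evaluation `U_i ↦ dn z_i - z_i`. -/
noncomputable def zetaEval : MvPolynomial σ B →ₐ[B] PP16.P n A B :=
  aeval fun i => PP16.dn n A B (z i) - algebraMap B (PP16.P n A B) (z i)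

theorem pow_span_le_ker :
    Ideal.span (Set.range (X : σ → MvPolynomial σ B)) ^ (n + 1) ≤ RingHom.ker (zetaEval n A z) := by
  rw [← Ideal.map_eq_bot_iff_le_ker, Ideal.map_pow, ← le_bot_iff]
  refine (Ideal.pow_right_mono ?_ _).trans (le_of_eq (augIdeal_pow_eq_bot (n := n) (A := A) (B := B)))
  rw [Ideal.map_span, Ideal.span_le]
  rintro _ ⟨_, ⟨i, rfl⟩, rfl⟩
  rw [SetLike.mem_coe, zetaEval, aeval_X]
  exact dn_sub_mem _

variable {n z}

/-- The maximal ideal of the truncated polynomial algebra. -/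
noncomputable abbrev truncIdeal (B : Type u) [CommRing B] (σ : Type w) (n : ℕ) : Ideal (Trunc B σ n) :=
  (Ideal.span (Set.range (X : σ → MvPolynomial σ B))).map
    (Ideal.Quotient.mk (Ideal.span (Set.range (X : σ → MvPolynomial σ B)) ^ (n + 1)))

variable (n z)

variable (A) in
/-- The inverse map. -/
noncomputable def coordInv : Trunc B σ n →ₐ[B] PP16.P n A B :=
  Ideal.Quotient.liftₐ _ (zetaEval n A z) fun _ hx => pow_span_le_ker n z hx

theorem coordInv_mk (x : MvPolynomial σ B) : coordInv n A z (Ideal.Quotient.mk _ x) = zetaEval n A z x := rfl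

variable {n z}

/-- The forward map, over `A`. -/
noncomputable def coordHom₀ (g : B →ₐ[A] Trunc B σ n)
    (hcong : ∀ b, g b - algebraMap B (Trunc B σ n) b ∈ truncIdeal B σ n) :
    PP16.P n A B →ₐ[A] Trunc B σ n :=
  lift (IsScalarTower.toAlgHom A B (Trunc B σ n)) g (truncIdeal B σ n)
    (fun b => by rw [IsScalarTower.coe_toAlgHom']; exact hcong b)
    (map_mk_pow_eq_bot (Ideal.span (Set.range (X : σ → MvPolynomial σ B))) (n + 1))

theorem coordHom₀_dn (g : B →ₐ[A] Trunc B σ n)
    (hcong : ∀ b, g b - algebraMap B (Trunc B σ n) b ∈ truncIdeal B σ n) (b : B) :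
    coordHom₀ g hcong (PP16.dn n A B b) = g b := by
  unfold coordHom₀
  rw [lift_dn]

/-- The forward map. -/
noncomputable def coordHom (g : B →ₐ[A] Trunc B σ n)
    (hcong : ∀ b, g b - algebraMap B (Trunc B σ n) b ∈ truncIdeal B σ n) :
    PP16.P n A B →ₐ[B] Trunc B σ n :=
  { (coordHom₀ g hcong).toRingHom with
    commutes' := fun b => lift_algebraMap b }

theorem coordHom_dn (g : B →ₐ[A] Trunc B σ n)
    (hcong : ∀ b, g b - algebraMap B (Trunc B σ n) b ∈ truncIdeal B σ n) (b : B) :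
    coordHom g hcong (PP16.dn n A B b) = g b :=
  coordHom₀_dn g hcong b

theorem coordHom_comp_inv (g : B →ₐ[A] Trunc B σ n)
    (hg : ∀ i, g (z i) = Ideal.Quotient.mk _ (C (z i) + X i))
    (hcong : ∀ b, g b - algebraMap B (Trunc B σ n) b ∈ truncIdeal B σ n) :
    (coordHom g hcong).comp (coordInv n A z) = AlgHom.id B _ := by
  refine Ideal.Quotient.algHom_ext B (MvPolynomial.algHom_ext fun i => ?_)
  show coordHom g hcong (coordInv n A z (Ideal.Quotient.mk _ (X i))) = Ideal.Quotient.mk _ (X i)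
  rw [coordInv_mk, zetaEval, aeval_X, map_sub, coordHom_dn, hg, AlgHom.commutes, mk_C_add_sub]

theorem inv_comp_g (g : B →ₐ[A] Trunc B σ n)
    (hg : ∀ i, g (z i) = Ideal.Quotient.mk _ (C (z i) + X i))
    (hext : ∀ f₁ f₂ : B →ₐ[A] PP16.P n A B, (∀ i, f₁ (z i) = f₂ (z i)) → f₁ = f₂) (b : B) :
    coordInv n A z (g b) = PP16.dn n A B b := by
  refine AlgHom.congr_fun (hext (((coordInv n A z).restrictScalars A).comp g) (PP16.dn n A B) fun i => ?_) b
  show coordInv n A z (g (z i)) = _
  rw [hg, coordInv_mk, map_add, zetaEval, aeval_X, aeval_C, add_sub_cancel]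

theorem inv_comp_coordHom (g : B →ₐ[A] Trunc B σ n)
    (hg : ∀ i, g (z i) = Ideal.Quotient.mk _ (C (z i) + X i))
    (hcong : ∀ b, g b - algebraMap B (Trunc B σ n) b ∈ truncIdeal B σ n)
    (hext : ∀ f₁ f₂ : B →ₐ[A] PP16.P n A B, (∀ i, f₁ (z i) = f₂ (z i)) → f₁ = f₂) :
    (coordInv n A z).comp (coordHom g hcong) = AlgHom.id B _ := by
  refine AlgHom.coe_ringHom_injective (ringHom_ext (fun b => ?_) fun b => ?_)
  · exact ((coordInv n A z).comp (coordHom g hcong)).commutes b
  · show coordInv n A z (coordHom g hcong (PP16.dn n A B b)) = PP16.dn n A B b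
    rw [coordHom_dn]
    exact inv_comp_g g hg hext b

theorem coord_equiv (g : B →ₐ[A] Trunc B σ n)
    (hg : ∀ i, g (z i) = Ideal.Quotient.mk _ (C (z i) + X i))
    (hcong : ∀ b, g b - algebraMap B (Trunc B σ n) b ∈ truncIdeal B σ n)
    (hext : ∀ f₁ f₂ : B →ₐ[A] PP16.P n A B, (∀ i, f₁ (z i) = f₂ (z i)) → f₁ = f₂) :
    (∃ e : PP16.P n A B ≃ₐ[B] Trunc B σ n,
        ∀ i, e (PP16.dn n A B (z i)) = Ideal.Quotient.mk _ (C (z i) + X i)) ∧
      Function.Surjective (zetaEval n A z) ∧
      RingHom.ker (zetaEval n A z).toRingHom = Ideal.span (Set.range (X : σ → MvPolynomial σ B)) ^ (n + 1) := by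
  have h₁ := coordHom_comp_inv g hg hcong
  have h₂ := inv_comp_coordHom g hg hcong hext
  refine ⟨⟨AlgEquiv.ofAlgHom _ _ h₁ h₂, fun i => (coordHom_dn g hcong (z i)).trans (hg i)⟩, fun x => ?_,
    le_antisymm (fun x hx => ?_) (pow_span_le_ker n z)⟩
  · obtain ⟨y, hy⟩ := Ideal.Quotient.mk_surjective (coordHom g hcong x)
    refine ⟨y, ?_⟩
    rw [← coordInv_mk, hy]
    exact AlgHom.congr_fun h₂ x
  · rw [← Ideal.Quotient.eq_zero_iff_mem]
    have h := AlgHom.congr_fun h₁ (Ideal.Quotient.mk _ x)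
    rw [AlgHom.comp_apply, coordInv_mk, show zetaEval n A z x = 0 from hx, map_zero] at h
    exact h.symm

end coords

theorem exists_algEquiv_mvPolynomial (n : ℕ) (A : Type u) [CommRing A] (σ : Type u) :
    ∃ e : PP16.P n A (MvPolynomial σ A) ≃ₐ[MvPolynomial σ A] Trunc (MvPolynomial σ A) σ n,
      ∀ i : σ, e (PP16.dn n A (MvPolynomial σ A) (X i)) =
        Ideal.Quotient.mk _ (C (X i : MvPolynomial σ A) + (X i : MvPolynomial σ (MvPolynomial σ A))) := by
  let g : MvPolynomial σ A →ₐ[A] Trunc (MvPolynomial σ A) σ n :=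
    aeval fun i => Ideal.Quotient.mk _ (C (X i : MvPolynomial σ A) + X i)
  refine (coord_equiv (z := fun i : σ => (X i : MvPolynomial σ A)) g (fun i => aeval_X _ i) (fun b => ?_)
    (fun f₁ f₂ h => MvPolynomial.algHom_ext h)).1
  refine congr_of_adjoin (IsScalarTower.toAlgHom A (MvPolynomial σ A) _) g _ MvPolynomial.adjoin_range_X ?_ b
  rintro _ ⟨i, rfl⟩
  rw [aeval_X, IsScalarTower.coe_toAlgHom', mk_C_add_sub]
  exact mk_X_mem i _

theorem aeval_fractionRing (k : Type u) [Field k] (r n : ℕ) :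
    Function.Surjective (zetaEval n k fun i : Fin r =>
        algebraMap (MvPolynomial (Fin r) k) (FractionRing (MvPolynomial (Fin r) k)) (X i)) ∧
      RingHom.ker (zetaEval n k fun i : Fin r =>
        algebraMap (MvPolynomial (Fin r) k) (FractionRing (MvPolynomial (Fin r) k)) (X i)).toRingHom =
        Ideal.span (Set.range (X : Fin r → MvPolynomial (Fin r) (FractionRing (MvPolynomial (Fin r) k)))) ^ (n + 1) := by
  set B := MvPolynomial (Fin r) k
  set K := FractionRing B
  set z : Fin r → K := fun i => algebraMap B K (X i)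
  set m := Ideal.span (Set.range (X : Fin r → MvPolynomial (Fin r) K))
  let π := Ideal.Quotient.mk (m ^ (n + 1))
  let g₀ : B →ₐ[k] Trunc K (Fin r) n := aeval fun i => π (C (z i) + X i)
  have hJ := map_mk_pow_eq_bot m (n + 1)
  have hc : ∀ b : B, g₀ b - algebraMap K (Trunc K (Fin r) n) (algebraMap B K b) ∈ m.map π := by
    refine congr_of_adjoin (((IsScalarTower.toAlgHom k K (Trunc K (Fin r) n)).comp
      (IsScalarTower.toAlgHom k B K))) g₀ _ MvPolynomial.adjoin_range_X ?_
    rintro _ ⟨i, rfl⟩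
    rw [aeval_X, AlgHom.comp_apply, IsScalarTower.coe_toAlgHom', IsScalarTower.coe_toAlgHom', mk_C_add_sub]
    exact mk_X_mem i _
  have hu : ∀ s : nonZeroDivisors B, IsUnit (g₀ (s : B)) := fun s => by
    rw [← add_sub_cancel (algebraMap K (Trunc K (Fin r) n) (algebraMap B K s)) (g₀ (s : B))]
    have hp := Ideal.pow_mem_pow (hc s) (n + 1)
    rw [hJ, Ideal.mem_bot] at hp
    exact IsNilpotent.isUnit_add_left_of_commute ⟨n + 1, hp⟩ ((IsLocalization.map_units K s).map _) (Commute.all _ _)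
  let g : K →ₐ[k] Trunc K (Fin r) n := IsLocalization.liftAlgHom (S := K) hu
  have hg : ∀ b, g (algebraMap B K b) = g₀ b := fun b => IsLocalization.lift_eq _ _
  refine (coord_equiv (z := z) g (fun i => by rw [hg, aeval_X]) (fun x => ?_) (fun f₁ f₂ h => ?_)).2
  · rw [← Ideal.Quotient.eq]
    have h : (Ideal.Quotient.mk (m.map π)).comp g.toRingHom =
        (Ideal.Quotient.mk (m.map π)).comp (algebraMap K (Trunc K (Fin r) n)) :=
      IsLocalization.ringHom_ext (nonZeroDivisors B) (RingHom.ext fun b => by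
        show Ideal.Quotient.mk _ (g (algebraMap B K b)) = _
        rw [hg]
        exact Ideal.Quotient.eq.2 (hc b))
    exact RingHom.congr_fun h x
  · refine AlgHom.coe_ringHom_injective (IsLocalization.ringHom_ext (nonZeroDivisors B) ?_)
    exact congrArg AlgHom.toRingHom
      (MvPolynomial.algHom_ext (f := f₁.comp (IsScalarTower.toAlgHom k B K))
        (g := f₂.comp (IsScalarTower.toAlgHom k B K)) h)

end PP16Lib
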