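import Groth.Agent.PP16Lib.Criterion
import Groth.Agent.PP16Lib.Base
import Groth.Agent.AzumayaLib.Descent

/-!
# Differential smoothness: formally smooth algebras, characteristic zero, base change, descent
-/

set_option autoImplicit false

universe u v w

open scoped TensorProduct
open KaehlerDifferential (ideal)

namespace PP16Lib

theorem prod_sub_prod_mem_pow {R : Type*} [CommRing R] (J : Ideal R) {ι : Type*} (s : Finset ι) (x y : ι → R)
    (hx : ∀ i ∈ s, x i ∈ J) (hy : ∀ i ∈ s, y i ∈ J) (h : ∀ i ∈ s, x i - y i ∈ J ^ 2) :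
    ∏ i ∈ s, x i - ∏ i ∈ s, y i ∈ J ^ (s.card + 1) := by
  classical
  induction s using Finset.induction_on with
  | empty => simp
  | insert a s ha ih =>
    have hprod : ∏ i ∈ s, x i ∈ J ^ s.card := by
      have := Ideal.prod_mem_prod (I := fun _ : ι => J) (s := s) (x := x) fun i hi => hx i (by simp [hi])
      simpa using this
    rw [Finset.prod_insert ha, Finset.prod_insert ha, Finset.card_insert_of_notMem ha,
      show x a * ∏ i ∈ s, x i - y a * ∏ i ∈ s, y i =
        (x a - y a) * ∏ i ∈ s, x i + y a * (∏ i ∈ s, x i - ∏ i ∈ s, y i) by ring]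
    refine add_mem ?_ ?_
    · rw [show s.card + 1 + 1 = 2 + s.card by ring, pow_add]
      exact Ideal.mul_mem_mul (h a (by simp)) hprod
    · rw [pow_succ' _ (s.card + 1)]
      exact Ideal.mul_mem_mul (hy a (by simp))
        (ih (fun i hi => hx i (by simp [hi])) (fun i hi => hy i (by simp [hi])) fun i hi => h i (by simp [hi]))

section poly

variable {σ : Type v} {R : Type u} [CommRing R]

theorem homogeneousComponent_eq_zero_of_mem {n k : ℕ} (hnk : n < k) {p : MvPolynomial σ R}
    (hp : p ∈ MvPolynomial.idealOfVars σ R ^ k) : MvPolynomial.homogeneousComponent n p = 0 := by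
  classical
  ext d
  rw [MvPolynomial.coeff_homogeneousComponent, MvPolynomial.coeff_zero]
  split_ifs with hd
  · exact (MvPolynomial.mem_pow_idealOfVars_iff' k p).1 hp d (by omega)
  · rfl

theorem linForm_mem (c : σ →₀ R) : linForm R σ c ∈ MvPolynomial.idealOfVars σ R := by
  induction c using Finsupp.induction_linear with
  | zero => rw [map_zero]; exact zero_mem _
  | add f g hf hg => rw [map_add]; exact add_mem hf hg
  | single i r =>
    rw [linForm, Finsupp.linearCombination_single, MvPolynomial.smul_eq_C_mul]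
    exact Ideal.mul_mem_left _ _ (Ideal.subset_span ⟨i, rfl⟩)

end poly

section formallySmooth

variable {A B : Type u} [CommRing A] [CommRing B] [Algebra A B]

theorem exists_sq_section {σ : Type u} (j : KaehlerDifferential A B →ₗ[B] σ →₀ B) :
    ∃ g : B →ₐ[A] MvPolynomial σ B ⧸ MvPolynomial.idealOfVars σ B ^ 2,
      ∀ b, g b = Ideal.Quotient.mk _ (MvPolynomial.C b + linForm B σ (j (KaehlerDifferential.D A B b))) := by
  let T := MvPolynomial σ B ⧸ MvPolynomial.idealOfVars σ B ^ 2
  let L : KaehlerDifferential A B →ₗ[B] MvPolynomial σ B := (linForm B σ).comp j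
  let f : B →ₗ[A] T := (Ideal.Quotient.mkₐ A _).toLinearMap.comp
    ((IsScalarTower.toAlgHom A B (MvPolynomial σ B)).toLinearMap +
      (L.restrictScalars A).comp (KaehlerDifferential.D A B).toLinearMap)
  have hf : ∀ b, f b = Ideal.Quotient.mk _ (MvPolynomial.C b + L (KaehlerDifferential.D A B b)) := fun b => rfl
  refine ⟨AlgHom.ofLinearMap f ?_ ?_, hf⟩
  · rw [hf, Derivation.map_one_eq_zero, map_zero, add_zero, map_one, map_one]
  · intro a b
    rw [hf, hf, hf, Derivation.leibniz, map_add L, map_smul L, map_smul L, ← map_mul, Ideal.Quotient.eq,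
      MvPolynomial.smul_eq_C_mul, MvPolynomial.smul_eq_C_mul, map_mul,
      show MvPolynomial.C a * MvPolynomial.C b +
          (MvPolynomial.C a * L (KaehlerDifferential.D A B b) + MvPolynomial.C b * L (KaehlerDifferential.D A B a)) -
          (MvPolynomial.C a + L (KaehlerDifferential.D A B a)) * (MvPolynomial.C b + L (KaehlerDifferential.D A B b)) =
          -(L (KaehlerDifferential.D A B a) * L (KaehlerDifferential.D A B b)) by ring, pow_two]
    exact neg_mem (Ideal.mul_mem_mul (linForm_mem _) (linForm_mem _))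

theorem isDiffSmooth_of_formallySmooth [Algebra.FormallySmooth A B] : PP16.IsDiffSmooth A B := by
  obtain ⟨j, q, hq⟩ := exists_coords (R := B) (M := KaehlerDifferential A B)
  refine isDiffSmooth_of_realises j q hq (id : B → B) (KaehlerDifferential.span_range_derivation A B) fun m => ?_
  set σ := KaehlerDifferential A B
  set M := MvPolynomial.idealOfVars σ B with hM
  obtain ⟨g₁, hg₁⟩ := exists_sq_section (A := A) j
  let π : MvPolynomial σ B ⧸ M ^ (m + 2) →ₐ[A] MvPolynomial σ B ⧸ M ^ 2 :=
    Ideal.Quotient.factorₐ A (Ideal.pow_le_pow_right (by omega))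
  have hπ : Function.Surjective π := fun x => by
    obtain ⟨x, rfl⟩ := Ideal.Quotient.mk_surjective x
    exact ⟨Ideal.Quotient.mk _ x, rfl⟩
  have hnil : IsNilpotent (RingHom.ker π) := by
    refine ⟨m + 2, ?_⟩
    have hle : RingHom.ker π ≤ M.map (Ideal.Quotient.mk (M ^ (m + 2))) := fun z hz => by
      obtain ⟨z, rfl⟩ := Ideal.Quotient.mk_surjective z
      have : z ∈ M ^ 2 := Ideal.Quotient.eq_zero_iff_mem.1 (RingHom.mem_ker.1 hz)
      exact Ideal.mem_map_of_mem _ (Ideal.pow_le_self two_ne_zero this)
    refine le_bot_iff.1 ((Ideal.pow_right_mono hle _).trans ?_)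
    rw [← Ideal.map_pow, Ideal.map_quotient_self]
  let g := Algebra.FormallySmooth.liftOfSurjective g₁ π hπ hnil
  have hg : ∀ b, π (g b) = g₁ b := fun b =>
    Algebra.FormallySmooth.liftOfSurjective_apply g₁ π hπ hnil b
  choose G hG using fun b => Ideal.Quotient.mk_surjective (g b)
  have hGb : ∀ b, G b - MvPolynomial.C b - linForm B σ (j (KaehlerDifferential.D A B b)) ∈ M ^ 2 := fun b => by
    rw [← Ideal.Quotient.eq_zero_iff_mem, map_sub, map_sub,
      show Ideal.Quotient.mk (M ^ 2) (G b) = π (Ideal.Quotient.mk _ (G b)) from rfl, hG, hg, hg₁, map_add]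
    abel
  have hGM : ∀ b, G b - MvPolynomial.C b ∈ M := fun b => by
    have := add_mem (Ideal.pow_le_self two_ne_zero (hGb b)) (linForm_mem (j (KaehlerDifferential.D A B b)))
    rwa [sub_add_cancel] at this
  let χ : B ⊗[A] B →ₐ[B] MvPolynomial σ B ⧸ M ^ (m + 2) :=
    Algebra.TensorProduct.lift (Algebra.ofId B _) g fun _ _ => Commute.all _ _
  have hχ : ∀ b, χ (zeta A b) = Ideal.Quotient.mk _ (G b - MvPolynomial.C b) := fun b => by
    rw [zeta, map_sub, Algebra.TensorProduct.lift_tmul, Algebra.TensorProduct.lift_tmul, map_one, map_one,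
      one_mul, mul_one, map_sub, hG]
    rfl
  let comp : MvPolynomial σ B ⧸ M ^ (m + 2) →ₗ[B] MvPolynomial σ B :=
    Submodule.liftQ ((M ^ (m + 2)).restrictScalars B) (MvPolynomial.homogeneousComponent m)
      (fun p hp => homogeneousComponent_eq_zero_of_mem (by omega) hp)
      ∘ₗ (Submodule.Quotient.restrictScalarsEquiv B (M ^ (m + 2))).symm.toLinearMap
  have hcomp : ∀ p, comp (Ideal.Quotient.mk _ p) = MvPolynomial.homogeneousComponent m p := fun p => rfl
  refine ⟨comp.comp χ.toLinearMap, fun z hz => ?_, fun b => ?_⟩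
  · have hI : (ideal A B).map χ ≤ M.map (Ideal.Quotient.mk (M ^ (m + 2))) := by
      rw [← KaehlerDifferential.span_range_eq_ideal, Ideal.map_span, Ideal.span_le]
      rintro _ ⟨_, ⟨b, rfl⟩, rfl⟩
      rw [SetLike.mem_coe]
      exact (hχ b).symm ▸ Ideal.mem_map_of_mem _ (hGM b)
    have h := Ideal.mem_map_of_mem χ hz
    rw [Ideal.map_pow] at h
    have h2 := Ideal.pow_right_mono hI (m + 1) h
    rw [← Ideal.map_pow] at h2
    obtain ⟨p, hp, hpz⟩ := (Ideal.mem_map_iff_of_surjective _ Ideal.Quotient.mk_surjective).1 h2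
    show comp (χ z) = 0
    rw [← hpz, hcomp]
    exact homogeneousComponent_eq_zero_of_mem (Nat.lt_succ_self m) hp
  · show comp (χ (∏ i, zeta A (b i))) = ∏ i, linForm B σ (j (KaehlerDifferential.D A B (b i)))
    rw [map_prod, Finset.prod_congr rfl fun i _ => hχ (b i), ← map_prod, hcomp]
    have h := prod_sub_prod_mem_pow M Finset.univ (fun i => G (b i) - MvPolynomial.C (b i))
      (fun i => linForm B σ (j (KaehlerDifferential.D A B (b i)))) (fun i _ => hGM _) (fun i _ => linForm_mem _)
      fun i _ => hGb _
    rw [Finset.card_univ, Fintype.card_fin] at h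
    have h0 := homogeneousComponent_eq_zero_of_mem (Nat.lt_succ_self m) h
    rw [map_sub, sub_eq_zero] at h0
    rw [h0, MvPolynomial.homogeneousComponent_eq_self]
    simpa using MvPolynomial.IsHomogeneous.prod Finset.univ
      (fun i => linForm B σ (j (KaehlerDifferential.D A B (b i)))) (fun _ => 1) fun i _ => isHomogeneous_linForm _

end formallySmooth

section indep

variable {A B : Type u} [CommRing A] [CommRing B] [Algebra A B]

theorem isDiffSmooth_of_indep {σ : Type v} (e : Module.Basis σ B (KaehlerDifferential A B))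
    (z : σ → ideal A B) (hz : ∀ l, KaehlerDifferential.fromIdeal A B (z l) = e l)
    (h : ∀ (m : ℕ) (F : MvPolynomial σ B), F.IsHomogeneous m →
      MvPolynomial.aeval (fun l => (z l : B ⊗[A] B)) F ∈ ideal A B ^ (m + 1) → F = 0) :
    PP16.IsDiffSmooth A B := by
  refine isDiffSmooth_iff_injective.2 ⟨Module.Projective.of_basis e, fun ι _ => ?_⟩
  let ev : MvPolynomial σ B →ₐ[B] B ⊗[A] B := MvPolynomial.aeval fun l => (z l : B ⊗[A] B)
  have key : ∀ s : SymmetricPower B ι (KaehlerDifferential A B),
      ∃ hx, canMap A B ι s = gmk _ (ev (polyMap e.repr.toLinearMap s)) hx := by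
    intro s
    have hs := span_tprod_of_span (ι := ι) (fun l => e l) e.span_eq
    have hmem : s ∈ Submodule.span B (Set.range fun a : ι → σ => SymmetricPower.tprod B fun i => e (a i)) :=
      hs ▸ Submodule.mem_top
    induction hmem using Submodule.span_induction with
    | mem x hx =>
      obtain ⟨a, rfl⟩ := hx
      have he : ev (polyMap e.repr.toLinearMap (SymmetricPower.tprod B fun i => e (a i))) =
          ∏ i, (z (a i) : B ⊗[A] B) := by
        rw [polyMap_tprod, map_prod]
        refine Finset.prod_congr rfl fun i _ => ?_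
        rw [LinearEquiv.coe_coe, Module.Basis.repr_self, linForm_single, MvPolynomial.aeval_X]
      have hmem' : ev (polyMap e.repr.toLinearMap (SymmetricPower.tprod B fun i => e (a i))) ∈
          ideal A B ^ Fintype.card ι := by
        rw [he]; exact prod_mem_ideal_pow Finset.univ _ fun i _ => (z (a i)).2
      refine ⟨hmem', ?_⟩
      rw [canMap_tprod]
      conv_lhs => rw [show (fun i => e (a i)) = fun i => KaehlerDifferential.fromIdeal A B (z (a i)) from
        funext fun i => (hz (a i)).symm, prodMap_fromIdeal]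
      exact (gmk_eq_gmk _ _).2 (by beta_reduce; rw [he, sub_self]; exact zero_mem _)
    | zero => exact ⟨by simp, by rw [map_zero]; exact ((gmk_eq_zero _).2 (by simp)).symm⟩
    | add x y _ _ ihx ihy =>
      obtain ⟨hx, hx'⟩ := ihx
      obtain ⟨hy, hy'⟩ := ihy
      refine ⟨by rw [map_add, map_add]; exact add_mem hx hy, ?_⟩
      rw [map_add, hx', hy', gmk_add, gmk_eq_gmk, map_add, map_add, sub_self]
      exact zero_mem _
    | smul c x _ ihx =>
      obtain ⟨hx, hx'⟩ := ihx
      refine ⟨by rw [map_smul, map_smul, Algebra.smul_def]; exact Ideal.mul_mem_left _ _ hx, ?_⟩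
      rw [map_smul, hx', smul_gmk, gmk_eq_gmk, map_smul, map_smul, Algebra.smul_def,
        Algebra.TensorProduct.algebraMap_apply, Algebra.algebraMap_self, RingHom.id_apply, sub_self]
      exact zero_mem _
  rw [injective_iff_map_eq_zero]
  intro s hs
  obtain ⟨hx, hx'⟩ := key s
  have h0 := h _ _ (isHomogeneous_polyMap e.repr.toLinearMap s) ((gmk_eq_zero hx).1 (hx' ▸ hs))
  apply polyMap_injective e.repr.toLinearMap e.repr.symm.toLinearMap (fun x => e.repr.symm_apply_apply x)
  rw [h0, map_zero]

theorem isDiffSmooth_of_charZero [Algebra ℚ B] (hΩ : Module.Free B (KaehlerDifferential A B)) :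
    PP16.IsDiffSmooth A B := by
  classical
  let σ := Module.Free.ChooseBasisIndex B (KaehlerDifferential A B)
  let e : Module.Basis σ B (KaehlerDifferential A B) := Module.Free.chooseBasis B _
  refine isDiffSmooth_of_indep e (fun l => liftI (e l)) (fun l => fromIdeal_liftI _) ?_
  set z : σ → B ⊗[A] B := fun l => (liftI (e l) : B ⊗[A] B) with hzdef
  let I := ideal A B
  let del : σ → Derivation B (B ⊗[A] B) (B ⊗[A] B) := fun j =>
    Derivation.mk' ((((e.coord j).restrictScalars A).comp (KaehlerDifferential.D A B).toLinearMap).baseChange B)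
      fun a b => by
        induction a with
        | zero => simp
        | add x y hx hy => simp only [add_mul, map_add, hx, hy, add_smul, smul_add]; abel
        | tmul x y =>
          induction b with
          | zero => simp
          | add s t hs ht => simp only [mul_add, map_add, hs, ht, add_smul, smul_add]; abel
          | tmul s t =>
            simp only [Algebra.TensorProduct.tmul_mul_tmul, LinearMap.baseChange_tmul, smul_eq_mul,
              LinearMap.comp_apply, LinearMap.coe_restrictScalars, Derivation.coeFn_coe, Derivation.leibniz,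
              map_add, map_smul, TensorProduct.tmul_add]
            rw [mul_comm s x]
  have hdel : ∀ (j : σ) (w : B ⊗[A] B) (hw : w ∈ I),
      del j w - (e.coord j (KaehlerDifferential.fromIdeal A B ⟨w, hw⟩)) ⊗ₜ[A] (1 : B) ∈ I := by
    intro j w hw
    have hmu : ∀ w : B ⊗[A] B, Algebra.TensorProduct.lmul' A (del j w) =
        e.coord j ((KaehlerDifferential.D A B).tensorProductTo w) := fun w => by
      induction w with
      | zero => simp
      | add x y hx hy => simp only [map_add, hx, hy]
      | tmul x y =>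
        show Algebra.TensorProduct.lmul' A (x ⊗ₜ[A] e.coord j (KaehlerDifferential.D A B y)) = _
        rw [Algebra.TensorProduct.lmul'_apply_tmul, Derivation.tensorProductTo_tmul, map_smul, smul_eq_mul]
    have h : (KaehlerDifferential.D A B).tensorProductTo w = KaehlerDifferential.fromIdeal A B ⟨w, hw⟩ :=
      KaehlerDifferential.D_tensorProductTo ⟨w, hw⟩
    show _ ∈ RingHom.ker (Algebra.TensorProduct.lmul' A : B ⊗[A] B →ₐ[A] B)
    rw [RingHom.mem_ker, map_sub, hmu, h, Algebra.TensorProduct.lmul'_apply_tmul, mul_one, sub_self]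
  let ev : MvPolynomial σ B →ₐ[B] B ⊗[A] B := MvPolynomial.aeval z
  let E : σ → MvPolynomial σ B → B ⊗[A] B := fun j F => del j (ev F) - ev (MvPolynomial.pderiv j F)
  have hEmul : ∀ j F G, E j (F * G) = ev F * E j G + ev G * E j F := fun j F G => by
    simp only [E, map_mul, Derivation.leibniz, map_add, smul_eq_mul]
    ring
  have hEadd : ∀ j F G, E j (F + G) = E j F + E j G := fun j F G => by
    simp only [E, map_add]; ring
  have hEX : ∀ j l, E j (MvPolynomial.X l) ∈ I := fun j l => by
    have h := hdel j (z l) (liftI (e l)).2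
    rw [fromIdeal_liftI, Module.Basis.coord_apply, Module.Basis.repr_self] at h
    simp only [E, ev, MvPolynomial.aeval_X]
    by_cases hjl : l = j
    · subst hjl
      rw [MvPolynomial.pderiv_X_self, map_one]
      rwa [Finsupp.single_eq_same] at h
    · rw [MvPolynomial.pderiv_X_of_ne hjl, map_zero, sub_zero]
      rwa [Finsupp.single_eq_of_ne (Ne.symm hjl), TensorProduct.zero_tmul, sub_zero] at h
  have hE : ∀ j F, E j F ∈ I := fun j F => by
    induction F using MvPolynomial.induction_on with
    | C c =>
      have : E j (MvPolynomial.C c) = 0 := by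
        simp only [E, ev, MvPolynomial.aeval_C, MvPolynomial.pderiv_C, map_zero, sub_zero, Derivation.map_algebraMap]
      rw [this]; exact zero_mem _
    | add p q hp hq => rw [hEadd]; exact add_mem hp hq
    | mul_X p l hp => rw [hEmul]; exact add_mem (Ideal.mul_mem_left _ _ (hEX j l)) (Ideal.mul_mem_left _ _ hp)
  have hevM : (MvPolynomial.idealOfVars σ B).map ev ≤ I := by
    rw [Ideal.map_span, Ideal.span_le]
    rintro _ ⟨_, ⟨l, rfl⟩, rfl⟩
    simp only [ev, MvPolynomial.aeval_X, SetLike.mem_coe]
    exact (liftI (e l)).2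
  have hev : ∀ k, ∀ F ∈ MvPolynomial.idealOfVars σ B ^ k, ev F ∈ I ^ k := fun k F hF => by
    have := Ideal.mem_map_of_mem ev hF
    rw [Ideal.map_pow] at this
    exact Ideal.pow_right_mono hevM k this
  have hEk : ∀ j k, ∀ F ∈ MvPolynomial.idealOfVars σ B ^ k, E j F ∈ I ^ k := by
    intro j k
    induction k with
    | zero => intro F _; rw [pow_zero, Ideal.one_eq_top]; exact Submodule.mem_top
    | succ k ih =>
      intro F hF
      rw [pow_succ'] at hF
      refine Submodule.mul_induction_on hF (fun a ha b hb => ?_) fun x y hx hy => ?_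
      · rw [hEmul, pow_succ']
        refine add_mem (Ideal.mul_mem_mul ?_ (ih b hb)) ?_
        · exact hevM (Ideal.mem_map_of_mem ev ha)
        · rw [mul_comm (ev b)]
          exact Ideal.mul_mem_mul (hE j a) (hev k b hb)
      · rw [hEadd]; exact add_mem hx hy
  intro m
  induction m with
  | zero =>
    intro F hF hFI
    rw [MvPolynomial.totalDegree_eq_zero_iff_eq_C.1 (Nat.le_zero.1 hF.totalDegree_le)] at hFI ⊢
    rw [zero_add, pow_one, MvPolynomial.aeval_C] at hFI
    have := RingHom.mem_ker.1 hFI
    rw [Algebra.TensorProduct.algebraMap_apply, Algebra.algebraMap_self, RingHom.id_apply,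
      Algebra.TensorProduct.lmul'_apply_tmul, mul_one] at this
    rw [this, map_zero]
  | succ m ih =>
    intro F hF hFI
    have hFM : F ∈ MvPolynomial.idealOfVars σ B ^ (m + 1) := by
      rw [MvPolynomial.mem_pow_idealOfVars_iff]
      intro d hd
      exact le_of_eq (hF.degree_eq_sum_deg_support hd)
    have hder : ∀ j, MvPolynomial.pderiv j F = 0 := fun j => by
      refine ih _ hF.pderiv ?_
      have h1 : del j (ev F) ∈ I ^ (m + 1) := by
        have hd : ∀ k, ∀ w ∈ I ^ (k + 1), del j w ∈ I ^ k := by
          intro k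
          induction k with
          | zero => intro w _; rw [pow_zero, Ideal.one_eq_top]; exact Submodule.mem_top
          | succ k ihk =>
            intro w hw
            rw [pow_succ'] at hw
            refine Submodule.mul_induction_on hw (fun a ha b hb => ?_) fun x y hx hy => ?_
            · rw [Derivation.leibniz, smul_eq_mul, smul_eq_mul]
              refine add_mem ?_ (Ideal.mul_mem_right _ _ hb)
              rw [pow_succ']
              exact Ideal.mul_mem_mul ha (ihk b hb)
            · rw [map_add]; exact add_mem hx hy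
        exact hd _ _ hFI
      have := sub_mem h1 (hEk j (m + 1) F hFM)
      simpa only [E, sub_sub_cancel] using this
    ext d
    by_cases hd : MvPolynomial.coeff d F = 0
    · simp [hd]
    obtain ⟨j, hj⟩ : ∃ j, d j ≠ 0 := by
      by_contra hcon
      push Not at hcon
      have h0 : d = 0 := Finsupp.ext fun j => hcon j
      have := hF hd
      simp [h0] at this
    have hc := congrArg (MvPolynomial.coeff (d - Finsupp.single j 1)) (hder j)
    rw [MvPolynomial.coeff_pderiv, MvPolynomial.coeff_zero] at hc
    have hle : Finsupp.single j 1 ≤ d := by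
      rw [Finsupp.single_le_iff]; omega
    rw [tsub_add_cancel_of_le hle] at hc
    have hdj : (d - Finsupp.single j 1 : σ →₀ ℕ) j + 1 = d j := by
      simp only [Finsupp.tsub_apply, Finsupp.single_eq_same]; omega
    replace hc : MvPolynomial.coeff d F * ((d j : ℕ) : B) = 0 := by rw [← hdj]; push_cast; exact hc
    have hu : IsUnit ((d j : ℕ) : B) := by
      have : IsUnit ((d j : ℕ) : ℚ) := isUnit_iff_ne_zero.2 (by exact_mod_cast hj)
      simpa using this.map (algebraMap ℚ B)
    exact absurd ((hu.mul_left_eq_zero).1 hc) hd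

end indep

section baseChange

variable {A B A' B' : Type u} [CommRing A] [CommRing B] [Algebra A B] [CommRing A'] [CommRing B']
  [Algebra A' B'] [Algebra A A'] [Algebra B B'] [Algebra A B'] [IsScalarTower A A' B'] [IsScalarTower A B B']
  [Algebra.IsPushout A B A' B']

theorem exists_omega_equiv :
    ∃ e : B' ⊗[B] KaehlerDifferential A B ≃ₗ[B'] KaehlerDifferential A' B',
      ∀ x a, e (x ⊗ₜ KaehlerDifferential.D A B a) = x • KaehlerDifferential.D A' B' (algebraMap B B' a) := by
  have : Algebra.IsPushout A A' B B' := .symm inferInstance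
  exact ⟨KaehlerDifferential.tensorKaehlerEquiv A A' B B', fun x a =>
    KaehlerDifferential.tensorKaehlerEquiv_tmul_D A A' B B' x a⟩

theorem exists_baseChange_coords {σ : Type v} (j : KaehlerDifferential A B →ₗ[B] σ →₀ B)
    (q : (σ →₀ B) →ₗ[B] KaehlerDifferential A B) (hq : ∀ x, q (j x) = x) :
    ∃ (j' : KaehlerDifferential A' B' →ₗ[B'] σ →₀ B') (q' : (σ →₀ B') →ₗ[B'] KaehlerDifferential A' B'),
      (∀ x, q' (j' x) = x) ∧ ∀ b, j' (KaehlerDifferential.D A' B' (algebraMap B B' b)) =
        Finsupp.mapRange.linearMap (Algebra.linearMap B B') (j (KaehlerDifferential.D A B b)) := by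
  obtain ⟨e, he⟩ := exists_omega_equiv (A := A) (B := B) (A' := A') (B' := B')
  let jb : B' ⊗[B] KaehlerDifferential A B →ₗ[B'] σ →₀ B' :=
    LinearMap.liftBaseChange B' ((Finsupp.mapRange.linearMap (Algebra.linearMap B B')).comp j)
  let qb : (σ →₀ B') →ₗ[B'] KaehlerDifferential A' B' :=
    Finsupp.linearCombination B' fun l => e (1 ⊗ₜ q (Finsupp.single l 1))
  have hqb : ∀ c : σ →₀ B, qb (Finsupp.mapRange.linearMap (Algebra.linearMap B B') c) = e (1 ⊗ₜ q c) := fun c => by
    induction c using Finsupp.induction_linear with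
    | zero => simp
    | add f g hf hg => simp only [map_add, hf, hg, TensorProduct.tmul_add]
    | single l r =>
      rw [Finsupp.mapRange.linearMap_apply, Finsupp.mapRange_single, Algebra.linearMap_apply,
        Finsupp.linearCombination_single, ← LinearEquiv.map_smul, TensorProduct.smul_tmul', smul_eq_mul, mul_one,
        Algebra.algebraMap_eq_smul_one, TensorProduct.smul_tmul, ← map_smul, Finsupp.smul_single, smul_eq_mul,
        mul_one]
  refine ⟨jb.comp e.symm.toLinearMap, qb, fun x => ?_, fun b => ?_⟩
  · obtain ⟨w, rfl⟩ := e.surjective x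
    rw [LinearMap.comp_apply, LinearEquiv.coe_coe, LinearEquiv.symm_apply_apply]
    induction w with
    | zero => simp
    | add s t hs ht => simp only [map_add, hs, ht]
    | tmul c y =>
      simp only [jb, LinearMap.liftBaseChange_tmul]
      rw [map_smul, LinearMap.comp_apply, hqb, hq, ← LinearEquiv.map_smul, TensorProduct.smul_tmul', smul_eq_mul,
        mul_one]
  · have h1 : e.symm (KaehlerDifferential.D A' B' (algebraMap B B' b)) = 1 ⊗ₜ KaehlerDifferential.D A B b := by
      rw [LinearEquiv.symm_apply_eq, he, one_smul]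
    rw [LinearMap.comp_apply, LinearEquiv.coe_coe, h1]
    simp only [jb, LinearMap.liftBaseChange_tmul, one_smul]
    rfl

omit [Algebra.IsPushout A B A' B'] in
theorem map_linForm {σ : Type v} (c : σ →₀ B) :
    linForm B' σ (Finsupp.mapRange.linearMap (Algebra.linearMap B B') c) =
      MvPolynomial.map (algebraMap B B') (linForm B σ c) := by
  induction c using Finsupp.induction_linear with
  | zero => simp
  | add f g hf hg => simp only [map_add, hf, hg]
  | single l r =>
    rw [Finsupp.mapRange.linearMap_apply, Finsupp.mapRange_single, Algebra.linearMap_apply, linForm, linForm,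
      Finsupp.linearCombination_single, Finsupp.linearCombination_single, MvPolynomial.smul_eq_C_mul,
      MvPolynomial.smul_eq_C_mul, map_mul, MvPolynomial.map_C, MvPolynomial.map_X]

omit [Algebra.IsPushout A B A' B'] in
theorem tensorMap_zeta (b : B) :
    PP16.tensorMap A B A' B' (zeta A b) = zeta A' (algebraMap B B' b) := tensorMap_one_sub b

attribute [local instance] PP16.mapAlgebra PP16.isScalarTower_mapAlgebra

theorem isDiffSmooth_baseChange (h : PP16.IsDiffSmooth A B) : PP16.IsDiffSmooth A' B' := by
  obtain ⟨hp, -⟩ := id h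
  obtain ⟨j, q, hq⟩ := exists_coords (R := B) (M := KaehlerDifferential A B)
  obtain ⟨j', q', hq', hj'⟩ := exists_baseChange_coords (A' := A') (B' := B') j q hq
  have : Module.Projective B' (KaehlerDifferential A' B') :=
    Module.Projective.of_split j' q' (LinearMap.ext hq')
  refine isDiffSmooth_of_realises j' q' hq' (fun b : B => algebraMap B B' b) ?_ fun m => ?_
  · obtain ⟨e, he⟩ := exists_omega_equiv (A := A) (B := B) (A' := A') (B' := B')
    rw [eq_top_iff]
    rintro x -
    obtain ⟨w, rfl⟩ := e.surjective x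
    induction w with
    | zero => rw [map_zero]; exact zero_mem _
    | add s t hs ht => rw [map_add]; exact add_mem hs ht
    | tmul c y =>
      have hy : y ∈ Submodule.span B (Set.range (KaehlerDifferential.D A B)) :=
        KaehlerDifferential.span_range_derivation A B ▸ Submodule.mem_top
      induction hy using Submodule.span_induction generalizing c with
      | mem y hy =>
        obtain ⟨a, rfl⟩ := hy
        rw [he]
        exact Submodule.smul_mem _ _ (Submodule.subset_span ⟨a, rfl⟩)
      | zero => rw [TensorProduct.tmul_zero, map_zero]; exact zero_mem _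
      | add y z _ _ hy hz => rw [TensorProduct.tmul_add, map_add]; exact add_mem (hy c) (hz c)
      | smul r y _ hy => rw [← TensorProduct.smul_tmul]; exact hy _
  obtain ⟨ℓ, hℓ0, hℓ⟩ := exists_realises h j m
  have hbc : IsBaseChange B' (IsScalarTower.toAlgHom B (PP16.P m A B) (PP16.P m A' B')).toLinearMap :=
    (isPushout (n := m) (A := A) (B := B) (A' := A') (B' := B')).symm.out
  let ℓP : PP16.P m A B →ₗ[B] MvPolynomial (KaehlerDifferential A B) B :=
    Submodule.liftQ ((ideal A B ^ (m + 1)).restrictScalars B) ℓ (fun z hz => hℓ0 z hz)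
      ∘ₗ (Submodule.Quotient.restrictScalarsEquiv B (ideal A B ^ (m + 1))).symm.toLinearMap
  let g : PP16.P m A B →ₗ[B] MvPolynomial (KaehlerDifferential A B) B' :=
    (MvPolynomial.mapAlgHom (Algebra.ofId B B')).toLinearMap.comp ℓP
  refine ⟨(hbc.lift g).comp (Ideal.Quotient.mkₐ B' (ideal A' B' ^ (m + 1))).toLinearMap, fun z hz => ?_,
    fun b => ?_⟩
  · show hbc.lift g (Ideal.Quotient.mk _ z) = 0
    rw [Ideal.Quotient.eq_zero_iff_mem.2 hz, map_zero]
  · show hbc.lift g (Ideal.Quotient.mk _ (∏ i, zeta A' (algebraMap B B' (b i)))) = _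
    simp only [← tensorMap_zeta (A := A) (A' := A')]
    have hmap : ∀ y, PP16.map m A B A' B' y =
      (IsScalarTower.toAlgHom B (PP16.P m A B) (PP16.P m A' B')).toLinearMap y := fun y => rfl
    rw [← map_prod, ← PP16.map_mk m A B A' B', hmap, hbc.lift_eq]
    show MvPolynomial.map (algebraMap B B') (ℓ (∏ i, zeta A (b i))) = _
    simp only [id_eq] at hℓ
    rw [hℓ b, map_prod]
    refine Finset.prod_congr rfl fun i _ => ?_
    rw [hj', map_linForm]

theorem isDiffSmooth_of_faithfullyFlat [Module.FaithfullyFlat A A'] (h : PP16.IsDiffSmooth A' B')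
    (hfin : Module.Finite B' (KaehlerDifferential A' B')) :
    PP16.IsDiffSmooth A B ∧ Module.Finite B (KaehlerDifferential A B) := by
  obtain ⟨hp', hinj'⟩ := isDiffSmooth_iff_injective.1 h
  have : Algebra.IsPushout A A' B B' := .symm inferInstance
  have hff : Module.FaithfullyFlat B B' := Module.FaithfullyFlat.of_linearEquiv B (B ⊗[A] A')
    (Algebra.IsPushout.equiv A B A' B').toLinearEquiv.symm
  obtain ⟨e, he⟩ := exists_omega_equiv (A := A) (B := B) (A' := A') (B' := B')
  have : Module.Finite B' (B' ⊗[B] KaehlerDifferential A B) := Module.Finite.equiv e.symm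
  have : Module.Projective B' (B' ⊗[B] KaehlerDifferential A B) := Module.Projective.of_equiv e.symm
  obtain ⟨hf, hpr⟩ := AzumayaLib.finite_projective_of_faithfullyFlat (R := B) B' (KaehlerDifferential A B)
  obtain ⟨j, q, hq⟩ := exists_coords (R := B) (M := KaehlerDifferential A B)
  obtain ⟨j', q', hq', hj'⟩ := exists_baseChange_coords (A' := A') (B' := B') j q hq
  refine ⟨isDiffSmooth_iff_injective.2 ⟨hpr, fun ι _ => ?_⟩, hf⟩
  obtain ⟨ℓ, hℓ0, hℓ⟩ := exists_realises h j' (Fintype.card ι)
  have key : ∀ (s : SymmetricPower B ι (KaehlerDifferential A B)) (x : B ⊗[A] B) (hx),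
      canMap A B ι s = gmk _ x hx →
        ℓ (PP16.tensorMap A B A' B' x) = MvPolynomial.map (algebraMap B B') (polyMap j s) := by
    intro s
    have hs : s ∈ Submodule.span B (Set.range fun a : ι → B =>
        SymmetricPower.tprod B fun i => KaehlerDifferential.D A B (a i)) :=
      span_tprod_of_span (ι := ι) _ (KaehlerDifferential.span_range_derivation A B) ▸ Submodule.mem_top
    have hkill : ∀ w ∈ ideal A B ^ (Fintype.card ι + 1), ℓ (PP16.tensorMap A B A' B' w) = 0 := fun w hw => by
      refine hℓ0 _ (Ideal.pow_right_mono (PP16.ideal_map_tensorMap_le A B A' B') _ ?_)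
      rw [← Ideal.map_pow]
      exact Ideal.mem_map_of_mem _ hw
    have hcongr : ∀ (x y : B ⊗[A] B) (hx : x ∈ ideal A B ^ Fintype.card ι) (hy : y ∈ ideal A B ^ Fintype.card ι),
        gmk _ x hx = gmk _ y hy → ℓ (PP16.tensorMap A B A' B' x) = ℓ (PP16.tensorMap A B A' B' y) :=
      fun x y hx hy hxy => by
        rw [← sub_eq_zero, ← map_sub, ← map_sub]
        exact hkill _ ((gmk_eq_gmk hx hy).1 hxy)
    induction hs using Submodule.span_induction with
    | mem s hs =>
      obtain ⟨a, rfl⟩ := hs
      intro x hx hsx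
      rw [canMap_tprod_D] at hsx
      rw [← hcongr _ _ (prod_mem_ideal_pow Finset.univ (fun i => zeta A (a i)) fun i _ => zeta_mem _) hx hsx,
        map_prod (PP16.tensorMap A B A' B'), polyMap_tprod, map_prod (MvPolynomial.map (algebraMap B B'))]
      simp only [tensorMap_zeta, id_eq] at hℓ ⊢
      let eι := (Fintype.equivFin ι).symm
      rw [← Equiv.prod_comp eι, hℓ (fun k => algebraMap B B' (a (eι k))),
        ← Equiv.prod_comp eι (fun i => MvPolynomial.map (algebraMap B B') (linForm B _ (j (KaehlerDifferential.D A B (a i)))))]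
      exact Finset.prod_congr rfl fun k _ => by rw [hj', map_linForm]
    | zero =>
      intro x hx h0
      rw [map_zero] at h0
      rw [map_zero, map_zero]
      exact hkill _ ((gmk_eq_zero hx).1 h0.symm)
    | add s t _ _ ihs iht =>
      intro x hx hst
      obtain ⟨y, hy, hy'⟩ := gmk_surjective (canMap A B ι s)
      obtain ⟨z, hz, hz'⟩ := gmk_surjective (canMap A B ι t)
      rw [map_add, ← hy', ← hz', gmk_add] at hst
      rw [hcongr _ _ hx (add_mem hy hz) hst.symm, map_add, map_add, ihs y hy hy'.symm, iht z hz hz'.symm, map_add,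
        map_add]
    | smul c s _ ihs =>
      intro x hx hst
      obtain ⟨y, hy, hy'⟩ := gmk_surjective (canMap A B ι s)
      rw [map_smul, ← hy', smul_gmk] at hst
      rw [hcongr _ _ hx (Ideal.mul_mem_left _ _ hy) hst.symm, map_mul, PP16.tensorMap_tmul, map_one,
        show algebraMap B B' c ⊗ₜ[A'] (1 : B') = algebraMap B' (B' ⊗[A'] B') (algebraMap B B' c) from rfl,
        ← Algebra.smul_def, map_smul, ihs y hy hy'.symm, map_smul, MvPolynomial.smul_eq_C_mul,
        MvPolynomial.smul_eq_C_mul, map_mul, MvPolynomial.map_C]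
  rw [injective_iff_map_eq_zero]
  intro s hs
  have h0 := key s 0 (zero_mem _) (hs.trans ((gmk_eq_zero (zero_mem _)).2 (zero_mem _)).symm)
  rw [map_zero, map_zero] at h0
  apply polyMap_injective j q hq
  rw [map_zero]
  exact MvPolynomial.map_injective _ (FaithfulSMul.algebraMap_injective B B') (h0.symm.trans (map_zero _).symm)

end baseChange

end PP16Lib
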