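import Groth.Agent.PP16Lib.Criterion
import Groth.Agent.PP16Lib.QR

/-!
# Differential smoothness and quasi-regularity of the diagonal
-/

set_option autoImplicit false

universe u v w

open scoped TensorProduct
open KaehlerDifferential (ideal)

namespace PP16Lib

theorem projective_of_local_bases {R : Type u} [CommRing R] {M : Type v} [AddCommGroup M] [Module R M]
    [Module.Finite R M]
    (h : ∀ (q : Ideal R) [q.IsPrime], ∃ b, b ∉ q ∧ ∃ (r : ℕ) (w : Fin r → M),
      (∀ x : M, ∃ k : ℕ, b ^ k • x ∈ Submodule.span R (Set.range w)) ∧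
        ∀ a : Fin r → R, ∑ i, a i • w i = 0 → ∀ i, ∃ k : ℕ, b ^ k * a i = 0) :
    Module.Projective R M := by
  classical
  obtain ⟨N, π, hπ⟩ := Module.Finite.exists_fin' R M
  let S : Set R := {b | ∃ (A : ℕ) (T : (Fin N → R) →ₗ[R] Fin N → R),
    (∀ x, π (T x) = b ^ A • π x) ∧ ∀ x, π x = 0 → ∃ k : ℕ, b ^ k • T x = 0}
  have hS : Ideal.span S = ⊤ := by
    by_contra hne
    obtain ⟨q, hq, hle⟩ := Ideal.exists_le_maximal _ hne
    obtain ⟨b, hb, r, w, hgen, hfree⟩ := h q
    refine hb (hle (Ideal.subset_span ?_))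
    choose k hk using fun j : Fin N => hgen (π (Pi.single j 1))
    let A := ∑ j, k j
    have hA : ∀ j, b ^ A • π (Pi.single j 1) ∈ Submodule.span R (Set.range w) := fun j => by
      obtain ⟨t, ht⟩ : ∃ t, A = k j + t :=
        Nat.exists_eq_add_of_le (Finset.single_le_sum (fun i _ => Nat.zero_le (k i)) (Finset.mem_univ j))
      rw [ht, Nat.add_comm, pow_add, mul_smul]
      exact Submodule.smul_mem _ _ (hk j)
    choose c hc using fun j => (Submodule.mem_span_range_iff_exists_fun R).1 (hA j)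
    choose v hv using fun l : Fin r => hπ (w l)
    let co : (Fin N → R) →ₗ[R] (Fin r → R) := (Pi.basisFun R (Fin N)).constr R c
    let T : (Fin N → R) →ₗ[R] Fin N → R := (Fintype.linearCombination R v).comp co
    have hT : ∀ x, π (T x) = ∑ l, co x l • w l := fun x => by
      simp [T, Fintype.linearCombination_apply, hv]
    have hTb : ∀ x, π (T x) = b ^ A • π x := fun x => by
      have hcomp : π.comp T = b ^ A • π := (Pi.basisFun R (Fin N)).ext fun j => by
        rw [LinearMap.comp_apply, hT, LinearMap.smul_apply]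
        simp only [co, Module.Basis.constr_basis]
        rw [Pi.basisFun_apply, hc]
      exact LinearMap.congr_fun hcomp x
    refine ⟨A, T, hTb, fun x hx => ?_⟩
    choose e he using hfree (co x) (by rw [← hT, hTb, hx, smul_zero])
    refine ⟨∑ l, e l, ?_⟩
    show b ^ (∑ l, e l) • Fintype.linearCombination R v (co x) = 0
    rw [Fintype.linearCombination_apply, Finset.smul_sum]
    refine Finset.sum_eq_zero fun l _ => ?_
    obtain ⟨t, ht⟩ : ∃ t, ∑ i, e i = e l + t :=
      Nat.exists_eq_add_of_le (Finset.single_le_sum (fun i _ => Nat.zero_le (e i)) (Finset.mem_univ l))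
    rw [ht, Nat.add_comm, pow_add, mul_smul, smul_smul (b ^ e l), he, zero_smul, smul_zero]
  obtain ⟨Bs, hBS, hBs⟩ := Submodule.mem_span_finite_of_mem_span ((Ideal.eq_top_iff_one _).1 hS)
  have hBs' : Ideal.span ((Bs : Set R)) = ⊤ := (Ideal.eq_top_iff_one _).2 hBs
  choose A T hT hker using fun b : ↥(Bs : Set R) => hBS b.2
  -- the kernel is finitely generated
  let gens : Set (Fin N → R) := Set.range fun p : ↥(Bs : Set R) × Fin N =>
    (p.1 : R) ^ A p.1 • Pi.single p.2 (1 : R) - T p.1 (Pi.single p.2 1)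
  have hgens : LinearMap.ker π = Submodule.span R gens := by
    refine le_antisymm (fun x hx => ?_) (Submodule.span_le.2 ?_)
    · refine Submodule.mem_of_span_eq_top_of_smul_pow_mem _ _ hBs' _ fun b => ?_
      obtain ⟨k, hk⟩ := hker b x hx
      refine ⟨k + A b, ?_⟩
      have h1 : (b : R) ^ A b • x - T b x ∈ Submodule.span R gens := by
        let L : (Fin N → R) →ₗ[R] Fin N → R := (b : R) ^ A b • LinearMap.id - T b
        have hL : LinearMap.range L ≤ Submodule.span R gens := by
          rw [LinearMap.range_eq_map, ← (Pi.basisFun R (Fin N)).span_eq, Submodule.map_span, Submodule.span_le]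
          rintro _ ⟨_, ⟨j, rfl⟩, rfl⟩
          exact Submodule.subset_span ⟨(b, j), by simp [L]⟩
        exact hL ⟨x, rfl⟩
      have h2 := Submodule.smul_mem _ ((b : R) ^ k) h1
      rwa [smul_sub, hk, sub_zero, smul_smul, ← pow_add] at h2
    · rintro _ ⟨⟨b, j⟩, rfl⟩
      simp [hT]
  have hfg : (LinearMap.ker π).FG :=
    ⟨(Set.finite_range _).toFinset, by rw [Set.Finite.coe_toFinset, hgens]⟩
  obtain ⟨G, hG⟩ := hfg
  have huni : ∀ b : ↥(Bs : Set R), ∃ k : ℕ, ∀ x ∈ LinearMap.ker π, (b : R) ^ k • T b x = 0 := fun b => by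
    choose k hk using fun y : ↥G => hker b (y : Fin N → R)
      (LinearMap.mem_ker.1 (hG ▸ Submodule.subset_span y.2))
    refine ⟨∑ y, k y, fun x hx => ?_⟩
    have hle : LinearMap.ker π ≤ LinearMap.ker (((b : R) ^ ∑ y, k y) • T b) := by
      rw [← hG, Submodule.span_le]
      intro y hy
      rw [SetLike.mem_coe, LinearMap.mem_ker, LinearMap.smul_apply]
      obtain ⟨t, ht⟩ : ∃ t, ∑ y, k y = k ⟨y, hy⟩ + t :=
        Nat.exists_eq_add_of_le (Finset.single_le_sum (fun i _ => Nat.zero_le (k i)) (Finset.mem_univ _))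
      rw [ht, Nat.add_comm, pow_add, mul_smul, hk ⟨y, hy⟩, smul_zero]
    exact hle hx
  choose k hk using huni
  let sec : ↥(Bs : Set R) → (M →ₗ[R] Fin N → R) := fun b =>
    (Submodule.liftQ (LinearMap.ker π) (((b : R) ^ k b) • T b) fun x hx => hk b x hx).comp
      (π.quotKerEquivOfSurjective hπ).symm.toLinearMap
  have hsec : ∀ b m, π (sec b m) = (b : R) ^ (k b + A b) • m := fun b m => by
    obtain ⟨x, rfl⟩ := hπ m
    have : (π.quotKerEquivOfSurjective hπ).symm (π x) = Submodule.Quotient.mk x := by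
      rw [LinearEquiv.symm_apply_eq]; rfl
    simp only [sec, LinearMap.comp_apply, LinearEquiv.coe_coe, this]
    show π (((b : R) ^ k b • T b) x) = _
    rw [LinearMap.smul_apply, map_smul, hT, smul_smul, ← pow_add]
  let E := ∑ b : ↥(Bs : Set R), (k b + A b)
  obtain ⟨c, hc⟩ := (Ideal.mem_span_range_iff_exists_fun).1
    ((Ideal.eq_top_iff_one _).1 (Ideal.span_range_pow_eq_top (Bs : Set R) hBs' fun _ => E))
  refine Module.Projective.of_split (∑ b, (c b * (b : R) ^ (E - (k b + A b))) • sec b) π (LinearMap.ext fun m => ?_)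
  rw [LinearMap.comp_apply, LinearMap.sum_apply, map_sum, LinearMap.id_apply]
  calc ∑ b, π (((c b * (b : R) ^ (E - (k b + A b))) • sec b) m) = ∑ b, (c b * (b : R) ^ E) • m :=
        Finset.sum_congr rfl fun b _ => by
          rw [LinearMap.smul_apply, map_smul, hsec, smul_smul, mul_assoc, ← pow_add,
            Nat.sub_add_cancel (Finset.single_le_sum (f := fun b : ↥(Bs : Set R) => k b + A b)
              (fun i _ => Nat.zero_le _) (Finset.mem_univ b))]
    _ = m := by rw [← Finset.sum_smul, hc, one_smul]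

section

variable {A B : Type u} [CommRing A] [CommRing B] [Algebra A B]

theorem sub_lmul_mem (c : B ⊗[A] B) :
    c - algebraMap B (B ⊗[A] B) (Algebra.TensorProduct.lmul' A c) ∈ ideal A B := by
  show _ ∈ RingHom.ker (Algebra.TensorProduct.lmul' A : B ⊗[A] B →ₐ[A] B)
  rw [RingHom.mem_ker, map_sub, Algebra.TensorProduct.algebraMap_apply, Algebra.algebraMap_self, RingHom.id_apply,
    Algebra.TensorProduct.lmul'_apply_tmul, mul_one, sub_self]

theorem smul_omega (c : B ⊗[A] B) (ω : KaehlerDifferential A B) :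
    c • ω = Algebra.TensorProduct.lmul' A c • ω := by
  obtain ⟨y, rfl⟩ := KaehlerDifferential.fromIdeal_surjective A B ω
  rw [← IsScalarTower.algebraMap_smul (B ⊗[A] B) (Algebra.TensorProduct.lmul' A c), ← sub_eq_zero, ← sub_smul,
    ← map_smul, ← map_zero (KaehlerDifferential.fromIdeal A B), fromIdeal_eq_iff]
  simp only [Submodule.coe_smul, smul_eq_mul, Submodule.coe_zero, sub_zero, pow_two]
  exact Ideal.mul_mem_mul (sub_lmul_mem c) y.2

theorem isDiffSmooth_of_isLocallyQuasiRegular [Algebra.FiniteType A B]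
    (h : PP16.IsLocallyQuasiRegular (B ⊗[A] B) (ideal A B)) : PP16.IsDiffSmooth A B := by
  classical
  let μ : B ⊗[A] B →ₐ[A] B := Algebra.TensorProduct.lmul' A
  have hloc : ∀ (q : Ideal B) [q.IsPrime], ∃ b, b ∉ q ∧ ∃ (r : ℕ) (ζ : Fin r → B ⊗[A] B) (e : B ⊗[A] B),
      μ e = b ∧ QRAway (ideal A B) ζ e := fun q _ => by
    have hIP : ideal A B ≤ q.comap μ.toRingHom := fun x hx => by
      rw [Ideal.mem_comap]
      exact (RingHom.mem_ker.1 hx).symm ▸ q.zero_mem
    obtain ⟨e, he, r, ζ, hζ⟩ := exists_QRAway_of_isLocallyQuasiRegular h (q.comap μ.toRingHom) hIP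
    exact ⟨μ e, he, r, ζ, e, rfl, hζ⟩
  let w : {r : ℕ} → {ζ : Fin r → B ⊗[A] B} → (∀ i, ζ i ∈ ideal A B) → Fin r → KaehlerDifferential A B :=
    fun {_} {ζ} hζ i => KaehlerDifferential.fromIdeal A B ⟨ζ i, hζ i⟩
  have hgen : ∀ {r : ℕ} {ζ : Fin r → B ⊗[A] B} {e : B ⊗[A] B} (hq : QRAway (ideal A B) ζ e)
      (x : KaehlerDifferential A B), ∃ k : ℕ, μ e ^ k • x ∈ Submodule.span B (Set.range (w hq.1)) := by
    intro r ζ e hq x
    obtain ⟨k, hk⟩ := hq.2.1 (liftI x) (liftI x).2
    obtain ⟨c, hc⟩ := (Ideal.mem_span_range_iff_exists_fun).1 hk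
    refine ⟨k, ?_⟩
    have h1 : (e ^ k) • x = ∑ i, c i • w hq.1 i := by
      conv_lhs => rw [← fromIdeal_liftI x, ← map_smul]
      simp only [w, ← map_smul, ← map_sum]
      congr 1
      ext
      simp [hc]
    rw [← map_pow, ← smul_omega, h1]
    refine Submodule.sum_mem _ fun i _ => ?_
    rw [smul_omega]
    exact Submodule.smul_mem _ _ (Submodule.subset_span ⟨i, rfl⟩)
  have hproj : Module.Projective B (KaehlerDifferential A B) := by
    refine projective_of_local_bases fun q _ => ?_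
    obtain ⟨b, hb, r, ζ, e, rfl, hq⟩ := hloc q
    refine ⟨μ e, hb, r, w hq.1, hgen hq, fun a ha i => ?_⟩
    have hmem : ∑ i, algebraMap B (B ⊗[A] B) (a i) * ζ i ∈ ideal A B ^ 2 := by
      have h1 : KaehlerDifferential.fromIdeal A B (∑ i, algebraMap B (B ⊗[A] B) (a i) • ⟨ζ i, hq.1 i⟩) =
          KaehlerDifferential.fromIdeal A B 0 := by
        rw [map_sum, map_zero, ← ha]
        refine Finset.sum_congr rfl fun i _ => ?_
        rw [map_smul, IsScalarTower.algebraMap_smul]
      have h2 := (fromIdeal_eq_iff _ _).1 h1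
      simpa using h2
    obtain ⟨k, hk⟩ := hq.coeff_mem_of_relation _ hmem i
    refine ⟨k, ?_⟩
    have h3 : μ (e ^ k * algebraMap B (B ⊗[A] B) (a i)) = 0 := RingHom.mem_ker.1 hk
    simpa [map_mul, map_pow, μ] using h3
  refine isDiffSmooth_iff_injective.2 ⟨hproj, fun κ _ => ?_⟩
  rw [injective_iff_map_eq_zero]
  intro s hs
  let ann : Ideal B := (Submodule.span B {s}).annihilator
  suffices hann : ann = ⊤ by
    have : (1 : B) ∈ ann := hann ▸ Submodule.mem_top
    have h1 := Submodule.mem_annihilator.1 this s (Submodule.mem_span_singleton_self s)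
    rwa [one_smul] at h1
  by_contra hne
  obtain ⟨q, hqmax, hle⟩ := Ideal.exists_le_maximal _ hne
  obtain ⟨b, hb, r, ζ, e, rfl, hq⟩ := hloc q
  let u : (Fin r →₀ B) →ₗ[B] KaehlerDifferential A B := Finsupp.linearCombination B (w hq.1)
  let Su : SymmetricPower B κ (Fin r →₀ B) →ₗ[B] SymmetricPower B κ (KaehlerDifferential A B) :=
    symLift ((SymmetricPower.tprod B).compLinearMap fun _ => u) fun σ x => by
      simp only [MultilinearMap.compLinearMap_apply]
      exact SymmetricPower.tprod_equiv σ fun i => u (x i)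
  have hrange : ∃ N : ℕ, μ e ^ N • s ∈ LinearMap.range Su := by
    have hmem : s ∈ Submodule.span B (Set.range (SymmetricPower.tprod B (ι := κ) (M := KaehlerDifferential A B))) :=
      (SymmetricPower.span_tprod_eq_top (R := B) (ι := κ) (M := KaehlerDifferential A B)) ▸ Submodule.mem_top
    clear hle hne hs
    induction hmem using Submodule.span_induction with
    | mem x hx =>
      obtain ⟨x, rfl⟩ := hx
      choose k hk using fun i => hgen hq (x i)
      choose c hc using fun i => (Finsupp.mem_span_range_iff_exists_finsupp).1 (hk i)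
      refine ⟨∑ i, k i, SymmetricPower.tprod B c, ?_⟩
      rw [symLift_tprod, MultilinearMap.compLinearMap_apply, ← Finset.prod_pow_eq_pow_sum,
        ← MultilinearMap.map_smul_univ]
      congr 1
      ext i
      rw [← hc i]
      exact Finsupp.linearCombination_apply B (c i)
    | zero => exact ⟨0, 0, by simp⟩
    | add x y _ _ hx hy =>
      obtain ⟨M, hM⟩ := hx
      obtain ⟨N, hN⟩ := hy
      refine ⟨M + N, ?_⟩
      rw [smul_add]
      refine add_mem ?_ ?_
      · rw [Nat.add_comm, pow_add, mul_smul]; exact Submodule.smul_mem _ _ hM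
      · rw [pow_add, mul_smul]; exact Submodule.smul_mem _ _ hN
    | smul c x _ hx =>
      obtain ⟨M, hM⟩ := hx
      exact ⟨M, by rw [smul_comm]; exact Submodule.smul_mem _ _ hM⟩
  obtain ⟨N, t, ht⟩ := hrange
  let ev : MvPolynomial (Fin r) B →ₐ[B] B ⊗[A] B := MvPolynomial.aeval ζ
  have hcomp : ((Ideal.Quotient.mkₐ B (ideal A B ^ (Fintype.card κ + 1))).toLinearMap.comp
      (ev.toLinearMap.comp (polyMap (ι := κ) LinearMap.id))) =
        (incl A B (Fintype.card κ)).comp ((canMap A B κ).comp Su) := by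
    refine LinearMap.ext_on (span_tprod_of_span (ι := κ) (fun l : Fin r => Finsupp.single l (1 : B))
      (by rw [← Finsupp.coe_basisSingleOne]; exact Module.Basis.span_eq _)) ?_
    rintro _ ⟨a, rfl⟩
    simp only [LinearMap.comp_apply, AlgHom.toLinearMap_apply, Ideal.Quotient.mkₐ_eq_mk, polyMap_tprod,
      LinearMap.id_apply, linForm_single]
    have h1 : Su (SymmetricPower.tprod B fun i => Finsupp.single (a i) 1) =
        SymmetricPower.tprod B fun i => KaehlerDifferential.fromIdeal A B ⟨ζ (a i), hq.1 (a i)⟩ := by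
      rw [symLift_tprod, MultilinearMap.compLinearMap_apply]
      congr 1
      ext i
      simp [u, w]
    rw [h1, canMap_tprod, prodMap_fromIdeal, map_prod]
    simp only [ev, MvPolynomial.aeval_X]
    rfl
  have h0 := LinearMap.congr_fun hcomp t
  simp only [LinearMap.comp_apply, AlgHom.toLinearMap_apply, Ideal.Quotient.mkₐ_eq_mk, ht, map_smul, hs,
    smul_zero, map_zero] at h0
  rw [Ideal.Quotient.eq_zero_iff_mem] at h0
  set FB := polyMap (ι := κ) (LinearMap.id : (Fin r →₀ B) →ₗ[B] Fin r →₀ B) t with hFB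
  have hcoef : ∀ d, ∃ k : ℕ, μ e ^ k * FB.coeff d = 0 := fun d => by
    obtain ⟨k, hk⟩ := hq.2.2 _ (MvPolynomial.map (algebraMap B (B ⊗[A] B)) FB) ((isHomogeneous_polyMap _ t).map _) (by
      rw [MvPolynomial.eval_map, ← MvPolynomial.aeval_def]; exact h0) d
    refine ⟨k, ?_⟩
    have h3 : μ (e ^ k * algebraMap B (B ⊗[A] B) (FB.coeff d)) = 0 := by
      rw [MvPolynomial.coeff_map] at hk; exact RingHom.mem_ker.1 hk
    simpa [map_mul, map_pow, μ] using h3
  choose k hk using hcoef
  let K := ∑ d ∈ FB.support, k d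
  have hzero : μ e ^ K • t = 0 := by
    apply polyMap_injective (ι := κ) (LinearMap.id : (Fin r →₀ B) →ₗ[B] Fin r →₀ B) LinearMap.id fun x => rfl
    rw [map_smul, map_zero]
    ext d
    rw [MvPolynomial.coeff_smul, smul_eq_mul, MvPolynomial.coeff_zero, ← hFB]
    by_cases hd : d ∈ FB.support
    · obtain ⟨t', ht'⟩ : ∃ t', K = k d + t' :=
        Nat.exists_eq_add_of_le (Finset.single_le_sum (fun i _ => Nat.zero_le (k i)) hd)
      rw [ht', Nat.add_comm, pow_add, mul_assoc, hk, mul_zero]
    · rw [MvPolynomial.notMem_support_iff.1 hd, mul_zero]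
  have : μ e ^ (K + N) ∈ ann := by
    rw [Submodule.mem_annihilator_span_singleton]
    rw [pow_add, mul_smul, ← ht, ← map_smul, hzero, map_zero]
  exact hb (hqmax.isPrime.mem_of_pow_mem _ (hle this))

theorem realises_eval {σ : Type w} {j : KaehlerDifferential A B →ₗ[B] σ →₀ B} {ι : Type u} [Fintype ι]
    {ℓ : B ⊗[A] B →ₗ[B] MvPolynomial σ B} (hℓ : Realises j (Fintype.card ι) (id : B → B) ℓ)
    (y : ι → ideal A B) :
    ℓ (∏ i, (y i : B ⊗[A] B)) = ∏ i, linForm B σ (j (KaehlerDifferential.fromIdeal A B (y i))) := by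
  let Ψ : PP16.grI A B (Fintype.card ι) →ₗ[B] MvPolynomial σ B :=
    Submodule.liftQ _ (ℓ.comp ((ideal A B ^ Fintype.card ι).restrictScalars B).subtype)
      fun x hx => hℓ.1 _ hx
  have hcomp : Ψ.comp (canMap A B ι) = polyMap j := by
    refine LinearMap.ext_on (span_tprod_of_span (fun a => KaehlerDifferential.D A B a)
      (KaehlerDifferential.span_range_derivation A B)) ?_
    rintro _ ⟨b, rfl⟩
    simp only [LinearMap.comp_apply, canMap_tprod_D, polyMap_tprod]
    show ℓ (∏ i, zeta A (b i)) = _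
    let e := (Fintype.equivFin ι).symm
    rw [← Equiv.prod_comp e]
    exact (hℓ.2 fun k => b (e k)).trans
      (Equiv.prod_comp e (fun i => linForm B σ (j (KaehlerDifferential.D A B (b i)))))
  have h := LinearMap.congr_fun hcomp (SymmetricPower.tprod B fun i => KaehlerDifferential.fromIdeal A B (y i))
  rw [LinearMap.comp_apply, canMap_tprod, prodMap_fromIdeal, polyMap_tprod] at h
  exact h

theorem isLocallyQuasiRegular_of_isDiffSmooth [Algebra.FiniteType A B] (hB : PP16.IsDiffSmooth A B) :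
    PP16.IsLocallyQuasiRegular (B ⊗[A] B) (ideal A B) := by
  classical
  let μ : B ⊗[A] B →ₐ[A] B := Algebra.TensorProduct.lmul' A
  let emb : B →+* B ⊗[A] B := algebraMap B (B ⊗[A] B)
  obtain ⟨hproj, -⟩ := id hB
  refine isLocallyQuasiRegular_of_QRAway fun P hP hIP => ?_
  let q : Ideal B := P.comap emb
  have hq : q.IsPrime := Ideal.IsPrime.comap emb
  have hPq : ∀ x, x ∈ P ↔ μ x ∈ q := fun x => by
    have h1 : x - emb (μ x) ∈ P := hIP (sub_lmul_mem x)
    exact ⟨fun hx => by simpa [q] using P.sub_mem hx h1, fun hx => by simpa [q] using P.add_mem h1 hx⟩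
  -- a minimal generating family near `q`
  have hex : ∃ r, ∃ (w : Fin r → KaehlerDifferential A B) (b : B), b ∉ q ∧
      ∀ x, b • x ∈ Submodule.span B (Set.range w) := by
    obtain ⟨r, w, hw⟩ := Module.Finite.exists_fin (R := B) (M := KaehlerDifferential A B)
    exact ⟨r, w, 1, fun h => hq.ne_top ((Ideal.eq_top_iff_one _).2 h), fun x => by rw [hw]; exact Submodule.mem_top⟩
  obtain ⟨r, ⟨w, b, hbq, hgen⟩, hleast⟩ : ∃ r, (∃ (w : Fin r → KaehlerDifferential A B) (b : B), b ∉ q ∧
      ∀ x, b • x ∈ Submodule.span B (Set.range w)) ∧ ∀ r' < r, ¬ ∃ (w : Fin r' → KaehlerDifferential A B) (b : B),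
        b ∉ q ∧ ∀ x, b • x ∈ Submodule.span B (Set.range w) :=
    ⟨Nat.find hex, Nat.find_spec hex, fun _ h => Nat.find_min hex h⟩
  have hmin : ∀ a : Fin r → B, ∑ i, a i • w i = 0 → ∀ i, a i ∈ q := by
    intro a ha i
    by_contra hai
    obtain ⟨r', hr'⟩ : ∃ r', r = r' + 1 := Nat.exists_eq_succ_of_ne_zero (by have := i.2; omega)
    let e : Fin r' ≃ {j : Fin r // j ≠ i} := (Fintype.equivFinOfCardEq (by
      rw [Fintype.card_subtype_compl]; simp; omega)).symm
    refine hleast r' (by omega) ⟨fun k => w (e k).1, b * a i, fun hm => (hq.mem_or_mem hm).elim hbq hai, fun x => ?_⟩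
    set O := Submodule.span B (Set.range fun k => w (e k).1)
    have hO : ∀ j, j ≠ i → w j ∈ O := fun j hj => Submodule.subset_span ⟨e.symm ⟨j, hj⟩, by simp⟩
    have hwi : a i • w i ∈ O := by
      rw [← Finset.add_sum_erase _ _ (Finset.mem_univ i), add_eq_zero_iff_eq_neg] at ha
      rw [ha]
      exact neg_mem (Submodule.sum_mem _ fun j hj => Submodule.smul_mem _ _ (hO j (Finset.ne_of_mem_erase hj)))
    obtain ⟨c, hc⟩ := (Submodule.mem_span_range_iff_exists_fun B).1 (hgen x)
    rw [mul_comm, mul_smul, ← hc, Finset.smul_sum]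
    refine Submodule.sum_mem _ fun j _ => ?_
    by_cases hj : j = i
    · subst hj; rw [smul_comm]; exact Submodule.smul_mem _ _ hwi
    · exact Submodule.smul_mem _ _ (Submodule.smul_mem _ _ (hO j hj))
  -- coordinates
  let u : (Fin r → B) →ₗ[B] KaehlerDifferential A B := Fintype.linearCombination B w
  have hu : ∀ x, b • x ∈ LinearMap.range u := fun x => by
    rw [Fintype.range_linearCombination]; exact hgen x
  obtain ⟨v, hv⟩ := Module.projective_lifting_property u.rangeRestrict
    ((b • LinearMap.id).codRestrict (LinearMap.range u) hu) u.surjective_rangeRestrict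
  have hv' : ∀ x, u (v x) = b • x := fun x => congrArg Subtype.val (LinearMap.congr_fun hv x)
  let V : Matrix (Fin r) (Fin r) B := Matrix.of fun i j => v (w j) i
  have hV : ∀ i j, V i j - (if i = j then b else 0) ∈ q := fun i j => by
    refine hmin (fun i => V i j - (if i = j then b else 0)) ?_ i
    simp only [sub_smul, Finset.sum_sub_distrib, ite_smul, zero_smul, Finset.sum_ite_eq', Finset.mem_univ, if_true]
    rw [sub_eq_zero]
    exact (Fintype.linearCombination_apply B w (v (w j))).symm.trans (hv' (w j))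
  have hdet : V.det ∉ q := by
    intro hm
    have h1 : V.map (Ideal.Quotient.mk q) = Ideal.Quotient.mk q b • 1 := by
      ext i j
      have := Ideal.Quotient.eq.2 (hV i j)
      rw [Matrix.map_apply, this, Matrix.smul_apply, Matrix.one_apply, smul_eq_mul, apply_ite (Ideal.Quotient.mk q), map_zero]
      split_ifs <;> simp
    have h2 := congrArg Matrix.det h1
    rw [← RingHom.mapMatrix_apply, ← RingHom.map_det, Ideal.Quotient.eq_zero_iff_mem.2 hm, Matrix.det_smul,
      Matrix.det_one, mul_one, ← map_pow, eq_comm, Ideal.Quotient.eq_zero_iff_mem] at h2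
    exact hbq (hq.mem_of_pow_mem _ h2)
  let j : KaehlerDifferential A B →ₗ[B] Fin r →₀ B :=
    (Finsupp.linearEquivFunOnFinite B B (Fin r)).symm.toLinearMap.comp ((Matrix.mulVecLin V.adjugate).comp v)
  have hj : ∀ k, linForm B (Fin r) (j (w k)) = MvPolynomial.C V.det * MvPolynomial.X k := fun k => by
    have h1 : Matrix.mulVec V.adjugate (v (w k)) = Pi.single k V.det := by
      have h2 : v (w k) = Matrix.mulVec V (Pi.single k 1) := by ext i; simp [V]
      rw [h2, Matrix.mulVec_mulVec, Matrix.adjugate_mul, Matrix.smul_mulVec, Matrix.one_mulVec]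
      ext i
      by_cases hik : i = k <;> simp [hik]
    have h3 : j (w k) = Finsupp.single k V.det := by
      show (Finsupp.linearEquivFunOnFinite B B (Fin r)).symm (Matrix.mulVec V.adjugate (v (w k))) = _
      rw [h1]
      ext i
      by_cases hik : i = k <;> simp [hik]
    rw [h3, linForm, Finsupp.linearCombination_single, MvPolynomial.smul_eq_C_mul]
  -- generators of the ideal
  obtain ⟨gI, hgI⟩ := KaehlerDifferential.ideal_fg A B
  set I := ideal A B
  let ζ : Fin r → I := fun k => liftI (w k)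
  set J : Ideal (B ⊗[A] B) := Ideal.span (Set.range fun k => (ζ k : B ⊗[A] B))
  have hsq : ∀ x ∈ I, emb b * x ∈ J ⊔ I ^ 2 := fun x hx => by
    obtain ⟨c, hc⟩ := (Submodule.mem_span_range_iff_exists_fun B).1 (hgen (KaehlerDifferential.fromIdeal A B ⟨x, hx⟩))
    have h1 : KaehlerDifferential.fromIdeal A B (∑ k, emb (c k) • ζ k) =
        KaehlerDifferential.fromIdeal A B (emb b • ⟨x, hx⟩) := by
      rw [map_sum, map_smul, IsScalarTower.algebraMap_smul, ← hc]
      refine Finset.sum_congr rfl fun k _ => ?_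
      rw [map_smul, IsScalarTower.algebraMap_smul]
      exact congrArg (c k • ·) (fromIdeal_liftI _)
    have h2 := (fromIdeal_eq_iff _ _).1 h1.symm
    simp only [Submodule.coe_sum, Submodule.coe_smul, smul_eq_mul] at h2
    rw [show emb b * x = ∑ k, emb (c k) * (ζ k : B ⊗[A] B) + (emb b * x - ∑ k, emb (c k) * (ζ k : B ⊗[A] B)) by ring]
    exact Submodule.add_mem_sup (Ideal.sum_mem _ fun k _ => Ideal.mul_mem_left _ _ (Ideal.subset_span ⟨k, rfl⟩)) h2
  let gen : ↥gI → B ⊗[A] B := fun i => i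
  have hgenI : Ideal.span (Set.range gen) = I := by
    rw [show Set.range gen = (gI : Set (B ⊗[A] B)) from Subtype.range_coe]; exact hgI
  have hI2 : ∀ y ∈ I ^ 2, ∃ m : ↥gI → B ⊗[A] B, (∀ l, m l ∈ I) ∧ y = ∑ l, m l * gen l := fun y hy => by
    rw [pow_two] at hy
    refine Submodule.mul_induction_on hy (fun x hx z hz => ?_) fun x z hx hz => ?_
    · rw [← hgenI] at hz
      obtain ⟨c, rfl⟩ := (Ideal.mem_span_range_iff_exists_fun).1 hz
      exact ⟨fun l => x * c l, fun l => Ideal.mul_mem_right _ _ hx, by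
        rw [Finset.mul_sum]; exact Finset.sum_congr rfl fun l _ => by ring⟩
    · obtain ⟨m, hm, rfl⟩ := hx
      obtain ⟨m', hm', rfl⟩ := hz
      exact ⟨m + m', fun l => add_mem (hm l) (hm' l), by
        simp only [Pi.add_apply, add_mul, Finset.sum_add_distrib]⟩
  have hrow : ∀ i, ∃ m : ↥gI → B ⊗[A] B, (∀ l, m l ∈ I) ∧ emb b * gen i - ∑ l, m l * gen l ∈ J := fun i => by
    obtain ⟨y, hy, z, hz, hyz⟩ := Submodule.mem_sup.1 (hsq (gen i) (hgenI ▸ Ideal.subset_span ⟨i, rfl⟩))
    obtain ⟨m, hm, rfl⟩ := hI2 z hz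
    exact ⟨m, hm, by rw [← hyz, add_sub_cancel_right]; exact hy⟩
  choose m hm hmJ using hrow
  let T : Matrix ↥gI ↥gI (B ⊗[A] B) := emb b • 1 - Matrix.of m
  have hTJ : ∀ i, Matrix.mulVec T gen i ∈ J := fun i => by
    have : Matrix.mulVec T gen i = emb b * gen i - ∑ l, m i l * gen l := by
      simp [T, Matrix.mulVec, dotProduct, Matrix.one_apply, sub_mul, Finset.sum_sub_distrib]
    rw [this]; exact hmJ i
  have hTgen : ∀ i, T.det * gen i ∈ J := fun i => by
    have h1 : Matrix.mulVec T.adjugate (Matrix.mulVec T gen) = T.det • gen := by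
      rw [Matrix.mulVec_mulVec, Matrix.adjugate_mul, Matrix.smul_mulVec, Matrix.one_mulVec]
    have h2 := congrFun h1 i
    rw [Pi.smul_apply, smul_eq_mul] at h2
    rw [← h2]
    exact Ideal.sum_mem _ fun l _ => Ideal.mul_mem_left _ _ (hTJ l)
  have hTP : T.det ∉ P := by
    intro hm'
    have h1 : T.map (Ideal.Quotient.mk P) = Ideal.Quotient.mk P (emb b) • 1 := by
      ext i l
      have : Ideal.Quotient.mk P (m i l) = 0 := Ideal.Quotient.eq_zero_iff_mem.2 (hIP (hm i l))
      simp [T, Matrix.one_apply, this, apply_ite (Ideal.Quotient.mk P)]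
    have h2 := congrArg Matrix.det h1
    rw [← RingHom.mapMatrix_apply, ← RingHom.map_det, Ideal.Quotient.eq_zero_iff_mem.2 hm', Matrix.det_smul,
      Matrix.det_one, mul_one, ← map_pow, eq_comm, Ideal.Quotient.eq_zero_iff_mem] at h2
    exact hbq (hP.mem_of_pow_mem _ h2)
  refine ⟨T.det * emb V.det, fun hm' => (hP.mem_or_mem hm').elim hTP hdet, r, fun k => (ζ k : B ⊗[A] B),
    fun k => (ζ k).2, fun x hx => ⟨1, ?_⟩, fun n F hF hFI d => ⟨n, ?_⟩⟩
  · rw [pow_one, mul_comm T.det, mul_assoc]
    refine Ideal.mul_mem_left _ _ ?_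
    rw [← hgenI] at hx
    obtain ⟨c, rfl⟩ := (Ideal.mem_span_range_iff_exists_fun).1 hx
    rw [Finset.mul_sum]
    refine Ideal.sum_mem _ fun i _ => ?_
    rw [mul_left_comm]
    exact Ideal.mul_mem_left _ _ (hTgen i)
  · obtain ⟨ℓ, hℓ⟩ := exists_realises hB j n
    have hℓsmul : ∀ (c y : B ⊗[A] B), y ∈ I ^ n → ℓ (c * y) = μ c • ℓ y := fun c y hy => by
      rw [← map_smul, Algebra.smul_def, ← sub_eq_zero, ← map_sub, ← sub_mul]
      refine hℓ.1 _ ?_
      rw [pow_succ']
      exact Ideal.mul_mem_mul (sub_lmul_mem c) hy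
    have hmon : ∀ e ∈ F.support, ℓ (∏ i, (ζ i : B ⊗[A] B) ^ e i) = MvPolynomial.monomial e (V.det ^ n) ∧
        ∏ i, (ζ i : B ⊗[A] B) ^ e i ∈ I ^ n := fun e he => by
      have hdeg : ∑ i, e i = n := (Finsupp.degree_eq_sum e).symm.trans (hF.degree_eq_sum_deg_support he).symm
      let κ := ULift.{u} ((i : Fin r) × Fin (e i))
      have hcard : Fintype.card κ = n := by simp [κ, hdeg]
      have hsigma : ∀ {M : Type (max u 0)} [CommMonoid M] (f : Fin r → M),
          ∏ k : κ, f k.down.1 = ∏ i, f i ^ e i := fun f => by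
        rw [show (∏ k : κ, f k.down.1) = ∏ k : (i : Fin r) × Fin (e i), f k.1 from
          Equiv.prod_comp Equiv.ulift (fun k : (i : Fin r) × Fin (e i) => f k.1), Fintype.prod_sigma]
        simp
      constructor
      · have h1 := realises_eval (ι := κ) (hcard.symm ▸ hℓ) (fun k => ζ k.down.1)
        rw [hsigma (fun i => (ζ i : B ⊗[A] B))] at h1
        have hw' : ∀ k, KaehlerDifferential.fromIdeal A B (ζ k) = w k := fun k => fromIdeal_liftI _
        simp only [hw', hj] at h1
        rw [hsigma (fun i => (MvPolynomial.C V.det * MvPolynomial.X i : MvPolynomial (Fin r) B))] at h1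
        rw [h1, MvPolynomial.monomial_eq, Finsupp.prod_fintype _ _ fun i => pow_zero _]
        simp only [mul_pow, Finset.prod_mul_distrib, Finset.prod_pow_eq_pow_sum, hdeg, map_pow]
      · rw [← hsigma (fun i => (ζ i : B ⊗[A] B)), ← hcard]
        exact prod_mem_ideal_pow Finset.univ _ fun k _ => (ζ _).2
    have h0 : ∑ e ∈ F.support, MvPolynomial.monomial e (μ (F.coeff e) * V.det ^ n) = 0 := by
      rw [← hℓ.1 _ hFI, MvPolynomial.eval_eq', map_sum]
      refine Finset.sum_congr rfl fun e he => ?_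
      rw [hℓsmul _ _ (hmon e he).2, (hmon e he).1, MvPolynomial.smul_monomial, smul_eq_mul]
    have h1 := congrArg (MvPolynomial.coeff d) h0
    rw [MvPolynomial.coeff_sum, MvPolynomial.coeff_zero] at h1
    simp only [MvPolynomial.coeff_monomial, Finset.sum_ite_eq'] at h1
    have h2 : μ (F.coeff d) * V.det ^ n = 0 := by
      by_cases hd : d ∈ F.support
      · rwa [if_pos hd] at h1
      · rw [MvPolynomial.notMem_support_iff.1 hd, map_zero, zero_mul]
    show _ ∈ RingHom.ker (Algebra.TensorProduct.lmul' A : B ⊗[A] B →ₐ[A] B)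
    rw [RingHom.mem_ker, mul_pow, map_mul, map_mul, mul_assoc]
    have h3 : μ (emb V.det ^ n) = V.det ^ n := by simp [μ, emb]
    show _ * (μ (emb V.det ^ n) * μ (F.coeff d)) = 0
    rw [h3, mul_comm (V.det ^ n), h2, mul_zero]

end

end PP16Lib
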