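import Groth.Agent.PP16Lib.Basic

/-!
# Principal parts of symmetric algebras
-/

set_option autoImplicit false

universe u v

open scoped TensorProduct

namespace PP16Lib

theorem sym_equiv {n : ℕ} {A B C : Type u} [CommRing A] [CommRing B] [Algebra A B] [CommRing C] [Algebra A C]
    {E : Type u} (s : E → B) (hs : Algebra.adjoin A (Set.range s) = ⊤) (q : B →ₐ[A] C)
    (hq : Function.Surjective q) (J : Ideal C) (hJ : J ^ (n + 1) = ⊥) (hsJ : ∀ t, q (s t) ∈ J)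
    (G : B →ₐ[A] B ⊗[A] C) (hG : ∀ t, G (s t) = s t ⊗ₜ[A] 1 + 1 ⊗ₜ[A] q (s t))
    (H : C →ₐ[A] PP16.P n A B)
    (hH : ∀ t, H (q (s t)) = PP16.dn n A B (s t) - algebraMap B (PP16.P n A B) (s t)) :
    ∃ e : PP16.P n A B ≃ₐ[B] B ⊗[A] C,
      ∀ t, e (PP16.dn n A B (s t)) = s t ⊗ₜ[A] 1 + 1 ⊗ₜ[A] q (s t) := by
  let inr : C →ₐ[A] B ⊗[A] C := Algebra.TensorProduct.includeRight
  let inl : B →ₐ[A] B ⊗[A] C := Algebra.TensorProduct.includeLeft
  have hJ' : (J.map inr.toRingHom) ^ (n + 1) = ⊥ := by rw [← Ideal.map_pow, hJ, Ideal.map_bot]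
  have hcong : ∀ b, G b - inl b ∈ J.map inr.toRingHom := by
    refine congr_of_adjoin inl G _ hs ?_
    rintro _ ⟨t, rfl⟩
    rw [hG, show inl (s t) = s t ⊗ₜ[A] (1 : C) from rfl, add_sub_cancel_left]
    exact Ideal.mem_map_of_mem inr.toRingHom (hsJ t)
  obtain ⟨φ₀, hφ₀, hφ₁⟩ : ∃ F : PP16.P n A B →ₐ[A] B ⊗[A] C,
      (∀ b, F (algebraMap B (PP16.P n A B) b) = inl b) ∧ ∀ b, F (PP16.dn n A B b) = G b :=
    exists_lift inl G _ hcong hJ'
  let φ : PP16.P n A B →ₐ[B] B ⊗[A] C :=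
    { φ₀.toRingHom with commutes' := fun b => hφ₀ b }
  have hφ : ∀ b, φ (PP16.dn n A B b) = G b := hφ₁
  let ψ : B ⊗[A] C →ₐ[B] PP16.P n A B :=
    Algebra.TensorProduct.lift (Algebra.ofId B _) H fun _ _ => Commute.all _ _
  have hr : ∀ c, ψ ((1 : B) ⊗ₜ[A] c) = H c := fun c => by
    rw [Algebra.TensorProduct.lift_tmul, map_one, one_mul]
  have hl : ∀ x, ψ (x ⊗ₜ[A] (1 : C)) = algebraMap B (PP16.P n A B) x := fun x => by
    rw [Algebra.TensorProduct.lift_tmul, map_one, mul_one]; rfl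
  have hψG : (ψ.restrictScalars A).comp G = PP16.dn n A B :=
    AlgHom.ext_of_adjoin_eq_top hs (by
      rintro _ ⟨t, rfl⟩
      show ψ (G (s t)) = _
      rw [hG, map_add, hl, hr, hH, add_sub_cancel])
  have h₁ : φ.comp ψ = AlgHom.id B _ := by
    refine Algebra.TensorProduct.ext (Algebra.ext_id _ _ _) (AlgHom.ext fun c => ?_)
    obtain ⟨x, rfl⟩ := hq c
    refine AlgHom.congr_fun (φ₁ := ((φ.comp ψ).restrictScalars A).comp (inr.comp q)) (φ₂ := inr.comp q)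
      (AlgHom.ext_of_adjoin_eq_top hs ?_) x
    rintro _ ⟨t, rfl⟩
    show φ (ψ ((1 : B) ⊗ₜ[A] q (s t))) = (1 : B) ⊗ₜ[A] q (s t)
    rw [hr, hH, map_sub, hφ, hG, AlgHom.commutes]
    exact add_sub_cancel_left _ _
  have h₂ : ψ.comp φ = AlgHom.id B _ := by
    refine AlgHom.coe_ringHom_injective (ringHom_ext (fun b => (ψ.comp φ).commutes b) fun b => ?_)
    show ψ (φ (PP16.dn n A B b)) = PP16.dn n A B b
    rw [hφ]
    exact AlgHom.congr_fun hψG b
  exact ⟨AlgEquiv.ofAlgHom φ ψ h₁ h₂, fun t => (hφ (s t)).trans (hG t)⟩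

theorem adjoin_range_ι (A : Type u) [CommRing A] (E : Type u) [AddCommGroup E] [Module A E] :
    Algebra.adjoin A (Set.range (SymmetricAlgebra.ι A E)) = ⊤ := by
  rw [eq_top_iff]
  rintro x -
  induction x using SymmetricAlgebra.induction with
  | algebraMap r => exact Subalgebra.algebraMap_mem _ r
  | ι x => exact Algebra.subset_adjoin ⟨x, rfl⟩
  | mul a b ha hb => exact mul_mem ha hb
  | add a b ha hb => exact add_mem ha hb

theorem pow_le_ker_of_mem {R T : Type*} [CommRing R] [CommRing T] (f : R →+* T) (K : Ideal R) (I : Ideal T)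
    (k : ℕ) (hI : I ^ k = ⊥) (h : ∀ x ∈ K, f x ∈ I) : K ^ k ≤ RingHom.ker f := by
  rw [← Ideal.map_eq_bot_iff_le_ker, Ideal.map_pow, ← le_bot_iff, ← hI]
  exact Ideal.pow_right_mono (Ideal.map_le_iff_le_comap.2 h) k

theorem map_mk_pow {R : Type*} [CommRing R] (I : Ideal R) (k : ℕ) :
    (I.map (Ideal.Quotient.mk (I ^ k))) ^ k = ⊥ := by
  rw [← Ideal.map_pow, Ideal.map_quotient_self]

theorem exists_lift_sym {A : Type u} [CommRing A] {E : Type u} [AddCommGroup E] [Module A E] {T : Type u}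
    [CommRing T] [Algebra A T] (l : E →ₗ[A] T) :
    ∃ F : SymmetricAlgebra A E →ₐ[A] T, ∀ t, F (SymmetricAlgebra.ι A E t) = l t :=
  ⟨SymmetricAlgebra.lift l, fun t => SymmetricAlgebra.lift_ι_apply l t⟩

theorem exists_algEquiv_sym (n : ℕ) (A : Type u) [CommRing A] (E : Type u) [AddCommGroup E] [Module A E] :
    ∃ e : PP16.P n A (SymmetricAlgebra A E) ≃ₐ[SymmetricAlgebra A E]
        (SymmetricAlgebra A E ⊗[A] (SymmetricAlgebra A E ⧸
          RingHom.ker (SymmetricAlgebra.lift (0 : E →ₗ[A] A)) ^ (n + 1))),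
      ∀ t : E, e (PP16.dn n A (SymmetricAlgebra A E) (SymmetricAlgebra.ι A E t)) =
        SymmetricAlgebra.ι A E t ⊗ₜ 1 + 1 ⊗ₜ Ideal.Quotient.mk _ (SymmetricAlgebra.ι A E t) := by
  let B := SymmetricAlgebra A E
  let ε : B →ₐ[A] A := SymmetricAlgebra.lift (0 : E →ₗ[A] A)
  let K : Ideal B := RingHom.ker ε
  let q : B →ₐ[A] B ⧸ K ^ (n + 1) := Ideal.Quotient.mkₐ A _
  let L : E →ₗ[A] B := SymmetricAlgebra.ι A E
  obtain ⟨G, hG⟩ := exists_lift_sym (T := B ⊗[A] (B ⧸ K ^ (n + 1)))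
    ((Algebra.TensorProduct.includeLeft (R := A) (S := A) (A := B) (B := B ⧸ K ^ (n + 1))).toLinearMap.comp L +
      (Algebra.TensorProduct.includeRight (R := A) (A := B) (B := B ⧸ K ^ (n + 1))).toLinearMap.comp
        (q.toLinearMap.comp L))
  let H₀ : B →ₐ[A] PP16.P n A B := SymmetricAlgebra.lift
    ((PP16.dn n A B).toLinearMap.comp L - (IsScalarTower.toAlgHom A B (PP16.P n A B)).toLinearMap.comp L)
  have hH₀ : ∀ t, H₀ (L t) = PP16.dn n A B (L t) - algebraMap B (PP16.P n A B) (L t) := fun t =>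
    SymmetricAlgebra.lift_ι_apply _ t
  have hmem : ∀ k ∈ K, H₀ k ∈ PP16.augIdeal n A B := fun k hk => by
    have h := congr_of_adjoin ((Algebra.ofId A (PP16.P n A B)).comp ε) H₀ (PP16.augIdeal n A B)
      (adjoin_range_ι A E) (by
        rintro _ ⟨t, rfl⟩
        rw [AlgHom.comp_apply]
        show H₀ (L t) - (Algebra.ofId A (PP16.P n A B)) (ε (L t)) ∈ _
        rw [hH₀, show ε (L t) = 0 from SymmetricAlgebra.lift_ι_apply _ t, map_zero, sub_zero]
        exact dn_sub_mem _) k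
    rwa [AlgHom.comp_apply, RingHom.mem_ker.1 hk, map_zero, sub_zero] at h
  let H : B ⧸ K ^ (n + 1) →ₐ[A] PP16.P n A B := Ideal.Quotient.liftₐ _ H₀ fun x hx =>
    pow_le_ker_of_mem H₀.toRingHom K (PP16.augIdeal n A B) (n + 1) augIdeal_pow_eq_bot hmem hx
  exact sym_equiv (fun t => L t) (adjoin_range_ι A E) q (Ideal.Quotient.mkₐ_surjective A _)
    (K.map (Ideal.Quotient.mk (K ^ (n + 1)))) (map_mk_pow K (n + 1))
    (fun t => Ideal.mem_map_of_mem _ (by rw [RingHom.mem_ker, SymmetricAlgebra.lift_ι_apply, LinearMap.zero_apply]))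
    G hG H hH₀

end PP16Lib
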